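import Groth.Agent.ProjTwist.Pn.Twist
import Groth.Agent.ProperFin.Projective
import Groth.Agent.KFlat.ProjFormula

/-!
Serre vanishing for closed subschemes of `P^r_A`.
-/

universe u

open CategoryTheory CategoryTheory.Limits AlgebraicGeometry
open Groth.Agent.CohAff

noncomputable section

namespace Groth.Agent.GrModLib

/-- Vanishing of cohomology passes back from the direct image along an affine morphism. -/
theorem subsingleton_HH_of_push {X Y : Scheme.{u}} (f : X ⟶ Y) [IsAffineHom f] (M : X.Modules)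
    [M.IsQuasicoherent] (k : ℕ) [h : Subsingleton (Coh.HH Y ((Coh.push f).obj M) k)] :
    Subsingleton (Coh.HH X M k) := by
  let R := FRes.ofMod M
  have : (R.Z 0).IsQuasicoherent := inferInstanceAs M.IsQuasicoherent
  suffices H : ∀ x : Coh.HH X (R.Z 0) k, x = 0 from
    ⟨fun a b ↦ (H a).trans (H b).symm⟩
  intro x
  obtain ⟨z, rfl⟩ := R.clsTop_surjective k x
  exact (R.clsTop_eq_zero_iff k z).2 ((R.ex_pushAff_iff f k ⊤ z).1
    (((R.pushAff f).clsTop_eq_zero_iff k z).1 (@Subsingleton.elim _ h _ _)))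

/-- Serre vanishing for `F(d)` on a closed subscheme of `P^r_A`. -/
theorem exists_vanishing_closed (A : Type u) [CommRing A] [IsNoetherianRing A] {r : ℕ}
    {X : Scheme.{u}} (i : X ⟶ CohB1.ProjSpace r A) [IsClosedImmersion i] (F : X.Modules)
    (hF : Coh.IsCoh F) :
    ∃ d₀ : ℤ, ∀ d : ℤ, d₀ ≤ d → ∀ p : ℕ, 0 < p → Subsingleton (Coh.HH X (CohB1.tensorMod F
      ((Scheme.Modules.pullback i).obj (Twist.twistProjSpace r A d))) p) := by
  have := hF.1
  obtain ⟨d₀, hd₀⟩ := ProjTwist.Pn.serre_vanishing (n := r) (R := A) ((Coh.push i).obj F)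
    (ProperFin.isCoh_push_of_isFinite i F hF)
  refine ⟨d₀, fun d hd p hp ↦ ?_⟩
  have hqt : (Twist.twistProjSpace r A d).IsQuasicoherent :=
    ProjTwist.isQCoh_twistProjSpace r A d
  have : ((Scheme.Modules.pullback i).obj (Twist.twistProjSpace r A d)).IsQuasicoherent :=
    inferInstance
  have : (CohB1.tensorMod F
      ((Scheme.Modules.pullback i).obj (Twist.twistProjSpace r A d))).IsQuasicoherent :=
    LimTop.TensorQC.isQuasicoherent_tensM F _
  let e : (Coh.push i).obj (CohB1.tensorMod F
      ((Scheme.Modules.pullback i).obj (Twist.twistProjSpace r A d))) ≅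
      ProjTwist.Pn.twF ((Coh.push i).obj F) d :=
    have := KFlat.ProjFormula.isIso_θ i F
    (asIso ((KFlat.ProjFormula.θ i F).app (Twist.twistProjSpace r A d))).symm
  have := hd₀ d hd p hp
  have := ProjTwist.Pn.subsingleton_of_iso e.symm p
  exact subsingleton_HH_of_push i _ p

end Groth.Agent.GrModLib

namespace Groth.Agent.GrModLib

/-- Eventually the alternating sum of lengths is the length of the sections. -/
theorem euler_closed_eventually (A : Type u) [CommRing A] [IsArtinianRing A] (r : ℕ)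
    {X : Scheme.{u}} [X.Over (Spec (CommRingCat.of A))] (i : X ⟶ CohB1.ProjSpace r A)
    [IsClosedImmersion i] (F : X.Modules) (hF : Coh.IsCoh F) :
    ∃ N : ℤ, ∀ n : ℤ, N ≤ n →
      ((Finset.range (r + 1)).sum fun j => (-1 : ℤ) ^ j *
        ((Module.length A (Coh.HH X (CohB1.tensorMod F
          ((Scheme.Modules.pullback i).obj (Twist.twistProjSpace r A n))) j)).toNat : ℤ)) =
      ((Module.length A (Coh.HH X (CohB1.tensorMod F
          ((Scheme.Modules.pullback i).obj (Twist.twistProjSpace r A n))) 0)).toNat : ℤ) := by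
  obtain ⟨d₀, h⟩ := exists_vanishing_closed A i F hF
  refine ⟨d₀, fun n hn ↦ ?_⟩
  rw [Finset.sum_eq_single 0]
  · simp
  · intro j _ hj
    have := h n hn j (Nat.pos_of_ne_zero hj)
    simp [Module.length_eq_zero_iff.mpr this]
  · simp

end Groth.Agent.GrModLib
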