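import Groth.Agent.CohTop.Push
import Groth.Agent.CohTop.Restrict
import Groth.Agent.CohAff.Resolution
import Groth.Agent.GrModLib.ClosedProj

/-!
Vanishing of higher direct images from charts over the affine opens of the base.
-/

universe u

open CategoryTheory CategoryTheory.Limits AlgebraicGeometry TopologicalSpace Opposite

noncomputable section

namespace Groth.Agent.GrModLib

variable {X Y Z : Scheme.{u}}

/-- `push e.inv = restrict e.hom` for an isomorphism `e`. -/
theorem nonempty_push_inv_iso (e : X ≅ Y) (N : Y.Modules) :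
    Nonempty ((Scheme.Modules.pushforward e.inv).obj N ≅ N.restrict e.hom) :=
  ⟨((Scheme.Modules.restrictFunctorAdjCounitIso e.hom).app _).symm ≪≫
    (Scheme.Modules.restrictFunctor e.hom).mapIso
      ((Scheme.Modules.pushforwardComp e.inv e.hom).app N ≪≫
        (Scheme.Modules.pushforwardCongr e.inv_hom_id).app N ≪≫
          (Scheme.Modules.pushforwardId (X := Y)).app N)⟩

/-- Cohomology of a quasi-coherent module on an open, computed on a chart. -/
theorem subsingleton_HU_of_chart (j : Z ⟶ X) [IsOpenImmersion j] (M : X.Modules) [M.IsQuasicoherent]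
    (i : ℕ) (h : Subsingleton (Coh.HH Z (M.restrict j) i)) :
    Subsingleton (CohTop.HU (Coh.toAb M) i j.opensRange) := by
  let U := j.opensRange
  let e : Z ≅ (U : Scheme.{u}) := IsOpenImmersion.isoOfRangeEq j U.ι (by simp [U])
  have he : e.hom ≫ U.ι = j := IsOpenImmersion.isoOfRangeEq_hom_fac _ _ _
  have : (M.restrict U.ι).IsQuasicoherent := Scheme.Modules.isQuasicoherent_restrictFunctor U.ι M
  obtain ⟨e'⟩ := nonempty_push_inv_iso e (M.restrict U.ι)
  let e'' : (Coh.push e.inv).obj (M.restrict U.ι) ≅ M.restrict j :=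
    e' ≪≫ ((Scheme.Modules.restrictFunctorComp e.hom U.ι).app M).symm ≪≫
      (Scheme.Modules.restrictFunctorCongr he).app M
  have : Subsingleton (Coh.HH Z ((Coh.push e.inv).obj (M.restrict U.ι)) i) :=
    (CohLin.hIso e'' i).injective.subsingleton
  have := subsingleton_HH_of_push e.inv (M.restrict U.ι) i
  exact (CohTop.Restrict.HUEquivRestr (Coh.toAb M) U i).toEquiv.subsingleton_congr.mpr this

/-- `R^i f_* M = 0` if this holds on charts over the affine opens. -/
theorem isZero_RpushAb_of_charts (f : X ⟶ Y) (M : X.Modules) [M.IsQuasicoherent] (i : ℕ)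
    (h : ∀ V : Y.Opens, IsAffineOpen V → ∃ (Z : Scheme.{u}) (j : Z ⟶ X) (_ : IsOpenImmersion j),
      j.opensRange = f ⁻¹ᵁ V ∧ Subsingleton (Coh.HH Z (M.restrict j) i)) :
    IsZero ((Coh.RpushAb f i).obj (Coh.toAb M)) := by
  refine (CohTop.Push.isZero_Rpush_iff f.base (Coh.toAb M) i).mpr fun U s y hy ↦ ?_
  obtain ⟨V, hV, hyV, hVU⟩ := exists_isAffineOpen_mem_and_subset (U := U) (x := y) hy
  obtain ⟨Z, j, hj, hr, hs⟩ := h V hV
  refine ⟨V, hVU, hyV, ?_⟩
  have := subsingleton_HU_of_chart j M i hs
  rw [hr] at this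
  exact @Subsingleton.elim _ this _ _

end Groth.Agent.GrModLib
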