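import Groth.Agent.GrModLib.Basic
import Mathlib.RingTheory.GradedAlgebra.Radical
import Mathlib.AlgebraicGeometry.ProjectiveSpectrum.Basic

/-!
Sections of `M(n)~` over `D₊(f)` are the fractions `m / f ^ e`.
-/

universe u

open DirectSum CategoryTheory AlgebraicGeometry TopologicalSpace Opposite

noncomputable section

namespace Groth.Agent.GrModLib

variable {A σ : Type u} [CommRing A] [SetLike σ A] [AddSubgroupClass σ A] {𝒜 : ℕ → σ} [GradedRing 𝒜]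
variable {M τ : Type u} [AddCommGroup M] [Module A M] [SetLike τ M] [AddSubgroupClass τ M]
  {ℳ : ℕ → τ} [DirectSum.Decomposition ℳ] [SetLike.GradedSMul 𝒜 ℳ]

variable (𝒜) in
/-- `D₊(f)`. -/
abbrev dPlus (f : A) : Opens (ProjectiveSpectrum.top 𝒜) := ProjectiveSpectrum.basicOpen 𝒜 f

lemma pow_nin {x : ProjectiveSpectrum 𝒜} {f : A} (h : f ∉ x.asHomogeneousIdeal) (e : ℕ) :
    f ^ e ∉ x.asHomogeneousIdeal :=
  fun he ↦ h (x.isPrime.mem_of_pow_mem e he)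

/-- The localization of `m / s` at a point. -/
abbrev mk (x : ProjectiveSpectrum 𝒜) (m : M) (s : A) (hs : s ∉ x.asHomogeneousIdeal) :
    GrMod.LocMod 𝒜 (M := M) x :=
  LocalizedModule.mk m ⟨s, hs⟩

lemma mk_eq_mk_iff {x : ProjectiveSpectrum 𝒜} {m m' : M} {s s' : A}
    {hs : s ∉ x.asHomogeneousIdeal} {hs' : s' ∉ x.asHomogeneousIdeal} :
    mk x m s hs = mk x m' s' hs' ↔
      ∃ c ∉ x.asHomogeneousIdeal, c • (s' • m - s • m') = 0 := by
  rw [mk, mk, LocalizedModule.mk_eq]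
  constructor
  · rintro ⟨⟨c, hc⟩, h⟩
    exact ⟨c, hc, by rw [smul_sub, sub_eq_zero]; exact h⟩
  · rintro ⟨c, hc, h⟩
    exact ⟨⟨c, hc⟩, by rw [smul_sub, sub_eq_zero] at h; exact h⟩

lemma mk_eq_zero_iff {x : ProjectiveSpectrum 𝒜} {m : M} {s : A}
    {hs : s ∉ x.asHomogeneousIdeal} :
    mk x m s hs = 0 ↔ ∃ c ∉ x.asHomogeneousIdeal, c • m = 0 := by
  rw [← LocalizedModule.zero_mk ⟨s, hs⟩]
  constructor
  · intro h
    obtain ⟨c, hc, h⟩ := mk_eq_mk_iff.mp h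
    exact ⟨c * s, fun h' ↦ (x.isPrime.mem_or_mem h').elim hc hs, by simpa [mul_smul] using h⟩
  · rintro ⟨c, hc, h⟩
    exact mk_eq_mk_iff.mpr ⟨c, hc, by simp [smul_comm c s, h]⟩

variable (𝒜) in
/-- The annihilator of an element, as an ideal. -/
def annOf (m : M) : Ideal A := LinearMap.ker (LinearMap.toSpanSingleton A M m)

lemma mem_annOf {m : M} {a : A} : a ∈ annOf (A := A) m ↔ a • m = 0 := Iff.rfl

include 𝒜 in
lemma isHomogeneous_annOf {i : ℕ} {m : M} (hm : m ∈ ℳ i) :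
    Ideal.IsHomogeneous 𝒜 (annOf (A := A) m) := by
  intro j a ha
  rw [mem_annOf] at ha ⊢
  have h := cpt_smul_right (𝒜 := 𝒜) hm (j + i) a
  rw [ha, map_zero, if_pos (Nat.le_add_left i j), Nat.add_sub_cancel] at h
  exact h.symm

/-- A homogeneous element vanishing at all points of `D₊(f)` is killed by a power of `f`. -/
theorem exists_pow_smul_eq_zero {i d : ℕ} {m : M} {f : A} (hm : m ∈ ℳ i) (hf : f ∈ 𝒜 d)
    (hd : 0 < d)
    (h : ∀ x : ProjectiveSpectrum 𝒜, f ∉ x.asHomogeneousIdeal →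
      ∃ c ∉ x.asHomogeneousIdeal, c • m = 0) :
    ∃ N : ℕ, f ^ N • m = 0 := by
  by_contra hc
  push Not at hc
  have hnot : f ∉ (annOf (A := A) m).radical := fun ⟨N, hN⟩ ↦ hc N (mem_annOf.mp hN)
  rw [(isHomogeneous_annOf (𝒜 := 𝒜) hm).radical_eq, Submodule.mem_sInf] at hnot
  push Not at hnot
  obtain ⟨p, ⟨hp, hle, hpp⟩, hfp⟩ := hnot
  have hirr : ¬ HomogeneousIdeal.irrelevant 𝒜 ≤ ⟨p, hp⟩ :=
    fun hh ↦ hfp (hh (HomogeneousIdeal.mem_irrelevant_of_mem 𝒜 hd hf))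
  obtain ⟨c, hcx, hcm⟩ := h ⟨⟨p, hp⟩, hpp, hirr⟩ hfp
  exact hcx (hle (mem_annOf.mpr hcm))

/-- The ideal spanned by homogeneous elements covering `D₊(f)` contains a power of `f`. -/
theorem exists_pow_mem_span {ι : Type*} (g : ι → A) (G : ι → ℕ) (hg : ∀ i, g i ∈ 𝒜 (G i))
    {d : ℕ} {f : A} (hf : f ∈ 𝒜 d) (hd : 0 < d)
    (h : ∀ x : ProjectiveSpectrum 𝒜, f ∉ x.asHomogeneousIdeal →
      ∃ i, g i ∉ x.asHomogeneousIdeal) :
    ∃ N : ℕ, f ^ N ∈ Ideal.span (Set.range g) := by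
  by_contra hc
  push Not at hc
  have hnot : f ∉ (Ideal.span (Set.range g)).radical := fun ⟨N, hN⟩ ↦ hc N hN
  have hhom : Ideal.IsHomogeneous 𝒜 (Ideal.span (Set.range g)) :=
    Ideal.homogeneous_span 𝒜 _ (by rintro _ ⟨i, rfl⟩; exact ⟨G i, hg i⟩)
  rw [hhom.radical_eq, Submodule.mem_sInf] at hnot
  push Not at hnot
  obtain ⟨p, ⟨hp, hle, hpp⟩, hfp⟩ := hnot
  have hirr : ¬ HomogeneousIdeal.irrelevant 𝒜 ≤ ⟨p, hp⟩ :=
    fun hh ↦ hfp (hh (HomogeneousIdeal.mem_irrelevant_of_mem 𝒜 hd hf))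
  obtain ⟨i, hi⟩ := h ⟨⟨p, hp⟩, hpp, hirr⟩ hfp
  exact hi (hle (Ideal.subset_span ⟨i, rfl⟩))

/-- The value of a section of `M(n)~` at a point. -/
abbrev valAt {n : ℤ} {U : Opens (ProjectiveSpectrum.top 𝒜)} (s : GrMod.sect 𝒜 ℳ n (op U))
    (x : ProjectiveSpectrum 𝒜) (hx : x ∈ U) : GrMod.LocMod 𝒜 (M := M) x :=
  (s.1 ⟨x, hx⟩).1

omit [DirectSum.Decomposition ℳ] in
/-- Near every point a section is one fraction, with denominator of positive degree. -/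
theorem exists_local_frac {d : ℕ} {f : A} (hf : f ∈ 𝒜 d) (hd : 0 < d) (n : ℤ)
    {U : Opens (ProjectiveSpectrum.top 𝒜)} (s : GrMod.sect 𝒜 ℳ n (op U))
    (x : ProjectiveSpectrum 𝒜) (hx : x ∈ U) (hxf : f ∉ x.asHomogeneousIdeal) :
    ∃ (j k : ℕ) (g : A) (q : M), g ∈ 𝒜 j ∧ 0 < j ∧ q ∈ ℳ k ∧ (k : ℤ) = j + n ∧
      g ∉ x.asHomogeneousIdeal ∧
      ∀ (y : ProjectiveSpectrum 𝒜) (hy : g ∉ y.asHomogeneousIdeal),
        f ∉ y.asHomogeneousIdeal ∧ ∃ hyU : y ∈ U, valAt s y hyU = mk y q g hy := by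
  obtain ⟨V, hxV, iV, i, j, ⟨a, ha⟩, ⟨t, ht⟩, nin, hdeg, hval⟩ := s.2 ⟨x, hx⟩
  obtain ⟨_, ⟨r, rfl⟩, hxr, hrV⟩ :=
    (ProjectiveSpectrum.isTopologicalBasis_basic_opens 𝒜).isOpen_iff.mp V.isOpen x hxV
  obtain ⟨p, hp⟩ : ∃ p, GradedRing.proj 𝒜 p r ∉ x.asHomogeneousIdeal := by
    by_contra! hall
    refine hxr ?_
    classical
    rw [← DirectSum.sum_support_decompose 𝒜 r]
    exact Ideal.sum_mem _ fun p _ ↦ hall p
  set h := GradedRing.proj 𝒜 p r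
  have hh : h ∈ 𝒜 p := SetLike.coe_mem _
  -- for `g = h * f * t` the point `y` is in `V`
  have hsub : ∀ y : ProjectiveSpectrum 𝒜, h * f * t ∉ y.asHomogeneousIdeal →
      y ∈ V ∧ f ∉ y.asHomogeneousIdeal := fun y hy ↦
    ⟨hrV fun hr ↦ hy (Ideal.mul_mem_right _ _ (Ideal.mul_mem_right _ _
      (y.asHomogeneousIdeal.isHomogeneous p hr))),
      fun h' ↦ hy (Ideal.mul_mem_right _ _ (Ideal.mul_mem_left _ _ h'))⟩
  have hg : h * f * t ∈ 𝒜 (p + d + j) :=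
    SetLike.mul_mem_graded (SetLike.mul_mem_graded hh hf) ht
  have hgx : h * f * t ∉ x.asHomogeneousIdeal := fun h' ↦
    ((x.isPrime.mem_or_mem h').elim (fun h'' ↦ (x.isPrime.mem_or_mem h'').elim hp hxf)
      (nin ⟨x, hxV⟩))
  have hfrac : ∀ (y : ProjectiveSpectrum 𝒜) (hy : h * f * t ∉ y.asHomogeneousIdeal),
      ∃ hyU : y ∈ U, valAt s y hyU = mk y ((h * f) • a) (h * f * t) hy := fun y hy ↦ by
    refine ⟨iV.le (hsub y hy).1, ?_⟩
    refine (hval ⟨y, (hsub y hy).1⟩).trans (mk_eq_mk_iff.mpr ⟨1, ?_, ?_⟩)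
    · exact GrMod.one_nin y
    · rw [one_smul]
      change (h * f * t) • a - t • (h * f) • a = 0
      rw [← mul_smul, mul_comm t, sub_self]
  rcases hdeg with hdeg | ha0
  · exact ⟨p + d + j, p + d + i, h * f * t, (h * f) • a, hg, by omega,
      SetLike.GradedSMul.smul_mem (SetLike.mul_mem_graded hh hf) ha,
      by push_cast at hdeg ⊢; omega, hgx,
      fun y hy ↦ ⟨(hsub y hy).2, hfrac y hy⟩⟩
  · replace ha0 : a = 0 := ha0
    set N := n.natAbs + 1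
    refine ⟨N * (p + d + j), (N * (p + d + j) + n).toNat, (h * f * t) ^ N, 0,
      by simpa using SetLike.pow_mem_graded N hg, by positivity, zero_mem _, ?_,
      pow_nin hgx N, fun y hy ↦ ?_⟩
    · have h2 : (N : ℤ) * 1 ≤ N * ((p : ℤ) + d + j) :=
        mul_le_mul_of_nonneg_left (by omega) (by positivity)
      have h3 : -n ≤ (N : ℤ) := by omega
      rw [Int.toNat_of_nonneg (by linarith)]
      push_cast
      ring
    · have hy' : h * f * t ∉ y.asHomogeneousIdeal := fun h' ↦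
        hy (Ideal.pow_mem_of_mem _ h' N (Nat.succ_pos _))
      obtain ⟨hyU, e⟩ := hfrac y hy'
      refine ⟨(hsub y hy').2, hyU, e.trans ?_⟩
      rw [ha0, smul_zero, mk, mk, LocalizedModule.zero_mk, LocalizedModule.zero_mk]

/-- Every section of `M(n)~` over `D₊(f)` is a fraction `m / f ^ e`. -/
theorem exists_frac {d : ℕ} {f : A} (hf : f ∈ 𝒜 d) (hd : 0 < d) (n : ℤ)
    {U : Opens (ProjectiveSpectrum.top 𝒜)}
    (hU : ∀ x : ProjectiveSpectrum 𝒜, f ∉ x.asHomogeneousIdeal → x ∈ U)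
    (s : GrMod.sect 𝒜 ℳ n (op U)) :
    ∃ (e i : ℕ) (m : M), m ∈ ℳ i ∧ (i : ℤ) = (e : ℤ) * d + n ∧
      ∀ (x : ProjectiveSpectrum 𝒜) (hx : f ∉ x.asHomogeneousIdeal),
        valAt s x (hU x hx) = mk x m (f ^ e) (pow_nin hx e) := by
  classical
  have H := fun x : dPlus 𝒜 f ↦ exists_local_frac hf hd n s x.1 (hU x.1 x.2) x.2
  choose J K g q hg hJ hq hK hgx hval using H
  obtain ⟨S, hS⟩ := ((Proj.isAffineOpen_basicOpen 𝒜 f hf hd).isCompact).elim_finite_subcover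
    (fun x : dPlus 𝒜 f ↦ (SetLike.coe (dPlus 𝒜 (g x)) : Set (ProjectiveSpectrum 𝒜)))
    (fun x ↦ (dPlus 𝒜 (g x)).isOpen)
    (fun x hx ↦ Set.mem_iUnion.mpr ⟨⟨x, hx⟩, hgx ⟨x, hx⟩⟩)
  -- uniform exponent on the overlaps
  have hov : ∀ a b : dPlus 𝒜 f, ∃ N, (g a * g b) ^ N • (g b • q a - g a • q b) = 0 := by
    intro a b
    refine exists_pow_smul_eq_zero (ℳ := ℳ) (i := J b + K a) (sub_mem ?_ ?_)
      (SetLike.mul_mem_graded (hg a) (hg b)) (by have := hJ a; omega) fun x hx ↦ ?_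
    · exact SetLike.GradedSMul.smul_mem (hg b) (hq a)
    · have e : J b + K a = J a + K b := by
        have := hK a; have := hK b; omega
      exact e ▸ SetLike.GradedSMul.smul_mem (hg a) (hq b)
    · have h1 : g a ∉ x.asHomogeneousIdeal := fun h' ↦ hx (Ideal.mul_mem_right _ _ h')
      have h2 : g b ∉ x.asHomogeneousIdeal := fun h' ↦ hx (Ideal.mul_mem_left _ _ h')
      obtain ⟨-, _, e1⟩ := hval a x h1
      obtain ⟨-, _, e2⟩ := hval b x h2
      exact mk_eq_mk_iff.mp (e1.symm.trans e2)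
  choose N0 hN0 using hov
  let N := (S ×ˢ S).sup fun ab ↦ N0 ab.1 ab.2
  let g' : S → A := fun a ↦ g a.1 ^ (N + 1)
  let q' : S → M := fun a ↦ g a.1 ^ N • q a.1
  have hg' : ∀ a, g' a ∈ 𝒜 ((N + 1) * J a.1) := fun a ↦ by
    simpa using SetLike.pow_mem_graded (N + 1) (hg a.1)
  have hq' : ∀ a, q' a ∈ ℳ (N * J a.1 + K a.1) := fun a ↦
    SetLike.GradedSMul.smul_mem (by simpa using SetLike.pow_mem_graded N (hg a.1)) (hq a.1)
  have hcompat : ∀ a b : S, g' b • q' a = g' a • q' b := fun a b ↦ by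
    have hle : N0 a.1 b.1 ≤ N :=
      Finset.le_sup (f := fun ab : _ × _ ↦ N0 ab.1 ab.2) (Finset.mk_mem_product a.2 b.2)
    have h := hN0 a.1 b.1
    rw [← sub_eq_zero]
    have e : g' b • q' a - g' a • q' b =
        (g a.1 * g b.1) ^ (N - N0 a.1 b.1) • (g a.1 * g b.1) ^ N0 a.1 b.1 •
          (g b.1 • q a.1 - g a.1 • q b.1) := by
      conv_rhs => rw [← mul_smul, ← pow_add, Nat.sub_add_cancel hle]
      simp only [g', q', smul_sub, ← mul_smul, mul_pow, pow_succ]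
      module
    rw [e, h, smul_zero]
  obtain ⟨e₀, he₀⟩ := exists_pow_mem_span g' (fun a ↦ (N + 1) * J a.1) hg' hf hd fun x hx ↦ by
    obtain ⟨a, ha, hxa⟩ := Set.mem_iUnion₂.mp (hS hx)
    exact ⟨⟨a, ha⟩, pow_nin hxa _⟩
  set e := e₀ + n.natAbs
  have he : f ^ e ∈ Ideal.span (Set.range g') := by
    rw [pow_add]
    exact Ideal.mul_mem_right _ _ he₀
  obtain ⟨b, hb⟩ := (Submodule.mem_span_range_iff_exists_fun A).mp he
  let c : S → A := fun a ↦ if (N + 1) * J a.1 ≤ e * d then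
    (decompose 𝒜 (b a) (e * d - (N + 1) * J a.1) : A) else 0
  have hsum : ∑ a, c a * g' a = f ^ e := by
    have hfe : f ^ e ∈ 𝒜 (e * d) := by simpa using SetLike.pow_mem_graded e hf
    have h1 : (decompose 𝒜 (∑ a, b a • g' a) (e * d) : A) = f ^ e := by
      rw [hb, decompose_of_mem_same 𝒜 hfe]
    rw [decompose_sum, DFinsupp.finsetSum_apply, AddSubmonoidClass.coe_finsetSum] at h1
    conv_rhs => rw [← h1]
    refine Finset.sum_congr rfl fun a _ ↦ ?_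
    rw [smul_eq_mul, coe_decompose_mul_of_right_mem 𝒜 _ (hg' a)]
    dsimp only [c]
    split_ifs <;> simp
  have hnn : 0 ≤ (e : ℤ) * d + n := by
    have h2 : (e : ℤ) * 1 ≤ e * d := mul_le_mul_of_nonneg_left (by omega) (by positivity)
    omega
  set i := ((e : ℤ) * d + n).toNat
  have hm : ∑ a, c a • q' a ∈ ℳ i := by
    refine sum_mem fun a _ ↦ ?_
    dsimp only [c]
    split_ifs with h
    · have h1 : e * d - (N + 1) * J a.1 + (N * J a.1 + K a.1) = i := by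
        have := hK a.1
        zify [h] at *
        rw [Int.toNat_of_nonneg hnn]
        linarith
      exact h1 ▸ SetLike.GradedSMul.smul_mem (SetLike.coe_mem (decompose 𝒜 (b a) (e * d - (N + 1) * J a.1))) (hq' a)
    · rw [zero_smul]; exact zero_mem _
  refine ⟨e, i, _, hm, Int.toNat_of_nonneg hnn, fun x hx ↦ ?_⟩
  obtain ⟨a, ha, hxa⟩ := Set.mem_iUnion₂.mp (hS hx)
  obtain ⟨-, _, ev⟩ := hval a x hxa
  refine ev.trans ?_
  have hx' : g a ^ (N + 1) ∉ x.asHomogeneousIdeal := pow_nin hxa _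
  have e1 : mk x (q a) (g a) hxa = mk x (q' ⟨a, ha⟩) (g' ⟨a, ha⟩) hx' :=
    mk_eq_mk_iff.mpr ⟨1, GrMod.one_nin x, by
      rw [one_smul, ← mul_smul]
      simp only [g', pow_succ']
      exact sub_self _⟩
  refine e1.trans (mk_eq_mk_iff.mpr ⟨1, GrMod.one_nin x, ?_⟩)
  rw [one_smul, Finset.smul_sum, sub_eq_zero, ← hsum, Finset.sum_smul]
  refine Finset.sum_congr rfl fun b' _ ↦ ?_
  rw [mul_smul, ← hcompat b' ⟨a, ha⟩, smul_comm]

end Groth.Agent.GrModLib
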