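import Groth.Agent.GrModLib.Eventual
import Groth.Agent.GrModLib.Sections

/-!
`M_n ⟶ Γ(Proj, M(n)~)` is bijective for large `n`.
-/

universe u

open DirectSum CategoryTheory AlgebraicGeometry TopologicalSpace Opposite

noncomputable section

namespace Groth.Agent.GrModLib

variable {A σ : Type u} [CommRing A] [SetLike σ A] [AddSubgroupClass σ A] {𝒜 : ℕ → σ} [GradedRing 𝒜]

variable (𝒜) in
/-- Homogeneous generators of positive degrees of the irrelevant ideal. -/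
theorem exists_irrelevant_gens [IsNoetherianRing A] :
    ∃ (r : ℕ) (f : Fin r → A) (d : Fin r → ℕ), (∀ k, 0 < d k) ∧ (∀ k, f k ∈ 𝒜 (d k)) ∧
      ∀ (i : ℕ) (a : A), 0 < i → a ∈ 𝒜 i → a ∈ Ideal.span (Set.range f) := by
  classical
  set I : Submodule A A := (HomogeneousIdeal.irrelevant 𝒜).toIdeal
  have hI : IsHom 𝒜 I := fun a ha i ↦ (HomogeneousIdeal.irrelevant 𝒜).isHomogeneous i ha
  obtain ⟨E, S, hS, hdeg⟩ := hI.exists_gens (IsNoetherian.noetherian I)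
  obtain ⟨T, hTS, hT⟩ := Submodule.fg_span_iff_fg_span_finset_subset S |>.mp
    (hS ▸ IsNoetherian.noetherian I)
  let e : Fin T.card ≃ T := T.equivFin.symm
  choose J hJ hJy using fun y : T ↦ hdeg y.1 (hTS y.2)
  refine ⟨T.card, fun k ↦ if J (e k) = 0 then 0 else (e k).1, fun k ↦ max (J (e k)) 1,
    fun k ↦ lt_max_of_lt_right one_pos, fun k ↦ ?_, fun i a hi ha ↦ ?_⟩
  · dsimp only
    split_ifs with h
    · exact zero_mem _
    · rw [max_eq_left (by omega)]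
      exact hJy (e k)
  · have haI : a ∈ I := HomogeneousIdeal.mem_irrelevant_of_mem 𝒜 hi ha
    rw [← hS, hT] at haI
    refine Submodule.span_le.mpr (fun y hy ↦ ?_) haI
    by_cases h0 : J ⟨y, hy⟩ = 0
    · have hyI : y ∈ I := hS.le (Submodule.subset_span (hTS hy))
      have h1 := (HomogeneousIdeal.mem_irrelevant_iff 𝒜 y).mp hyI
      have h2 : y ∈ 𝒜 0 := h0 ▸ hJy ⟨y, hy⟩
      rw [GradedRing.proj_apply, decompose_of_mem_same 𝒜 h2] at h1
      rw [h1]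
      exact zero_mem _
    · refine Ideal.subset_span ⟨e.symm ⟨y, hy⟩, ?_⟩
      simp [h0]

/-- A family generating the irrelevant ideal covers `Proj`. -/
theorem exists_not_mem {r : ℕ} (f : Fin r → A)
    (hirr : ∀ (i : ℕ) (a : A), 0 < i → a ∈ 𝒜 i → a ∈ Ideal.span (Set.range f))
    (x : ProjectiveSpectrum 𝒜) : ∃ k, f k ∉ x.asHomogeneousIdeal := by
  by_contra! h
  refine x.not_irrelevant_le ((HomogeneousIdeal.irrelevant_le _).mpr fun i hi a ha ↦ ?_)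
  exact Ideal.span_le.mpr (by rintro _ ⟨k, rfl⟩; exact h k) (hirr i a hi ha)

variable {M τ : Type u} [AddCommGroup M] [Module A M] [SetLike τ M] [AddSubgroupClass τ M]
  {ℳ : ℕ → τ} [DirectSum.Decomposition ℳ] [SetLike.GradedSMul 𝒜 ℳ]

/-- Restriction of a section to a smaller open. -/
abbrev resSect {n : ℤ} {U V : Opens (ProjectiveSpectrum.top 𝒜)} (h : V ≤ U)
    (s : GrMod.sect 𝒜 ℳ n (op U)) : GrMod.sect 𝒜 ℳ n (op V) :=
  GrMod.res 𝒜 ℳ n (homOfLE h).op s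

/-- Elementwise bijectivity in degree `n` gives bijectivity of `M_n ⟶ Γ(Proj, M(n)~)`. -/
theorem bijective_globalOf {r : ℕ} {f : Fin r → A} {d : Fin r → ℕ} (hd : ∀ k, 0 < d k)
    (hf : ∀ k, f k ∈ 𝒜 (d k))
    (hirr : ∀ (i : ℕ) (a : A), 0 < i → a ∈ 𝒜 i → a ∈ Ideal.span (Set.range f)) {n : ℕ}
    (hinj : InjAt ℳ f ⊤ ⊥ n) (hsurj : SurjAt ℳ f d ⊤ ⊥ n) :
    Function.Bijective (fun m : ℳ n ↦ GrMod.globalOf 𝒜 ℳ m) := by
  constructor
  · intro m m' hmm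
    have hz : ∀ x : ProjectiveSpectrum 𝒜, ∃ c ∉ x.asHomogeneousIdeal,
        c • ((m : M) - m') = 0 := fun x ↦ by
      have h : mk x (m : M) 1 (GrMod.one_nin x) = mk x (m' : M) 1 (GrMod.one_nin x) :=
        congrArg (fun s : GrMod.sect 𝒜 ℳ (n : ℤ) (op ⊤) ↦ valAt s x trivial) hmm
      simpa using mk_eq_mk_iff.mp h
    have h0 := hinj ((m : M) - m') trivial
      (sub_mem m.2 m'.2) fun k ↦ by
      obtain ⟨e, he⟩ := exists_pow_smul_eq_zero (ℳ := ℳ) (sub_mem m.2 m'.2) (hf k) (hd k)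
        fun x _ ↦ hz x
      exact ⟨e, by rw [he]; exact zero_mem _⟩
    exact Subtype.ext (sub_eq_zero.mp ((Submodule.mem_bot A).mp h0))
  · intro s
    have hfr := fun k ↦ exists_frac (hf k) (hd k) (n : ℤ) (U := dPlus 𝒜 (f k))
      (fun _ hx ↦ hx) (resSect le_top s)
    choose e i c hc hi hval using hfr
    let E := Finset.univ.sup e
    let c' : Fin r → M := fun k ↦ f k ^ (E - e k) • c k
    have hle : ∀ k, e k ≤ E := fun k ↦ Finset.le_sup (Finset.mem_univ k)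
    have hc' : ∀ k, c' k ∈ ℳ (E * d k + n) := fun k ↦ by
      have h1 := pow_smul_mem hf (k := k) (hc k) (E - e k)
      have h2 : (E - e k) * d k + i k = E * d k + n := by
        have hik : i k = e k * d k + n := by exact_mod_cast hi k
        rw [hik, ← add_assoc, ← add_mul, Nat.sub_add_cancel (hle k)]
      rwa [h2] at h1
    have hval' : ∀ k (x : ProjectiveSpectrum 𝒜) (hx : f k ∉ x.asHomogeneousIdeal),
        valAt s x trivial = mk x (c' k) (f k ^ E) (pow_nin hx E) := fun k x hx ↦ by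
      refine (hval k x hx).trans (mk_eq_mk_iff.mpr ⟨1, GrMod.one_nin x, ?_⟩)
      rw [one_smul]
      simp only [c', ← mul_smul, ← pow_add, Nat.add_sub_cancel' (hle k)]
      exact sub_self _
    obtain ⟨m, -, hm, hmc⟩ := hsurj E c'
      (fun k ↦ ⟨trivial, hc' k⟩) fun k l ↦ by
      obtain ⟨N, hN⟩ := exists_pow_smul_eq_zero (ℳ := ℳ) (i := E * d l + (E * d k + n))
        (m := f l ^ E • c' k - f k ^ E • c' l)
        (sub_mem (pow_smul_mem hf (hc' k) E) (by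
          have h1 := pow_smul_mem hf (k := k) (hc' l) E
          rwa [add_left_comm] at h1))
        (SetLike.mul_mem_graded (hf k) (hf l)) (by have := hd k; omega) fun x hx ↦ by
        have hxk : f k ∉ x.asHomogeneousIdeal := fun h ↦ hx (Ideal.mul_mem_right _ _ h)
        have hxl : f l ∉ x.asHomogeneousIdeal := fun h ↦ hx (Ideal.mul_mem_left _ _ h)
        exact mk_eq_mk_iff.mp ((hval' k x hxk).symm.trans (hval' l x hxl))
      exact ⟨N, by rw [hN]; exact zero_mem _⟩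
    refine ⟨⟨m, hm⟩, Subtype.ext (funext fun x ↦ Subtype.ext ?_)⟩
    obtain ⟨k, hk⟩ := exists_not_mem f hirr x.1
    obtain ⟨N, hN⟩ := hmc k
    refine Eq.trans ?_ (hval' k x.1 hk).symm
    refine mk_eq_mk_iff.mpr ⟨f k ^ N, pow_nin hk N, ?_⟩
    rw [one_smul]
    exact (Submodule.mem_bot A).mp hN

/-- Elementwise bijectivity in large degrees. -/
theorem exists_uniform [IsNoetherianRing A] {r : ℕ} {f : Fin r → A} {d : Fin r → ℕ}
    (hf : ∀ k, f k ∈ 𝒜 (d k))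
    (hirr : ∀ (i : ℕ) (a : A), 0 < i → a ∈ 𝒜 i → a ∈ Ideal.span (Set.range f))
    (hTF : ∃ k : ℕ, (Submodule.span A (⋃ i ∈ Set.Ici k, (ℳ i : Set M))).FG) :
    ∃ N : ℕ, ∀ n : ℕ, N ≤ n → InjAt ℳ f ⊤ ⊥ n ∧ SurjAt ℳ f d ⊤ ⊥ n := by
  obtain ⟨k₀, hfg⟩ := hTF
  set L : Submodule A M := Submodule.span A (⋃ i ∈ Set.Ici k₀, (ℳ i : Set M))
  have hLmem : ∀ {i : ℕ} {m : M}, k₀ ≤ i → m ∈ ℳ i → m ∈ L := fun {i} {m} hi hm ↦
    Submodule.subset_span (Set.mem_iUnion₂.mpr ⟨i, hi, hm⟩)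
  have hL : IsHom ℳ L := isHom_span (𝒜 := 𝒜) fun y hy ↦ by
    obtain ⟨i, -, hi⟩ := Set.mem_iUnion₂.mp hy
    exact ⟨i, hi⟩
  obtain ⟨n₀, hgood⟩ := good_of_fg (ℳ := ℳ) hf hirr bot_le isHom_bot hL hfg
  refine ⟨max n₀ k₀, fun n hn ↦ ?_⟩
  obtain ⟨hinj, hsurj⟩ := hgood n (le_of_max_le_left hn)
  have hkn : k₀ ≤ n := le_of_max_le_right hn
  refine ⟨fun m _ hm h ↦ hinj m (hLmem hkn hm) hm h, fun e c hc hcomp ↦ ?_⟩
  obtain ⟨m, -, hm, h⟩ := hsurj e c
    (fun k ↦ ⟨hLmem (le_trans hkn (Nat.le_add_left _ _)) (hc k).2, (hc k).2⟩) hcomp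
  exact ⟨m, trivial, hm, h⟩

/-- `M_n ⟶ Γ(Proj, M(n)~)` is bijective for large `n`, when the part of high degree generates a
finite module. -/
theorem exists_bound [IsNoetherianRing A]
    (hTF : ∃ k : ℕ, (Submodule.span A (⋃ i ∈ Set.Ici k, (ℳ i : Set M))).FG) :
    ∃ N : ℕ, ∀ n : ℕ, N ≤ n → Function.Bijective (fun m : ℳ n ↦ GrMod.globalOf 𝒜 ℳ m) := by
  obtain ⟨r, f, d, hd, hf, hirr⟩ := exists_irrelevant_gens 𝒜
  obtain ⟨N, hN⟩ := exists_uniform hf hirr hTF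
  exact ⟨N, fun n hn ↦ bijective_globalOf hd hf hirr (hN n hn).1 (hN n hn).2⟩

omit [AddSubgroupClass τ M] [Decomposition ℳ] in
/-- For a finite module the condition holds. -/
theorem tf_of_finite [IsNoetherianRing A] [Module.Finite A M] :
    ∃ k : ℕ, (Submodule.span A (⋃ i ∈ Set.Ici k, (ℳ i : Set M))).FG :=
  ⟨0, IsNoetherian.noetherian _⟩

end Groth.Agent.GrModLib

namespace Groth.Agent.GrModLib

variable {A σ : Type u} [CommRing A] [SetLike σ A] [AddSubgroupClass σ A] {𝒜 : ℕ → σ} [GradedRing 𝒜]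
variable {M τ : Type u} [AddCommGroup M] [Module A M] [SetLike τ M] [AddSubgroupClass τ M]
  {ℳ : ℕ → τ} [DirectSum.Decomposition ℳ] [SetLike.GradedSMul 𝒜 ℳ]

/-- For large degrees every global section has the values of some `m / 1`. -/
theorem exists_bound_val [IsNoetherianRing A]
    (hTF : ∃ k : ℕ, (Submodule.span A (⋃ i ∈ Set.Ici k, (ℳ i : Set M))).FG) :
    ∃ N : ℕ, ∀ (n : ℕ) (n' : ℤ), N ≤ n → n' = n → ∀ s : GrMod.sect 𝒜 ℳ n' (op ⊤),
      ∃ m ∈ ℳ n, ∀ x : ProjectiveSpectrum 𝒜, valAt s x trivial = mk x m 1 (GrMod.one_nin x) := by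
  obtain ⟨N, hN⟩ := exists_bound (𝒜 := 𝒜) hTF
  refine ⟨N, fun n n' hn hn' s ↦ ?_⟩
  subst hn'
  obtain ⟨m, rfl⟩ := (hN n hn).2 s
  exact ⟨m.1, m.2, fun x ↦ rfl⟩

end Groth.Agent.GrModLib
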