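import Groth.Agent.GrModLib.Basic
import Mathlib.Algebra.DirectSum.Module

/-!
Gradings of shifted free modules and of quotients by homogeneous submodules.
-/

universe u

open DirectSum

noncomputable section

namespace Groth.Agent.GrModLib

variable {R : Type u} [CommRing R] {M : Type u} [AddCommGroup M] [Module R M]

/-- A grading from projections. -/
@[instance_reducible]
def decompositionOfProj (ℳ : ℕ → Submodule R M) (π : ℕ → M →ₗ[R] M)
    (h1 : ∀ i, ∀ m ∈ ℳ i, π i m = m) (h2 : ∀ i k, k ≠ i → ∀ m ∈ ℳ k, π i m = 0)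
    (h3 : ∀ m, m ∈ ⨆ i, ℳ i) : DirectSum.Decomposition ℳ :=
  (DirectSum.isInternal_submodule_of_iSupIndep_of_iSup_eq_top
    (iSupIndep_def.mpr fun i ↦ disjoint_iff.mpr ((Submodule.eq_bot_iff _).mpr fun m ⟨hi, hm⟩ ↦ by
      have h0 : (⨆ k, ⨆ (_ : k ≠ i), ℳ k) ≤ LinearMap.ker (π i) :=
        iSup₂_le fun k hk m hm ↦ h2 i k hk m hm
      rw [← h1 i m hi]
      exact h0 hm))
    (eq_top_iff.mpr fun m _ ↦ h3 m)).chooseDecomposition

variable {A : Type u} [CommRing A] [Algebra R A] (𝒜 : ℕ → Submodule R A) [GradedAlgebra 𝒜]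

section Free

variable {κ : Type u} (d : κ → ℕ)

/-- `⊕ A(-d j)`. -/
def freeGr (i : ℕ) : Submodule R (κ → A) :=
  Submodule.pi Set.univ fun j ↦ if d j ≤ i then 𝒜 (i - d j) else ⊥

variable {𝒜 d}

omit [GradedAlgebra 𝒜] in
lemma mem_freeGr {i : ℕ} {v : κ → A} :
    v ∈ freeGr 𝒜 d i ↔ ∀ j, v j ∈ if d j ≤ i then 𝒜 (i - d j) else (⊥ : Submodule R A) := by
  simp [freeGr, Submodule.mem_pi]

omit [GradedAlgebra 𝒜] in
lemma single_mem_freeGr [DecidableEq κ] {j : κ} {i : ℕ} {a : A} (ha : a ∈ 𝒜 i) :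
    Pi.single j a ∈ freeGr 𝒜 d (i + d j) := mem_freeGr.mpr fun l ↦ by
  by_cases h : l = j
  · subst h
    rw [Pi.single_eq_same, if_pos (Nat.le_add_left _ _), Nat.add_sub_cancel]
    exact ha
  · rw [Pi.single_eq_of_ne h]
    exact zero_mem _

variable (𝒜 d) in
/-- The component of degree `i`. -/
def freeProj (i : ℕ) : (κ → A) →ₗ[R] (κ → A) :=
  LinearMap.pi fun j ↦ if d j ≤ i then (GradedAlgebra.proj 𝒜 (i - d j)).comp (LinearMap.proj j) else 0

lemma freeProj_same {i : ℕ} {v : κ → A} (hv : v ∈ freeGr 𝒜 d i) : freeProj 𝒜 d i v = v := by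
  funext j
  have h := mem_freeGr.mp hv j
  rw [freeProj, LinearMap.pi_apply]
  split_ifs at h ⊢ with hj
  · exact decompose_of_mem_same 𝒜 h
  · rw [Submodule.mem_bot] at h
    rw [LinearMap.zero_apply, h]

lemma freeProj_ne {i k : ℕ} (hki : k ≠ i) {v : κ → A} (hv : v ∈ freeGr 𝒜 d k) :
    freeProj 𝒜 d i v = 0 := by
  funext j
  have h := mem_freeGr.mp hv j
  rw [freeProj, LinearMap.pi_apply]
  split_ifs at h ⊢ with hj hj' <;> try rfl
  · exact decompose_of_mem_ne 𝒜 h (by omega)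
  · rw [Submodule.mem_bot] at h
    simp [h]

variable (𝒜 d) in
/-- The grading of `⊕ A(-d j)`. -/
instance freeDecomposition [Finite κ] : DirectSum.Decomposition (freeGr 𝒜 d) :=
  decompositionOfProj _ (freeProj 𝒜 d) (fun _ _ ↦ freeProj_same) (fun _ _ h _ ↦ freeProj_ne h)
    fun v ↦ by
      classical
      have := Fintype.ofFinite κ
      rw [← Finset.univ_sum_single v]
      refine Submodule.sum_mem _ fun j _ ↦ ?_
      obtain ⟨s, hs⟩ := exists_sum_cpt (ℳ := 𝒜) (v j)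
      rw [← hs]
      have e : Pi.single j (∑ i ∈ s, cpt 𝒜 i (v j)) =
          ∑ i ∈ s, Pi.single (M := fun _ ↦ A) j (cpt 𝒜 i (v j)) :=
        map_sum (LinearMap.single R (fun _ : κ ↦ A) j) _ _
      rw [e]
      exact Submodule.sum_mem _ fun i _ ↦
        Submodule.mem_iSup_of_mem _ (single_mem_freeGr (cpt_mem i (v j)))

instance freeGradedSMul : SetLike.GradedSMul 𝒜 (freeGr 𝒜 d) where
  smul_mem := fun i k a v ha hv ↦ mem_freeGr.mpr fun j ↦ by
    have h := mem_freeGr.mp hv j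
    rw [Pi.smul_apply, smul_eq_mul, vadd_eq_add]
    by_cases hj : d j ≤ k
    · rw [if_pos hj] at h
      rw [if_pos (le_add_left hj), Nat.add_sub_assoc hj]
      exact SetLike.mul_mem_graded ha h
    · rw [if_neg hj, Submodule.mem_bot] at h
      rw [h, mul_zero]
      exact zero_mem _

end Free

section Quot

variable [Module A M] [IsScalarTower R A M] (ℳ : ℕ → Submodule R M) [DirectSum.Decomposition ℳ]
  (K : Submodule A M)

/-- The pieces of a quotient. -/
def quotGr (i : ℕ) : Submodule R (M ⧸ K) := (ℳ i).map (K.mkQ.restrictScalars R)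

variable {ℳ K}

omit [DirectSum.Decomposition ℳ] in
lemma mk_mem_quotGr {i : ℕ} {m : M} (hm : m ∈ ℳ i) : K.mkQ m ∈ quotGr ℳ K i := ⟨m, hm, rfl⟩

/-- The grading of a quotient by a homogeneous submodule. -/
@[instance_reducible]
def quotDecomposition (hK : IsHom ℳ K) : DirectSum.Decomposition (quotGr ℳ K) :=
  decompositionOfProj _
    (fun i ↦ (K.restrictScalars R).liftQ
      ((K.mkQ.restrictScalars R).comp ((ℳ i).subtype.comp
        ((DirectSum.component R ℕ (fun i ↦ ℳ i) i).comp (decomposeLinearEquiv ℳ).toLinearMap)))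
      fun m hm ↦ (Submodule.Quotient.mk_eq_zero K).mpr (hK m hm i))
    (fun i m ⟨y, hy, e⟩ ↦ by
      subst e
      exact congrArg K.mkQ (cpt_same (ℳ := ℳ) hy))
    (fun i k hki m ⟨y, hy, e⟩ ↦ by
      subst e
      exact (congrArg K.mkQ (cpt_ne (ℳ := ℳ) hy hki)).trans (map_zero _))
    (fun m ↦ by
      obtain ⟨y, rfl⟩ := K.mkQ_surjective m
      obtain ⟨s, hs⟩ := exists_sum_cpt (ℳ := ℳ) y
      rw [← hs, map_sum]
      exact Submodule.sum_mem _ fun i _ ↦ Submodule.mem_iSup_of_mem i (mk_mem_quotGr (cpt_mem i y)))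

instance quotGradedSMul [SetLike.GradedSMul 𝒜 ℳ] : SetLike.GradedSMul 𝒜 (quotGr ℳ K) where
  smul_mem := fun i k a m ha ⟨y, hy, e⟩ ↦ by
    subst e
    exact ⟨a • y, SetLike.GradedSMul.smul_mem ha hy, map_smul K.mkQ a y⟩

end Quot

end Groth.Agent.GrModLib
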