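import Groth.Agent.GrModLib.Sections

/-!
Fractions as sections of `M(n)~`, and morphisms `M(n)~ ⟶ N(n')~` from linear maps shifting degrees.
-/

universe u

open DirectSum CategoryTheory AlgebraicGeometry TopologicalSpace Opposite

noncomputable section

namespace Groth.Agent.GrModLib

variable {A σ : Type u} [CommRing A] [SetLike σ A] [AddSubgroupClass σ A] {𝒜 : ℕ → σ} [GradedRing 𝒜]
variable {M τ : Type u} [AddCommGroup M] [Module A M] [SetLike τ M] [AddSubgroupClass τ M]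
  {ℳ : ℕ → τ} [SetLike.GradedSMul 𝒜 ℳ]

/-- The section `m / g` of `M(n)~` over an open on which `g` does not vanish. -/
def fracSec {i j : ℕ} {m : M} (hm : m ∈ ℳ i) {g : A} (hg : g ∈ 𝒜 j) (n : ℤ)
    (hn : (i : ℤ) = j + n) {U : Opens (ProjectiveSpectrum.top 𝒜)}
    (hU : ∀ x : U, g ∉ x.1.asHomogeneousIdeal) : GrMod.sect 𝒜 ℳ n (op U) :=
  ⟨fun x ↦ ⟨mk x.1 m g (hU x),
    Submodule.subset_span ⟨i, j, ⟨m, hm⟩, ⟨g, hg⟩, hU x, hn, rfl⟩⟩,
   fun x ↦ ⟨U, x.2, 𝟙 _, i, j, ⟨m, hm⟩, ⟨g, hg⟩, hU, Or.inl hn, fun _ ↦ rfl⟩⟩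

lemma valAt_fracSec {i j : ℕ} {m : M} (hm : m ∈ ℳ i) {g : A} (hg : g ∈ 𝒜 j) (n : ℤ)
    (hn : (i : ℤ) = j + n) {U : Opens (ProjectiveSpectrum.top 𝒜)}
    (hU : ∀ x : U, g ∉ x.1.asHomogeneousIdeal) (x : ProjectiveSpectrum 𝒜) (hx : x ∈ U) :
    valAt (fracSec hm hg n hn hU) x hx = mk x m g (hU ⟨x, hx⟩) := rfl

lemma sect_ext {n : ℤ} {U : Opens (ProjectiveSpectrum.top 𝒜)} {s t : GrMod.sect 𝒜 ℳ n (op U)}
    (h : ∀ (x : ProjectiveSpectrum 𝒜) (hx : x ∈ U), valAt s x hx = valAt t x hx) : s = t :=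
  Subtype.ext (funext fun x ↦ Subtype.ext (h x.1 x.2))

lemma valAt_smul {n : ℤ} {U : Opens (ProjectiveSpectrum.top 𝒜)} (c : GrTwist.O (𝒜 := 𝒜) (op U))
    (s : GrMod.sect 𝒜 ℳ n (op U)) (x : ProjectiveSpectrum 𝒜) (hx : x ∈ U) :
    valAt (c • s) x hx = (c.1 ⟨x, hx⟩).val • valAt s x hx :=
  GrMod.coe_smul_val n x _ _

section Map

variable {N τ' : Type u} [AddCommGroup N] [Module A N] [SetLike τ' N] [AddSubgroupClass τ' N]
  {𝒩 : ℕ → τ'} [SetLike.GradedSMul 𝒜 𝒩]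
variable (u : M →ₗ[A] N) (n n' : ℤ)
  (hu : ∀ (i : ℕ) (m : M), m ∈ ℳ i → u m = 0 ∨ ∃ i' : ℕ, (i' : ℤ) - n' = i - n ∧ u m ∈ 𝒩 i')

omit [AddSubgroupClass τ M] [SetLike.GradedSMul 𝒜 ℳ] [AddSubgroupClass τ' N]
  [SetLike.GradedSMul 𝒜 𝒩] in
include hu in
lemma locMap_shift_mem (x : ProjectiveSpectrum 𝒜) {q : GrMod.LocMod 𝒜 (M := M) x}
    (hq : q ∈ GrMod.tildeAt 𝒜 ℳ n x) : GrMod.locMap u x q ∈ GrMod.tildeAt 𝒜 𝒩 n' x := by
  induction hq using Submodule.span_induction with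
  | mem q h =>
    obtain ⟨i, j, m, s, hs, hij, rfl⟩ := h
    rw [GrMod.locMap_mk]
    rcases hu i m m.2 with h0 | ⟨i', hi', hmem⟩
    · rw [h0, LocalizedModule.zero_mk]; exact zero_mem _
    · exact Submodule.subset_span ⟨i', j, ⟨u m, hmem⟩, s, hs, by omega, rfl⟩
  | zero => rw [map_zero]; exact zero_mem _
  | add q q' _ _ h h' => rw [map_add]; exact add_mem h h'
  | smul c q _ h =>
    rw [GrMod.a0_smul_def]
    change (LocalizedModule.map _ u) (c.val • q) ∈ _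
    rw [LinearMap.map_smul, ← GrMod.a0_smul_def]
    exact Submodule.smul_mem _ c h

/-- Pointwise application of `u`, shifting degrees. -/
def shiftApp (U : (Opens (ProjectiveSpectrum.top 𝒜))ᵒᵖ) :
    GrMod.sect 𝒜 ℳ n U →+ GrMod.sect 𝒜 𝒩 n' U where
  toFun s := ⟨fun x ↦ ⟨GrMod.locMap u x.1 (s.1 x).1, locMap_shift_mem u n n' hu x.1 (s.1 x).2⟩,
    fun x ↦ by
      obtain ⟨V, mV, iV, i, j, m, g, nin, c, w⟩ := s.2 x
      have key : ∀ y : V, GrMod.locMap u y.1 (s.1 (iV y)).1 =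
          LocalizedModule.mk (u m) ⟨g.1, nin y⟩ := fun y ↦ by
        rw [w y, GrMod.locMap_mk]
      have zero : u m = 0 → (GrMod.isFracPrelocal 𝒜 𝒩 n').pred
          (fun y : V ↦ (⟨GrMod.locMap u y.1 (s.1 (iV y)).1,
            locMap_shift_mem u n n' hu y.1 (s.1 (iV y)).2⟩ : GrMod.tildeAt 𝒜 𝒩 n' y.1)) :=
        fun h0 ↦ ⟨0, j, 0, g, nin, Or.inr (ZeroMemClass.coe_zero _), fun y ↦ by
          change GrMod.locMap u y.1 (s.1 (iV y)).1 = _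
          rw [key y, h0, ZeroMemClass.coe_zero]⟩
      refine ⟨V, mV, iV, ?_⟩
      rcases hu i m m.2 with h0 | ⟨i', hi', hmem⟩
      · exact zero h0
      · rcases c with hc | hc
        · exact ⟨i', j, ⟨u m, hmem⟩, g, nin, Or.inl (by omega), key⟩
        · exact zero (by rw [hc, map_zero])⟩
  map_zero' := sect_ext fun x _ ↦ map_zero (GrMod.locMap u x)
  map_add' _ _ := sect_ext fun x _ ↦ map_add (GrMod.locMap u x) _ _

lemma valAt_shiftApp {U : Opens (ProjectiveSpectrum.top 𝒜)} (s : GrMod.sect 𝒜 ℳ n (op U))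
    (x : ProjectiveSpectrum 𝒜) (hx : x ∈ U) :
    valAt (shiftApp u n n' hu (op U) s) x hx = GrMod.locMap u x (valAt s x hx) := rfl

lemma shiftApp_smul (U : (Opens (ProjectiveSpectrum.top 𝒜))ᵒᵖ) (c : GrTwist.O (𝒜 := 𝒜) U)
    (s : GrMod.sect 𝒜 ℳ n U) :
    shiftApp u n n' hu U (c • s) = c • shiftApp u n n' hu U s :=
  sect_ext fun x hx ↦ by
    rw [valAt_shiftApp, valAt_smul, valAt_smul, valAt_shiftApp]
    exact LinearMap.map_smul (LocalizedModule.map _ u) _ _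

/-- The morphism `M(n)~ ⟶ N(n')~` of a linear map shifting degrees. -/
def shiftMap : GrMod.tilde 𝒜 ℳ n ⟶ GrMod.tilde 𝒜 𝒩 n' :=
  ⟨PresheafOfModules.homMk
    { app := fun U => AddCommGrpCat.ofHom (shiftApp u n n' hu U)
      naturality := fun _ _ _ => rfl }
    fun U r s => shiftApp_smul u n n' hu U r s⟩

lemma shiftMap_app (U : (Proj 𝒜).Opens) (s : GrMod.sect 𝒜 ℳ n (op U)) :
    (shiftMap u n n' hu).app U s = shiftApp u n n' hu (op U) s := rfl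

end Map

end Groth.Agent.GrModLib
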