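import Groth.Prelude.Def_GrMod2
import Groth.Agent.GrModLib.Shift
import Groth.Agent.GrModLib.Grading
import Groth.Agent.GrModLib.Alpha
import Groth.Agent.ProjTwist.Quotient

/-!
A coherent module on `Proj` of a Noetherian graded ring is `M~` for a finite graded module `M`.
-/

universe u

open DirectSum CategoryTheory CategoryTheory.Limits AlgebraicGeometry TopologicalSpace Opposite

noncomputable section

namespace Groth.Agent.GrModLib

variable {R A : Type u} [CommRing R] [CommRing A] [Algebra R A] {𝒜 : ℕ → Submodule R A}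
  [GradedAlgebra 𝒜]

section Data

variable {κ : Type u} [Fintype κ] (d : κ → ℕ) {F : (Proj 𝒜).Modules}
  (φ : ∀ j : κ, GrMod.tilde 𝒜 𝒜 (-(d j : ℤ)) ⟶ F)

omit [Fintype κ] [GradedAlgebra 𝒜] in
variable (𝒜) in
lemma proj_shift (j : κ) (i : ℕ) (v : κ → A) (hv : v ∈ freeGr 𝒜 d i) :
    v j = 0 ∨ ∃ i' : ℕ, (i' : ℤ) - -(d j : ℤ) = i - 0 ∧ v j ∈ 𝒜 i' := by
  have h := mem_freeGr.mp hv j
  split_ifs at h with hj
  · exact Or.inr ⟨i - d j, by omega, h⟩
  · exact Or.inl ((Submodule.mem_bot R).mp h)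

omit [Fintype κ] in
variable (𝒜) in
lemma single_shift [DecidableEq κ] (j : κ) (i : ℕ) (a : A) (ha : a ∈ 𝒜 i) :
    LinearMap.single A (fun _ : κ ↦ A) j a = 0 ∨ ∃ i' : ℕ, (i' : ℤ) - 0 = i - -(d j : ℤ) ∧
      LinearMap.single A (fun _ : κ ↦ A) j a ∈ freeGr 𝒜 d i' :=
  Or.inr ⟨i + d j, by omega, single_mem_freeGr ha⟩

/-- The map `P~ ⟶ F` on the free graded module `P`. -/
def totalHom : GrMod.tilde 𝒜 (freeGr 𝒜 d) 0 ⟶ F :=
  ∑ j, shiftMap (LinearMap.proj (φ := fun _ : κ ↦ A) j) 0 (-(d j : ℤ)) (proj_shift 𝒜 d j) ≫ φ j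

open Classical in
lemma incl_totalHom (j : κ) :
    shiftMap (LinearMap.single A (fun _ : κ ↦ A) j) (-(d j : ℤ)) 0 (single_shift 𝒜 d j) ≫
      totalHom d φ = φ j := by
  classical
  have e : ∀ l, shiftMap (LinearMap.single A (fun _ : κ ↦ A) j) (-(d j : ℤ)) 0 (single_shift 𝒜 d j) ≫
      shiftMap (LinearMap.proj (φ := fun _ : κ ↦ A) l) 0 (-(d l : ℤ)) (proj_shift 𝒜 d l) ≫ φ l =
      if h : l = j then φ j else 0 := fun l ↦ by
    rw [← Category.assoc]
    split_ifs with h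
    · subst h
      conv_rhs => rw [← Category.id_comp (φ l)]
      congr 1
      refine Scheme.Modules.hom_ext _ _ fun U ↦ ?_
      ext s
      refine sect_ext fun x hx ↦ ?_
      change GrMod.locMap _ x (GrMod.locMap _ x (valAt s x hx)) = valAt s x hx
      induction valAt s x hx using LocalizedModule.induction_on with
      | h m g => rw [GrMod.locMap_mk, GrMod.locMap_mk]; simp
    · have h0 : shiftMap (𝒜 := 𝒜) (ℳ := 𝒜) (𝒩 := freeGr 𝒜 d)
          (LinearMap.single A (fun _ : κ ↦ A) j) (-(d j : ℤ)) 0 (single_shift 𝒜 d j) ≫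
          shiftMap (LinearMap.proj (φ := fun _ : κ ↦ A) l) 0 (-(d l : ℤ)) (proj_shift 𝒜 d l) = 0 := by
        refine Scheme.Modules.hom_ext _ _ fun U ↦ ?_
        ext s
        refine sect_ext fun x hx ↦ ?_
        change GrMod.locMap _ x (GrMod.locMap _ x (valAt s x hx)) = 0
        induction valAt s x hx using LocalizedModule.induction_on with
        | h m g =>
          rw [GrMod.locMap_mk, GrMod.locMap_mk]
          simp [Pi.single_eq_of_ne h]
      rw [h0, zero_comp]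
  rw [totalHom, Preadditive.comp_sum]
  simp only [e]
  simp

variable {E : ℕ} {r : ℕ} (g : Fin r → A)

/-- `m / h` on `D₊(h')`, for `D₊(h') ⊆ D₊(h)`, as a section of `P~`. -/
abbrev freeFrac {i : ℕ} {v : κ → A} (hv : v ∈ freeGr 𝒜 d i) {h : A} (hh : h ∈ 𝒜 i)
    {U : (Proj 𝒜).Opens} (hU : U ≤ Proj.basicOpen 𝒜 h) :
    Γ(GrMod.tilde 𝒜 (freeGr 𝒜 d) 0, U) :=
  fracSec hv hh 0 (add_zero _).symm (fun x ↦ hU x.2)

omit [Fintype κ] in
lemma smul_freeFrac {i k : ℕ} {v : κ → A} (hv : v ∈ freeGr 𝒜 d i) {h a b : A} (hh : h ∈ 𝒜 i)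
    (ha : a ∈ 𝒜 k) (hb : b ∈ 𝒜 k) {U : (Proj 𝒜).Opens} (hU : U ≤ Proj.basicOpen 𝒜 h)
    (hb' : U ≤ Proj.basicOpen 𝒜 b) {i' : ℕ} {v' : κ → A} (hv' : v' ∈ freeGr 𝒜 d i') {h' : A}
    (hh' : h' ∈ 𝒜 i') (hU' : U ≤ Proj.basicOpen 𝒜 h') (e : h' • a • v = (b * h) • v') :
    ProjTwist.fracFun ha hb hb' • freeFrac d hv hh hU = freeFrac d hv' hh' hU' := by
  refine sect_ext fun x hx ↦ ?_
  refine (valAt_smul _ _ x hx).trans ?_
  have h1 := ProjTwist.valAt_fracFun ha hb hb' x hx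
  rw [ProjTwist.valAt] at h1
  rw [valAt_fracSec, valAt_fracSec]
  refine (congrArg (· • mk x v h (hU hx)) h1).trans ((LocalizedModule.mk_smul_mk a v _ _).trans ?_)
  refine mk_eq_mk_iff.mpr ⟨1, GrMod.one_nin x, ?_⟩
  rw [one_smul, sub_eq_zero]
  exact e

variable (E)

/-- The generators of the kernel. -/
def kerGens : Set (κ → A) :=
  {v | ∃ (t : ℕ) (hv : v ∈ freeGr 𝒜 d (t * E)), ∀ (l : Fin r) (hg : g l ^ t ∈ 𝒜 (t * E))
    (hU : Proj.basicOpen 𝒜 (g l) ≤ Proj.basicOpen 𝒜 (g l ^ t)),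
    (totalHom d φ).app _ (freeFrac d hv hg hU) = 0}

/-- The kernel of `P ⟶ Γ_*(F)`. -/
def kerSub : Submodule A (κ → A) := Submodule.span A (kerGens d φ E g)

lemma isHom_kerSub : IsHom (freeGr 𝒜 d) (kerSub d φ E g) :=
  isHom_span (𝒜 := 𝒜) fun _ ⟨_, hv, _⟩ ↦ ⟨_, hv⟩

variable {E} (hE : 0 < E) (hg : ∀ l, g l ∈ 𝒜 E) (hcov : ⨆ l, Proj.basicOpen 𝒜 (g l) = ⊤)

include hg in
lemma pow_g_mem (l : Fin r) (t : ℕ) : g l ^ t ∈ 𝒜 (t * E) := by
  simpa using SetLike.pow_mem_graded t (hg l)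

lemma basicOpen_le_pow (f : A) (t : ℕ) : Proj.basicOpen 𝒜 f ≤ Proj.basicOpen 𝒜 (f ^ t) :=
  fun _ hx ↦ pow_nin hx t

include hE hg in
/-- An element of the kernel in a degree divisible by `E` gives zero on every chart. -/
lemma app_freeFrac_eq_zero {v : κ → A} (hvK : v ∈ kerSub d φ E g) {t : ℕ}
    (hv : v ∈ freeGr 𝒜 d (t * E)) (l : Fin r) :
    (totalHom d φ).app _ (freeFrac d hv (pow_g_mem g hg l t) (basicOpen_le_pow (g l) t)) = 0 := by
  suffices H : ∀ a : A, (totalHom d φ).app _ (freeFrac d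
      (cpt_mem (ℳ := freeGr 𝒜 d) (t * E) (a • v)) (pow_g_mem g hg l t)
      (basicOpen_le_pow (g l) t)) = 0 by
    have h1 := H 1
    simp only [one_smul, cpt_same hv] at h1
    exact h1
  clear hv
  induction hvK using Submodule.span_induction with
  | mem w hw =>
    intro a
    obtain ⟨t₀, hw₀, hw'⟩ := hw
    have hc := cpt_smul_right (𝒜 := 𝒜) hw₀ (t * E) a
    by_cases hle : t₀ * E ≤ t * E
    · rw [if_pos hle] at hc
      have ht : t₀ ≤ t := Nat.le_of_mul_le_mul_right hle hE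
      have hb : g l ^ (t - t₀) ∈ 𝒜 (t * E - t₀ * E) := by
        rw [← Nat.sub_mul]; exact pow_g_mem g hg l _
      rw [← smul_freeFrac d hw₀ (pow_g_mem g hg l t₀)
        (SetLike.coe_mem (decompose 𝒜 a (t * E - t₀ * E))) hb (basicOpen_le_pow (g l) t₀)
        (basicOpen_le_pow (g l) (t - t₀)) (cpt_mem (ℳ := freeGr 𝒜 d) (t * E) (a • w))
        (pow_g_mem g hg l t) (basicOpen_le_pow (g l) t)
        (by rw [hc, ← pow_add, Nat.sub_add_cancel ht]),
        Scheme.Modules.Hom.app_smul, hw' l, smul_zero]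
    · rw [if_neg hle] at hc
      have h0 : freeFrac d (cpt_mem (ℳ := freeGr 𝒜 d) (t * E) (a • w)) (pow_g_mem g hg l t)
          (basicOpen_le_pow (g l) t) = 0 := sect_ext fun x hx ↦ by
        refine (valAt_fracSec _ _ _ _ _ x hx).trans ?_
        rw [mk, hc, LocalizedModule.zero_mk]
        rfl
      rw [h0, map_zero]
  | zero =>
    intro a
    have h0 : freeFrac d (cpt_mem (ℳ := freeGr 𝒜 d) (t * E) (a • (0 : κ → A)))
        (pow_g_mem g hg l t) (basicOpen_le_pow (g l) t) = 0 := sect_ext fun x hx ↦ by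
      refine (valAt_fracSec _ _ _ _ _ x hx).trans ?_
      rw [mk, smul_zero, map_zero, LocalizedModule.zero_mk]
      rfl
    rw [h0, map_zero]
  | add v w _ _ hv hw =>
    intro a
    have h0 : freeFrac d (cpt_mem (ℳ := freeGr 𝒜 d) (t * E) (a • (v + w)))
        (pow_g_mem g hg l t) (basicOpen_le_pow (g l) t) =
        freeFrac d (cpt_mem (ℳ := freeGr 𝒜 d) (t * E) (a • v)) (pow_g_mem g hg l t)
          (basicOpen_le_pow (g l) t) +
        freeFrac d (cpt_mem (ℳ := freeGr 𝒜 d) (t * E) (a • w)) (pow_g_mem g hg l t)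
          (basicOpen_le_pow (g l) t) := sect_ext fun x hx ↦ by
      refine (valAt_fracSec _ _ _ _ _ x hx).trans ?_
      rw [mk, smul_add, map_add]
      change _ = mk x _ (g l ^ t) (basicOpen_le_pow (g l) t hx) +
        mk x _ (g l ^ t) (basicOpen_le_pow (g l) t hx)
      rw [mk, mk, LocalizedModule.mk_add_mk, ← smul_add]
      exact (LocalizedModule.mk_cancel_common_left _ _ _).symm
    rw [h0, map_add, hv a, hw a, add_zero]
  | smul b v _ hv =>
    intro a
    have e := hv (a * b)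
    simp only [mul_smul] at e
    exact e

variable [F.IsQuasicoherent]

/-- The quotient map `P~ ⟶ (P/K)~`. -/
def quotHom : GrMod.tilde 𝒜 (freeGr 𝒜 d) 0 ⟶
    GrMod.tilde 𝒜 (quotGr (freeGr 𝒜 d) (kerSub d φ E g)) 0 :=
  GrMod.map 𝒜 (kerSub d φ E g).mkQ (fun _ _ hm ↦ mk_mem_quotGr hm) 0

instance epi_quotHom : Epi (quotHom d φ (E := E) g) := by
  refine Preadditive.epi_of_cancel_zero _ fun {Q} π hπ ↦ ?_
  refine Scheme.Modules.hom_ext π 0 fun U ↦ ?_
  ext s
  change π.app U s = 0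
  let s' : GrMod.sect 𝒜 (quotGr (freeGr 𝒜 d) (kerSub d φ E g)) 0 (op U) := s
  have H : ∀ p : U, ∃ W : (Proj 𝒜).Opens, W ≤ U ∧ p.1 ∈ W ∧
      ∀ hW : W ≤ U, π.app W (QCoh.res _ hW s) = 0 := fun p ↦ by
    obtain ⟨V, mV, iV, i, j, ⟨m, hm⟩, ⟨h, hh⟩, nin, hdeg, hval⟩ := s'.2 p
    obtain ⟨w, hw, hwm⟩ := hm
    refine ⟨V, iV.le, mV, fun hW ↦ ?_⟩
    rcases hdeg with hdeg | hm0
    · have e : QCoh.res _ hW s = (quotHom d φ (E := E) g).app V
          (fracSec hw hh 0 hdeg nin) := sect_ext fun x hx ↦ by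
        refine (hval ⟨x, hx⟩).trans ?_
        refine Eq.trans ?_ (GrMod.locMap_mk _ x w _).symm
        exact congrArg (fun z ↦ LocalizedModule.mk z _) hwm.symm
      rw [e]
      exact congr(($hπ).app V (fracSec hw hh 0 hdeg nin))
    · replace hm0 : m = 0 := hm0
      have e : QCoh.res _ hW s = 0 := sect_ext fun x hx ↦ by
        refine (hval ⟨x, hx⟩).trans ?_
        simp only [hm0, LocalizedModule.zero_mk]
        rfl
      rw [e, map_zero]
  choose W hWU hpW hW using H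
  refine QCoh.eq_zero_of_locally_eq_zero Q hWU (fun p hp ↦ Opens.mem_iSup.mpr ⟨⟨p, hp⟩, hpW _⟩) _
    fun p ↦ ?_
  rw [← QCoh.app_res]
  exact hW p (hWU p)

include hE hg hcov in
/-- On `D₊(h)`, `v / h` is killed by the quotient map iff by `P~ ⟶ F`. -/
lemma app_eq_zero_iff {t : ℕ} (ht : 0 < t) {v : κ → A} (hv : v ∈ freeGr 𝒜 d (t * E)) {h : A}
    (hh : h ∈ 𝒜 (t * E)) :
    (quotHom d φ (E := E) g).app _ (freeFrac d hv hh le_rfl) = 0 ↔
      (totalHom d φ).app _ (freeFrac d hv hh le_rfl) = 0 := by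
  let := quotDecomposition (ℳ := freeGr 𝒜 d) (isHom_kerSub d φ E g)
  have hpow : ∀ N, h ^ N • v ∈ freeGr 𝒜 d (N * (t * E) + t * E) := fun N ↦
    SetLike.GradedSMul.smul_mem (by simpa using SetLike.pow_mem_graded N hh) hv
  have hdeg : ∀ N, N * (t * E) + t * E = (N * t + t) * E := fun N ↦ by ring
  constructor
  · intro h0
    obtain ⟨N, hN⟩ := exists_pow_smul_eq_zero (ℳ := quotGr (freeGr 𝒜 d) (kerSub d φ E g))
      (mk_mem_quotGr hv) hh (Nat.mul_pos ht hE) fun x hx ↦ by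
      refine (mk_eq_zero_iff (s := h) (hs := hx)).mp ?_
      refine (GrMod.locMap_mk (kerSub d φ E g).mkQ x v ⟨h, hx⟩).symm.trans ?_
      exact congrArg (fun s : GrMod.sect 𝒜 (quotGr (freeGr 𝒜 d) (kerSub d φ E g)) 0
        (op (Proj.basicOpen 𝒜 h)) ↦ valAt s x hx) h0
    rw [← map_smul, Submodule.mkQ_apply, Submodule.Quotient.mk_eq_zero] at hN
    have hv₁ : h ^ N • v ∈ freeGr 𝒜 d ((N * t + t) * E) := hdeg N ▸ hpow N
    refine QCoh.eq_zero_of_locally_eq_zero F (U := fun l : Fin r ↦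
      Proj.basicOpen 𝒜 h ⊓ Proj.basicOpen 𝒜 (g l)) (fun _ ↦ inf_le_left)
      (ProjTwist.inf_iSup_basicOpen g hcov _) _ fun l ↦ ?_
    have hg' := pow_g_mem g hg l (N * t + t)
    have hh' : h ^ (N + 1) ∈ 𝒜 ((N * t + t) * E) := by
      have h2 := SetLike.pow_mem_graded (N + 1) hh
      rw [smul_eq_mul] at h2
      rwa [show (N + 1) * (t * E) = (N * t + t) * E by ring] at h2
    have e : QCoh.res _ (inf_le_left : Proj.basicOpen 𝒜 h ⊓ Proj.basicOpen 𝒜 (g l) ≤ _)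
        (freeFrac d hv hh le_rfl) =
        ProjTwist.fracFun (U := Proj.basicOpen 𝒜 h ⊓ Proj.basicOpen 𝒜 (g l)) hg' hh' (inf_le_left.trans (basicOpen_le_pow h (N + 1))) •
          QCoh.res _ (inf_le_right : Proj.basicOpen 𝒜 h ⊓ Proj.basicOpen 𝒜 (g l) ≤ _)
            (freeFrac d hv₁ hg' (basicOpen_le_pow (g l) _)) := by
      refine (smul_freeFrac d hv₁ hg' hg' hh'
        (inf_le_right.trans (basicOpen_le_pow (g l) _))
        (inf_le_left.trans (basicOpen_le_pow h (N + 1))) hv hh inf_le_left ?_).symm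
      rw [← mul_smul, ← mul_smul]
      congr 1
      ring
    rw [← QCoh.app_res, e, Scheme.Modules.Hom.app_smul, QCoh.app_res,
      app_freeFrac_eq_zero d φ g hE hg hN hv₁ l, map_zero, smul_zero]
  · intro h0
    have hl : ∀ l : Fin r, ∃ N, (ProjTwist.fracFun hh (pow_g_mem g hg l t)
        (basicOpen_le_pow (g l) t)) ^ N • (totalHom d φ).app _
          (freeFrac d hv (pow_g_mem g hg l t) (basicOpen_le_pow (g l) t)) = 0 := fun l ↦ by
      set c := ProjTwist.fracFun hh (pow_g_mem g hg l t) (basicOpen_le_pow (g l) t)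
      refine ((QCoh.isQuasicoherent_iff_forall_isAffineOpen F).mp inferInstance _
        (Proj.isAffineOpen_basicOpen 𝒜 _ (hg l) hE) c).eq_zero _ ?_
      have hle : (Proj 𝒜).basicOpen c ≤ Proj.basicOpen 𝒜 h :=
        (ProjTwist.basicOpen_fracFun _ _ _).le.trans inf_le_right
      have hlg : (Proj 𝒜).basicOpen c ≤ Proj.basicOpen 𝒜 (g l ^ t) :=
        ((Proj 𝒜).basicOpen_le c).trans (basicOpen_le_pow (g l) t)
      have e : QCoh.res _ ((Proj 𝒜).basicOpen_le c)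
          (freeFrac d hv (pow_g_mem g hg l t) (basicOpen_le_pow (g l) t)) =
          ProjTwist.fracFun hh (pow_g_mem g hg l t) hlg • QCoh.res _ hle
            (freeFrac d hv hh le_rfl) := by
        refine (smul_freeFrac d hv hh hh (pow_g_mem g hg l t) hle hlg hv (pow_g_mem g hg l t) hlg
          ?_).symm
        rw [← mul_smul]
      rw [← QCoh.app_res, e, Scheme.Modules.Hom.app_smul, QCoh.app_res, h0, map_zero, smul_zero]
    choose N hN using hl
    let N' := Finset.univ.sup N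
    have hgen : h ^ N' • v ∈ kerGens d φ E g := by
      refine ⟨N' * t + t, hdeg N' ▸ hpow N', fun l hg' hU ↦ ?_⟩
      have hb : g l ^ (N' * t) ∈ 𝒜 (N' * (t * E)) := by
        rw [← mul_assoc]; exact pow_g_mem g hg l _
      have ha : h ^ N' ∈ 𝒜 (N' * (t * E)) := by simpa using SetLike.pow_mem_graded N' hh
      rw [← smul_freeFrac d hv (pow_g_mem g hg l t) ha hb (basicOpen_le_pow (g l) t)
        (basicOpen_le_pow (g l) _) (hdeg N' ▸ hpow N') hg' hU (by rw [← pow_add]),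
        Scheme.Modules.Hom.app_smul]
      have e : ProjTwist.fracFun ha hb (basicOpen_le_pow (g l) _) =
          ProjTwist.fracFun hh (pow_g_mem g hg l t) (basicOpen_le_pow (g l) t) ^ N' := by
        refine ProjTwist.valAt_ext fun x hx ↦ ?_
        rw [ProjTwist.valAt_pow, ProjTwist.valAt_fracFun, ProjTwist.valAt_fracFun,
          Localization.mk_pow]
        congr 1
        exact Subtype.ext (by simp [← pow_mul, mul_comm])
      have hle : N l ≤ N' := Finset.le_sup (f := N) (Finset.mem_univ l)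
      rw [e, ← Nat.sub_add_cancel hle, pow_add, mul_smul, hN l, smul_zero]
    refine sect_ext fun x hx ↦ ?_
    refine (GrMod.locMap_mk (kerSub d φ E g).mkQ x v ⟨h, hx⟩).trans ?_
    refine mk_eq_zero_iff.mpr ⟨h ^ N', pow_nin hx N', ?_⟩
    rw [← map_smul]
    exact (Submodule.Quotient.mk_eq_zero _).mpr (Submodule.subset_span hgen)

include hE hg hcov in
/-- A section is killed by the quotient map iff by `P~ ⟶ F`. -/
lemma app_eq_zero_iff' (U : (Proj 𝒜).Opens) (s : Γ(GrMod.tilde 𝒜 (freeGr 𝒜 d) 0, U)) :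
    (quotHom d φ (E := E) g).app U s = 0 ↔ (totalHom d φ).app U s = 0 := by
  have H : ∀ p : U, ∃ (t : ℕ) (v : κ → A) (h : A) (hv : v ∈ freeGr 𝒜 d (t * E))
      (hh : h ∈ 𝒜 (t * E)) (hle : Proj.basicOpen 𝒜 h ≤ U), 0 < t ∧ p.1 ∈ Proj.basicOpen 𝒜 h ∧
      QCoh.res _ hle s = freeFrac d hv hh le_rfl := fun p ↦ by
    obtain ⟨l, hl⟩ := Opens.mem_iSup.mp (hcov.ge (trivial : p.1 ∈ (⊤ : (Proj 𝒜).Opens)))
    obtain ⟨j, k, h, q, hh, hj, hq, hk, hph, hval⟩ :=
      exists_local_frac (hg l) hE 0 (s : GrMod.sect 𝒜 (freeGr 𝒜 d) 0 (op U)) p.1 p.2 hl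
    have hjk : k = j := by omega
    subst hjk
    have hnin : ∀ y : ProjectiveSpectrum 𝒜, h ^ E ∉ y.asHomogeneousIdeal →
        h ∉ y.asHomogeneousIdeal := fun y hy h' ↦ hy (Ideal.pow_mem_of_mem _ h' E hE)
    have hv : h ^ (E - 1) • q ∈ freeGr 𝒜 d (k * E) := by
      have h2 := SetLike.GradedSMul.smul_mem (SetLike.pow_mem_graded (E - 1) hh) hq
      rw [vadd_eq_add, smul_eq_mul] at h2
      rwa [show (E - 1) * k + k = k * E by
        rw [← Nat.succ_mul, Nat.succ_eq_add_one, Nat.sub_add_cancel hE, mul_comm]] at h2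
    have hhE : h ^ E ∈ 𝒜 (k * E) := by simpa [mul_comm] using SetLike.pow_mem_graded E hh
    refine ⟨k, _, _, hv, hhE, fun y hy ↦ (hval y (hnin y hy)).2.1, hj, pow_nin hph E,
      sect_ext fun y hy ↦ ?_⟩
    obtain ⟨-, hyU, e⟩ := hval y (hnin y hy)
    refine e.trans (mk_eq_mk_iff.mpr ⟨1, GrMod.one_nin y, ?_⟩)
    rw [one_smul, sub_eq_zero, ← mul_smul, ← pow_succ', Nat.sub_add_cancel hE]
  choose t v h hv hh hle ht hp hres using H
  have hc : U ≤ ⨆ p, Proj.basicOpen 𝒜 (h p) := fun p hp' ↦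
    Opens.mem_iSup.mpr ⟨⟨p, hp'⟩, hp _⟩
  constructor
  · intro h0
    refine QCoh.eq_zero_of_locally_eq_zero F hle hc _ fun p ↦ ?_
    rw [← QCoh.app_res, hres p]
    refine (app_eq_zero_iff d φ g hE hg hcov (ht p) (hv p) (hh p)).mp ?_
    rw [← hres p, QCoh.app_res, h0, map_zero]
  · intro h0
    refine QCoh.eq_zero_of_locally_eq_zero _ hle hc _ fun p ↦ ?_
    rw [← QCoh.app_res, hres p]
    refine (app_eq_zero_iff d φ g hE hg hcov (ht p) (hv p) (hh p)).mpr ?_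
    rw [← hres p, QCoh.app_res, h0, map_zero]

include hE hg hcov in
/-- `(P/K)~ ≅ F` for an epimorphism `P~ ⟶ F`. -/
theorem nonempty_iso [Epi (totalHom d φ)] :
    Nonempty (GrMod.tilde 𝒜 (quotGr (freeGr 𝒜 d) (kerSub d φ E g)) 0 ≅ F) := by
  have h1 : kernel.ι (quotHom d φ (E := E) g) ≫ totalHom d φ = 0 := by
    refine Scheme.Modules.hom_ext _ _ fun U ↦ ?_
    ext s
    exact (app_eq_zero_iff' d φ g hE hg hcov U _).mp
      congr(($(kernel.condition (quotHom d φ (E := E) g))).app U s)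
  have h2 : kernel.ι (totalHom d φ) ≫ quotHom d φ (E := E) g = 0 := by
    refine Scheme.Modules.hom_ext _ _ fun U ↦ ?_
    ext s
    exact (app_eq_zero_iff' d φ g hE hg hcov U _).mpr
      congr(($(kernel.condition (totalHom d φ))).app U s)
  refine ⟨⟨Abelian.epiDesc (quotHom d φ (E := E) g) (totalHom d φ) h1,
    Abelian.epiDesc (totalHom d φ) (quotHom d φ (E := E) g) h2, ?_, ?_⟩⟩
  · rw [← cancel_epi (quotHom d φ (E := E) g), ← Category.assoc, Abelian.comp_epiDesc,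
      Abelian.comp_epiDesc, Category.comp_id]
  · rw [← cancel_epi (totalHom d φ), ← Category.assoc, Abelian.comp_epiDesc,
      Abelian.comp_epiDesc, Category.comp_id]

end Data

/-- A coherent module on `Proj` of a Noetherian graded ring is the module of a finite graded
module. -/
theorem exists_tilde_iso [IsNoetherianRing A] (F : (Proj 𝒜).Modules) (hF : Coh.IsCoh F) :
    ∃ (M : Type u) (_ : AddCommGroup M) (_ : Module R M) (_ : Module A M) (_ : IsScalarTower R A M)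
      (ℳ : ℕ → Submodule R M) (_ : DirectSum.Decomposition ℳ) (_ : SetLike.GradedSMul 𝒜 ℳ),
      Module.Finite A M ∧ Nonempty (GrTilde.tilde 𝒜 ℳ 0 ≅ F) := by
  classical
  have : F.IsQuasicoherent := hF.1
  obtain ⟨κ, _, d, φ, hφ⟩ := ProjTwist.exists_epi_twists F hF
  have := Fintype.ofFinite κ
  obtain ⟨E, hE, r, g, hg, hcov⟩ := ProjTwist.exists_gens (𝒜 := 𝒜)
  let φ' : ∀ j, GrMod.tilde 𝒜 𝒜 (-(d j : ℤ)) ⟶ F :=
    fun j ↦ Sigma.ι (fun j : κ ↦ Twist.twist 𝒜 (-(d j : ℤ))) j ≫ φ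
  have : Epi (totalHom d φ') := by
    refine Preadditive.epi_of_cancel_zero _ fun {Q} π hπ ↦ ?_
    refine (cancel_epi φ).mp (Sigma.hom_ext _ _ fun j ↦ ?_)
    rw [comp_zero, comp_zero, ← Category.assoc]
    change φ' j ≫ π = 0
    rw [← incl_totalHom d φ' j, Category.assoc, hπ, comp_zero]
  obtain ⟨e⟩ := nonempty_iso d φ' g hE hg hcov
  exact ⟨_, inferInstance, inferInstance, inferInstance, inferInstance,
    quotGr (freeGr 𝒜 d) (kerSub d φ' E g), quotDecomposition (isHom_kerSub d φ' E g),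
    quotGradedSMul 𝒜, inferInstance, ⟨e⟩⟩

end Groth.Agent.GrModLib
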