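import Groth.Agent.GrModLib.Cohom
import Groth.Agent.GrModLib.Coherent
import Groth.Agent.ProjTilde.Twists
import Groth.Agent.ProjTwist.Tensor
import Groth.Agent.ProjTwist.Pn.Finite
import Groth.Agent.CohLin.Basic

/-!
Vanishing of `H^q(F(n))` on `Proj` for coherent `F` and eventual exactness of the sections of
twists.
-/

universe u

open CategoryTheory CategoryTheory.Limits AlgebraicGeometry TopologicalSpace Opposite

noncomputable section

namespace Groth.Agent.GrModLib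

section General

variable {X : Scheme.{u}}

/-- The map on global sections. -/
abbrev topMap {M N : X.Modules} (φ : M ⟶ N) :
    (Coh.toAb M).obj.obj (op ⊤) →+ (Coh.toAb N).obj.obj (op ⊤) :=
  ((CohLin.abMap φ).hom.app (op ⊤)).hom

theorem topMap_comp {M N P : X.Modules} (φ : M ⟶ N) (ψ : N ⟶ P) (x) :
    topMap (φ ≫ ψ) x = topMap ψ (topMap φ x) := rfl

variable {S : ShortComplex X.Modules} (hS : S.ShortExact)

include hS in
theorem topMap_f_injective : Function.Injective (topMap S.f) :=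
  CohAff.sec_f_injective (CohLin.shortExact_abSeq hS) ⊤

include hS in
theorem topMap_exact {x} (h : topMap S.g x = 0) : ∃ y, topMap S.f y = x :=
  CohAff.sec_exact (CohLin.shortExact_abSeq hS) h

include hS in
theorem topMap_g_surjective [Subsingleton (Coh.HH X S.X₁ 1)] :
    Function.Surjective (topMap S.g) := fun x ↦ by
  let e₂ := Sheaf.H.equiv₀ (Coh.toAb S.X₂) isTerminalTop
  let e₃ := Sheaf.H.equiv₀ (Coh.toAb S.X₃) isTerminalTop
  obtain ⟨y, hy⟩ := CohLin.exists_hMap_g_eq hS (n := 0) (e₃.symm x) (Subsingleton.elim _ _)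
  refine ⟨e₂ y, (Sheaf.H.equiv₀_naturality _ _ y).trans ?_⟩
  change e₃ (CohLin.hMap S.g 0 y) = x
  rw [hy, AddEquiv.apply_symm_apply]

end General

open GrModLib DirectSum ProjTilde

variable {A S : Type u} [CommRing A] [CommRing S] [Algebra A S] {𝒜 : ℕ → Submodule A S}
  [GradedAlgebra 𝒜]

/-- Generators of degree one generate the irrelevant ideal. -/
theorem irrelevant_eq_span_one {r : ℕ} (g : Fin r → S) (hg1 : ∀ i, g i ∈ 𝒜 1)
    (hgen : Algebra.adjoin A (Set.range g) = ⊤) :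
    (HomogeneousIdeal.irrelevant 𝒜).toIdeal = Ideal.span (𝒜 1 : Set S) := by
  refine le_antisymm ?_ (Ideal.span_le.mpr fun a ha ↦
    HomogeneousIdeal.mem_irrelevant_of_mem 𝒜 one_pos ha)
  refine (HomogeneousIdeal.toIdeal_irrelevant_le 𝒜).mpr fun i hi a ha ↦ ?_
  set J := Ideal.span (Set.range g)
  have hJ : Ideal.IsHomogeneous 𝒜 J :=
    Ideal.homogeneous_span 𝒜 _ (by rintro _ ⟨k, rfl⟩; exact ⟨1, hg1 k⟩)
  have key : ∀ s : S, ∃ c : A, s - algebraMap A S c ∈ J := fun s ↦ by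
    induction (hgen ▸ Algebra.mem_top : s ∈ Algebra.adjoin A (Set.range g)) using
      Algebra.adjoin_induction with
    | mem x hx => exact ⟨0, by rw [map_zero, sub_zero]; exact Ideal.subset_span hx⟩
    | algebraMap c => exact ⟨c, by rw [sub_self]; exact zero_mem _⟩
    | add x y _ _ hx hy =>
      obtain ⟨c, hc⟩ := hx
      obtain ⟨c', hc'⟩ := hy
      exact ⟨c + c', by rw [map_add, add_sub_add_comm]; exact add_mem hc hc'⟩
    | mul x y _ _ hx hy =>
      obtain ⟨c, hc⟩ := hx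
      obtain ⟨c', hc'⟩ := hy
      refine ⟨c * c', ?_⟩
      rw [map_mul, show x * y - algebraMap A S c * algebraMap A S c' =
        y * (x - algebraMap A S c) + algebraMap A S c * (y - algebraMap A S c') by ring]
      exact add_mem (J.mul_mem_left _ hc) (J.mul_mem_left _ hc')
  obtain ⟨c, hc⟩ := key a
  have h1 := hJ i hc
  rw [decompose_sub, DirectSum.sub_apply, Submodule.coe_sub, decompose_of_mem_same 𝒜 ha,
    decompose_of_mem_ne 𝒜 (SetLike.algebraMap_mem_graded 𝒜 c) (Ne.symm hi.ne'), sub_zero] at h1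
  exact Ideal.span_mono (by rintro _ ⟨k, rfl⟩; exact hg1 k) h1

/-- `H^q(Proj, F(n)) = 0` for coherent `F`, `0 < q ≤ Q` and large `n`. -/
theorem exists_vanishing_twist [IsNoetherianRing S]
    (hgen : (HomogeneousIdeal.irrelevant 𝒜).toIdeal = Ideal.span (𝒜 1 : Set S))
    (F : (Proj 𝒜).Modules) (hF : Coh.IsCoh F) (Q : ℕ) :
    ∃ N : ℕ, ∀ n : ℤ, (N : ℤ) ≤ n → ∀ q, 0 < q → q ≤ Q →
      Subsingleton (Coh.HH (Proj 𝒜) (CohB1.tensorMod F (Twist.twist 𝒜 n)) q) := by
  obtain ⟨M, _, _, _, _, ℳ, _, _, hfin, ⟨e⟩⟩ := exists_tilde_iso F hF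
  obtain ⟨N, hN⟩ := exists_vanishing_le (𝒜 := 𝒜) (ℳ := ℳ) Q
  refine ⟨N, fun n hn q hq hqQ ↦ ?_⟩
  obtain ⟨m, rfl⟩ := Int.eq_ofNat_of_zero_le (le_trans (Int.natCast_nonneg N) hn)
  have := hN m (by exact_mod_cast hn) q hq hqQ
  have hc := coveredBy_top_one (𝒜 := 𝒜) hgen
  have h : (m : ℤ) * ((1 : ℕ) : ℤ) + 0 = m := by push_cast; ring
  have hi := isIso_actHom (ℳ := ℳ) (𝒜 := 𝒜) hc h
  let e' : CohB1.tensorMod F (Twist.twist 𝒜 (m : ℤ)) ≅ GrTilde.tilde 𝒜 ℳ (m : ℤ) :=
    ((DCoh.tensorRightMod (Twist.twist 𝒜 (m : ℤ))).mapIso e.symm) ≪≫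
      eqToIso (by rw [Nat.cast_one, mul_one]; rfl) ≪≫ @asIso _ _ _ _ _ hi
  exact (CohLin.hIso e' q).injective.subsingleton

section Exact

/-- Sections of large twists of an exact sequence of coherent modules are exact. -/
theorem exists_exact_twist [IsNoetherianRing S]
    (hgen : (HomogeneousIdeal.irrelevant 𝒜).toIdeal = Ideal.span (𝒜 1 : Set S))
    (hinv : ∀ n, PicF.IsInvertible (Twist.twist 𝒜 n))
    (C : ShortComplex (Proj 𝒜).Modules) (hC : C.Exact) (h1 : Coh.IsCoh C.X₁)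
    (h2 : Coh.IsCoh C.X₂) (h3 : Coh.IsCoh C.X₃) [IsLocallyNoetherian (Proj 𝒜)] :
    ∃ N : ℕ, ∀ n : ℤ, (N : ℤ) ≤ n →
      Function.Exact (topMap ((DCoh.tensorRightMod (Twist.twist 𝒜 n)).map C.f))
        (topMap ((DCoh.tensorRightMod (Twist.twist 𝒜 n)).map C.g)) := by
  let f' : C.X₁ ⟶ kernel C.g := kernel.lift C.g C.f C.zero
  have : Epi f' := C.exact_iff_epi_kernel_lift.mp hC
  have hK : Coh.IsCoh (kernel C.g) := ProjTwist.Pn.isCoh_kernel C.g h2 h3.1
  have hL : Coh.IsCoh (kernel f') := ProjTwist.Pn.isCoh_kernel f' h1 hK.1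
  let π := cokernel.π (kernel.ι C.g)
  let j : cokernel (kernel.ι C.g) ⟶ C.X₃ :=
    cokernel.desc (kernel.ι C.g) C.g (kernel.condition C.g)
  have : Mono j := inferInstanceAs (Mono (Abelian.factorThruCoimage C.g))
  obtain ⟨N, hN⟩ := exists_vanishing_twist hgen (kernel f') hL 1
  refine ⟨N, fun n hn ↦ ?_⟩
  set T := DCoh.tensorRightMod (Twist.twist 𝒜 n)
  have hT : ∀ {S' : ShortComplex (Proj 𝒜).Modules}, S'.ShortExact → (S'.map T).ShortExact :=
    fun h ↦ ProjTwist.shortExact_tensor (hinv n) h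
  have s1 : (ShortComplex.mk (kernel.ι f') f' (kernel.condition f')).ShortExact :=
    ProjTwist.Pn.shortExact_kernel f'
  have s2 : (ShortComplex.mk (kernel.ι C.g) π (cokernel.condition _)).ShortExact :=
    { exact := ShortComplex.exact_of_g_is_cokernel _ (cokernelIsCokernel _) }
  have s3 : (ShortComplex.mk j (cokernel.π j) (cokernel.condition _)).ShortExact :=
    { exact := ShortComplex.exact_of_g_is_cokernel _ (cokernelIsCokernel _) }
  have hf : C.f = f' ≫ kernel.ι C.g := (kernel.lift_ι _ _ _).symm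
  have hg : C.g = π ≫ j := (cokernel.π_desc _ _ _).symm
  intro x
  constructor
  · intro hx
    rw [hg, T.map_comp, topMap_comp] at hx
    have h0 : topMap (T.map π) x = 0 :=
      topMap_f_injective (hT s3) (hx.trans (map_zero (topMap (T.map j))).symm)
    obtain ⟨y, hy⟩ := topMap_exact (hT s2) h0
    have : Subsingleton (Coh.HH (Proj 𝒜) (T.obj (kernel f')) 1) := hN n hn 1 one_pos le_rfl
    obtain ⟨z, hz⟩ := @topMap_g_surjective _ _ (hT s1) this y
    refine ⟨z, ?_⟩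
    rw [hf, T.map_comp, topMap_comp]
    exact (congrArg _ hz).trans hy
  · rintro ⟨z, rfl⟩
    rw [← topMap_comp, ← T.map_comp, C.zero, T.map_zero]
    change ((CohLin.abMap (0 : T.obj C.X₁ ⟶ T.obj C.X₃)).hom.app (op ⊤)).hom z = 0
    rw [show CohLin.abMap (0 : T.obj C.X₁ ⟶ T.obj C.X₃) = 0 from (CohLin.abFun _).map_zero _ _]
    rfl

end Exact

end Groth.Agent.GrModLib
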