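import Groth.Agent.TwistFlat.Main
import Groth.Agent.PicLaw.Basic
import Groth.Agent.ProjTwist.Pn.H0
import Groth.Agent.GrModLib.RpushVan

/-!
Twists `O(d)`, `d` any integer, on `P^n_Y` over the affine opens of `Y`.
-/

universe u

open CategoryTheory CategoryTheory.Limits AlgebraicGeometry

noncomputable section

namespace Groth.Agent.GrModLib

open Groth.Agent.ProjTwist Groth.Agent.ProjTwist.Pn

/-- Pullback of `O(d)` along a change of base ring. -/
theorem nonempty_pullback_twist_int (n : ℕ) {A B : Type u} [CommRing A] [CommRing B] (φ : A →+* B)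
    (d : ℤ) :
    Nonempty ((Scheme.Modules.pullback (ProperFin.pnMap n φ)).obj (Twist.twistProjSpace n A d) ≅
      Twist.twistProjSpace n B d) := by
  obtain ⟨k, rfl | rfl⟩ := Int.eq_nat_or_neg d
  · exact TwistFlat.nonempty_pullback_twist n φ k
  let F := Scheme.Modules.pullback (ProperFin.pnMap n φ)
  have hA := fun e : ℤ ↦ isInvertible_twistProjSpace n A e
  have hB := fun e : ℤ ↦ isInvertible_twistProjSpace n B e
  have hP := fun e : ℤ ↦ PicCl.isInvertible_pullback (ProperFin.pnMap n φ) (hA e)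
  obtain ⟨ek⟩ := TwistFlat.nonempty_pullback_twist n φ k
  obtain ⟨e0⟩ := TwistFlat.nonempty_pullback_twist n φ 0
  obtain ⟨a⟩ := nonempty_twistProjSpace_tensor n A (-(k : ℤ)) k
  obtain ⟨b⟩ := nonempty_twistProjSpace_tensor n B (k : ℤ) (-(k : ℤ))
  obtain ⟨s⟩ := PicLaw.tensor_assoc (hP (-(k : ℤ))) (hB k) (hB (-(k : ℤ)))
  let o := ProjTwist.twistZeroIso (CohB1.polyGrading n B)
  -- `P(-k) ⊗ B(k) ≅ O`
  let u : CohB1.tensorMod (F.obj (Twist.twistProjSpace n A (-(k : ℤ)))) (Twist.twistProjSpace n B k) ≅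
      Coh.structureModule (CohB1.ProjSpace n B) :=
    tensCongr (Iso.refl _) ek.symm ≪≫ (KFlat.PullTensor.pullTensorIso _ _ _).symm ≪≫
      F.mapIso (a ≪≫ eqToIso (congrArg (Twist.twistProjSpace n A) (by simp))) ≪≫ e0 ≪≫ o.symm
  -- `B(k) ⊗ B(-k) ≅ O`
  let v : CohB1.tensorMod (Twist.twistProjSpace n B k) (Twist.twistProjSpace n B (-(k : ℤ))) ≅
      Coh.structureModule (CohB1.ProjSpace n B) :=
    b ≪≫ eqToIso (congrArg (Twist.twistProjSpace n B) (by simp)) ≪≫ o.symm
  exact ⟨(tensOne _).symm ≪≫ tensCongr (Iso.refl _) v.symm ≪≫ s.symm ≪≫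
    tensCongr u (Iso.refl _) ≪≫ oneTens _⟩

/-- `O(d)` on `P^n_Y` restricted to the chart over an affine open. -/
theorem nonempty_restrict_twistOver (n : ℕ) {Y : Scheme.{u}} {V : Y.Opens} (hV : IsAffineOpen V)
    (d : ℤ) :
    letI := TwistFlat.isOpenImmersion_chart n hV
    Nonempty ((Twist.twistOver n Y d).restrict (TwistFlat.chart n hV) ≅
      Twist.twistProjSpace n Γ(Y, V) d) :=
  letI := TwistFlat.isOpenImmersion_chart n hV
  ⟨(Scheme.Modules.restrictFunctorIsoPullback _).app _ ≪≫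
    (Scheme.Modules.pullbackComp _ _).app _ ≪≫
    (Scheme.Modules.pullbackCongr (TwistFlat.chart_fst n hV)).app _ ≪≫
    (nonempty_pullback_twist_int n TwistFlat.toInt d).some⟩

theorem opensRange_chart (n : ℕ) {Y : Scheme.{u}} {V : Y.Opens} (hV : IsAffineOpen V) :
    letI := TwistFlat.isOpenImmersion_chart n hV
    (TwistFlat.chart n hV).opensRange = CohB1.ProjSpaceOver.toBase n Y ⁻¹ᵁ V := by
  letI := TwistFlat.isOpenImmersion_chart n hV
  rw [← Scheme.Hom.image_top_eq_opensRange,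
    show (⊤ : (CohB1.ProjSpace n Γ(Y, V)).Opens) = CohB1.ProjSpace.toSpec n Γ(Y, V) ⁻¹ᵁ ⊤ from rfl,
    AlgebraicGeometry.IsOpenImmersion.image_preimage_eq_preimage_image_of_isPullback
      (TwistFlat.isPullback_chart n hV) ⊤,
    TwistFlat.fromSpec_image_top hV]

/-- `R^i f_* O(d) = 0` outside the degrees `0` and `n`. -/
theorem isZero_RpushAb_twistOver (Y : Scheme.{u}) (n i : ℕ) (d : ℤ)
    (h : ¬ ((i = 0 ∧ 0 ≤ d) ∨ (i = n ∧ d ≤ -((n : ℤ) + 1)))) :
    IsZero ((Coh.RpushAb (CohB1.ProjSpaceOver.toBase n Y) i).obj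
      (Coh.toAb (Twist.twistOver n Y d))) := by
  haveI : (Twist.twistOver n Y d).IsQuasicoherent := TwistFlat.isQCoh_twistOver n Y d
  refine isZero_RpushAb_of_charts _ _ i fun V hV ↦ ?_
  refine ⟨_, TwistFlat.chart n hV, TwistFlat.isOpenImmersion_chart n hV, opensRange_chart n hV, ?_⟩
  letI := TwistFlat.isOpenImmersion_chart n hV
  obtain ⟨e⟩ := nonempty_restrict_twistOver n hV d
  have : Subsingleton (Coh.HH (CohB1.ProjSpace n Γ(Y, V)) (Twist.twistProjSpace n Γ(Y, V) d) i) := by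
    rcases Nat.eq_zero_or_pos i with rfl | hi
    · by_cases hd : 0 ≤ d
      · exact absurd (Or.inl ⟨rfl, hd⟩) h
      · rcases Nat.eq_zero_or_pos n with rfl | hn
        · exact absurd (Or.inr ⟨rfl, by push_cast; omega⟩) h
        · exact subsingleton_H0 hn (by omega)
    · obtain ⟨q, rfl⟩ := Nat.exists_eq_succ_of_ne_zero hi.ne'
      refine subsingleton_twist d q ?_
      by_cases hq : q + 1 = n
      · exact Or.inr (lt_of_not_ge fun hd ↦ h (Or.inr ⟨hq, hd⟩))
      · exact Or.inl hq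
  exact (CohLin.hIso e i).injective.subsingleton

end Groth.Agent.GrModLib
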