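import Groth.Agent.GrModLib.Alpha

/-!
Elementwise bijectivity in a degree passes to localizations at elements of degree zero.
-/

universe u

open DirectSum

namespace Groth.Agent.GrModLib

variable {A B σ σ' : Type u} [CommRing A] [SetLike σ A] [AddSubgroupClass σ A] {𝒜 : ℕ → σ}
  [GradedRing 𝒜] [CommRing B] [SetLike σ' B] [AddSubgroupClass σ' B] {ℬ : ℕ → σ'} [GradedRing ℬ]
variable {M N τ τ' : Type u} [AddCommGroup M] [Module A M] [SetLike τ M] [AddSubgroupClass τ M]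
  {ℳ : ℕ → τ} [SetLike.GradedSMul 𝒜 ℳ]
  [AddCommGroup N] [Module B N] [SetLike τ' N] [AddSubgroupClass τ' N] {𝒩 : ℕ → τ'}

variable (ℳ 𝒩) in
/-- `v : M → N` is, degree by degree, the localization at `c` of degree zero. -/
structure IsAwayMap (ψ : 𝒜 →+*ᵍ ℬ) (c : A) (v : M →ₛₗ[ψ.toRingHom] N) : Prop where
  deg : c ∈ 𝒜 0
  isUnit : IsUnit (ψ c)
  mem : ∀ (i : ℕ) (m : M), m ∈ ℳ i → v m ∈ 𝒩 i
  surj : ∀ (i : ℕ) (y : N), y ∈ 𝒩 i → ∃ (k : ℕ) (m : M), m ∈ ℳ i ∧ ψ c ^ k • y = v m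
  ker : ∀ m : M, v m = 0 → ∃ k : ℕ, c ^ k • m = 0

variable {ψ : 𝒜 →+*ᵍ ℬ} {c : A} {v : M →ₛₗ[ψ.toRingHom] N} {r : ℕ} {f : Fin r → A}
  {d : Fin r → ℕ} {n : ℕ}

omit [AddSubgroupClass σ A] [GradedRing 𝒜] [SetLike.GradedSMul 𝒜 ℳ] [AddSubgroupClass σ' B]
  [GradedRing ℬ] in
lemma map_smul_v (v : M →ₛₗ[ψ.toRingHom] N) (a : A) (m : M) : v (a • m) = ψ a • v m :=
  v.map_smulₛₗ a m

lemma pow_deg_zero (hc : c ∈ 𝒜 0) (k : ℕ) : c ^ k ∈ 𝒜 0 := by
  simpa using SetLike.pow_mem_graded k hc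

omit [AddSubgroupClass τ M] in
lemma smul_mem_same (hc : c ∈ 𝒜 0) {i : ℕ} {m : M} (hm : m ∈ ℳ i) (k : ℕ) : c ^ k • m ∈ ℳ i := by
  simpa using SetLike.GradedSMul.smul_mem (pow_deg_zero hc k) hm

omit [AddSubgroupClass τ' N] in
theorem IsAwayMap.injAt (h : IsAwayMap ℳ 𝒩 ψ c v) (hn : InjAt ℳ f ⊤ ⊥ n) :
    InjAt 𝒩 (fun k ↦ ψ (f k)) ⊤ ⊥ n := by
  intro y _ hy htor
  obtain ⟨k, m, hm, hmy⟩ := h.surj n y hy
  choose e he using htor
  have h1 : ∀ j, ∃ t, c ^ t • f j ^ e j • m = 0 := fun j ↦ h.ker _ (by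
    have := (Submodule.mem_bot B).mp (he j)
    rw [map_smul_v, map_pow, ← hmy, smul_comm, this, smul_zero])
  choose t ht using h1
  let T := Finset.univ.sup t
  have h2 : c ^ T • m = 0 := (Submodule.mem_bot A).mp <| hn _ trivial (smul_mem_same h.deg hm T)
    fun j ↦ ⟨e j, by
      rw [Submodule.mem_bot, smul_comm]
      exact (Submodule.mem_bot A).mp (le_of_pow_smul (K := ⊥) (Finset.le_sup (Finset.mem_univ j))
        ((Submodule.mem_bot A).mpr (ht j)))⟩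
  rw [Submodule.mem_bot]
  refine ((h.isUnit.pow T).mul (h.isUnit.pow k)).smul_eq_zero.mp ?_
  rw [mul_smul, hmy, ← map_pow, ← map_smul_v, h2, map_zero]

variable [SetLike.GradedSMul ℬ 𝒩]

omit [AddSubgroupClass τ' N] in
theorem IsAwayMap.surjAt (h : IsAwayMap ℳ 𝒩 ψ c v)
    (hn : SurjAt ℳ f d ⊤ ⊥ n) : SurjAt 𝒩 (fun k ↦ ψ (f k)) d ⊤ ⊥ n := by
  intro e y hy hcomp
  choose b m hm hmy using fun k ↦ h.surj _ (y k) (hy k).2
  let B' := Finset.univ.sup b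
  let m' : Fin r → M := fun k ↦ c ^ (B' - b k) • m k
  have hm' : ∀ k, ψ c ^ B' • y k = v (m' k) := fun k ↦ by
    rw [map_smul_v, map_pow, ← hmy k, ← mul_smul, ← pow_add,
      Nat.sub_add_cancel (Finset.le_sup (Finset.mem_univ k))]
  have hm'mem : ∀ k, m' k ∈ ℳ (e * d k + n) := fun k ↦ smul_mem_same h.deg (hm k) _
  choose N hN using hcomp
  have h1 : ∀ k l, ∃ t, c ^ t • ((f k * f l) ^ N k l • (f l ^ e • m' k - f k ^ e • m' l)) = 0 :=
    fun k l ↦ h.ker _ (by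
      have e1 : ∀ k l, v (f l ^ e • m' k) = ψ (f l) ^ e • (ψ c ^ B' • y k) := fun k l ↦ by
        rw [map_smul_v v (f l ^ e) (m' k), map_pow, hm' k]
      rw [map_smul_v, map_sub, e1 k l, e1 l k, map_pow, map_mul, smul_comm (ψ (f l) ^ e),
        smul_comm (ψ (f k) ^ e) (ψ c ^ B'), ← smul_sub, smul_comm,
        (Submodule.mem_bot B).mp (hN k l), smul_zero])
  choose t ht using h1
  let T := Finset.univ.sup fun kl : Fin r × Fin r ↦ t kl.1 kl.2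
  obtain ⟨z, -, hz, hzc⟩ := hn e (fun k ↦ c ^ T • m' k)
    (fun k ↦ ⟨trivial, smul_mem_same h.deg (hm'mem k) T⟩) fun k l ↦ by
      refine ⟨N k l, ?_⟩
      have hle : t k l ≤ T := Finset.le_sup (f := fun kl : Fin r × Fin r ↦ t kl.1 kl.2)
        (Finset.mem_univ (k, l))
      have h2 := le_of_pow_smul (K := (⊥ : Submodule A M)) hle ((Submodule.mem_bot A).mpr (ht k l))
      rw [smul_comm (f l ^ e), smul_comm (f k ^ e) (c ^ T), ← smul_sub, smul_comm]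
      exact h2
  obtain ⟨u, hu⟩ := (h.isUnit.pow (T + B')).exists_left_inv
  have hu0 : (DirectSum.decompose ℬ u 0 : B) * ψ c ^ (T + B') = 1 := by
    have hc0 : ψ c ^ (T + B') ∈ ℬ 0 := by simpa using SetLike.pow_mem_graded (T + B') (ψ.map_mem h.deg)
    have h4 := DirectSum.coe_decompose_mul_of_right_mem ℬ (a := u) (i := 0) 0 hc0
    rw [hu, DirectSum.decompose_of_mem_same ℬ (SetLike.GradedOne.one_mem), if_pos le_rfl,
      Nat.sub_zero] at h4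
    exact h4.symm
  set w := (DirectSum.decompose ℬ u 0 : B)
  refine ⟨w • v z, trivial, ?_, fun k ↦ ?_⟩
  · simpa using SetLike.GradedSMul.smul_mem (SetLike.coe_mem (DirectSum.decompose ℬ u 0))
      (h.mem n z hz)
  · obtain ⟨s, hs⟩ := hzc k
    refine ⟨s, ?_⟩
    rw [Submodule.mem_bot] at hs ⊢
    have hy' : y k = w • ψ c ^ T • v (m' k) := by
      rw [← hm' k, ← mul_smul, ← mul_smul, mul_assoc, ← pow_add, hu0, one_smul]
    rw [hy', smul_comm (ψ (f k) ^ e), ← smul_sub, smul_comm, ← map_pow, ← map_pow, ← map_pow,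
      ← map_smul_v, ← map_smul_v, ← map_sub, ← map_smul_v, hs, map_zero, smul_zero]

end Groth.Agent.GrModLib
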