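import Groth.Prelude.Def_RelProj3
import Groth.Agent.GrModLib.Localize
import Groth.Agent.RelProjLib.Res
import Groth.Agent.QCoh.Basic

/-!
Bijectivity of `α_n` uniformly over the affine opens, for a graded module over a graded algebra.
-/

universe u

open CategoryTheory AlgebraicGeometry TopologicalSpace Opposite DirectSum RelProj
open scoped HomogeneousIdeal

noncomputable section

namespace Groth.Agent.GrModLib

/-- Degree preserving additive maps commute with components. -/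
lemma cpt_map {M N τ τ' : Type u} [AddCommGroup M] [SetLike τ M] [AddSubgroupClass τ M] {ℳ : ℕ → τ}
    [Decomposition ℳ] [AddCommGroup N] [SetLike τ' N] [AddSubgroupClass τ' N] {𝒩 : ℕ → τ'}
    [Decomposition 𝒩] {F : Type*} [FunLike F M N] [AddMonoidHomClass F M N] (v : F)
    (hv : ∀ i m, m ∈ ℳ i → v m ∈ 𝒩 i) (i : ℕ) (m : M) : v (cpt ℳ i m) = cpt 𝒩 i (v m) := by
  induction m using DirectSum.Decomposition.inductionOn ℳ with
  | zero => simp
  | homogeneous y =>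
    rename_i j
    by_cases h : j = i
    · subst h; rw [cpt_same y.2, cpt_same (hv _ _ y.2)]
    · rw [cpt_ne y.2 h, map_zero, cpt_ne (hv _ _ y.2) h]
  | add a b ha hb => rw [map_add, map_add, ha, hb, map_add, map_add]

section Points

variable {A B σ σ' : Type u} [CommRing A] [SetLike σ A] [AddSubgroupClass σ A] {𝒜 : ℕ → σ}
  [GradedRing 𝒜] [CommRing B] [SetLike σ' B] [AddSubgroupClass σ' B] {ℬ : ℕ → σ'} [GradedRing ℬ]

/-- A point of `Proj A` at which `c` does not vanish lifts to `Proj A[1/c]`. -/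
lemma exists_point_over {ψ : 𝒜 →+*ᵍ ℬ} {c : 𝒜 0} (h : RelProjLib.IsAwayZero ψ c)
    (x : ProjectiveSpectrum 𝒜) (hx : (c : A) ∉ x.asHomogeneousIdeal) :
    ∃ y : ProjectiveSpectrum ℬ, ∀ a : A, ψ a ∈ y.asHomogeneousIdeal ↔ a ∈ x.asHomogeneousIdeal := by
  let := ψ.toRingHom.toAlgebra
  have : IsLocalization.Away (c : A) B := by
    refine (isLocalization_iff (Submonoid.powers (c : A)) B).2 ⟨?_, fun b ↦ ?_, fun {a a'} e ↦ ?_⟩
    · rintro ⟨_, k, rfl⟩
      change IsUnit (ψ ((c : A) ^ k))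
      rw [map_pow]
      exact h.isUnit.pow k
    · obtain ⟨a, k, hk⟩ := h.surj b
      refine ⟨(a, ⟨_, k, rfl⟩), ?_⟩
      change b * ψ ((c : A) ^ k) = ψ a
      rw [map_pow]; exact hk
    · obtain ⟨k, hk⟩ := h.ker (a - a') (by rw [map_sub]; exact sub_eq_zero.mpr e)
      exact ⟨⟨_, k, rfl⟩, by rwa [mul_sub, sub_eq_zero] at hk⟩
  have hdisj : Disjoint (Submonoid.powers (c : A) : Set A) x.asHomogeneousIdeal.toIdeal :=
    Set.disjoint_left.mpr fun a ⟨k, hk⟩ ha ↦ pow_nin hx k (by subst hk; exact ha)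
  have hp := IsLocalization.isPrime_of_isPrime_disjoint (Submonoid.powers (c : A)) B
    x.asHomogeneousIdeal.toIdeal x.isPrime hdisj
  have hcomap := IsLocalization.under_map_of_isPrime_disjoint (Submonoid.powers (c : A)) B
    x.isPrime hdisj
  refine ⟨⟨x.asHomogeneousIdeal.map ψ, hp, fun hle ↦ x.not_irrelevant_le fun a ha ↦ ?_⟩,
    fun a ↦ SetLike.ext_iff.mp hcomap a⟩
  refine (SetLike.ext_iff.mp hcomap a).mp (hle ?_)
  rw [HomogeneousIdeal.mem_irrelevant_iff, GradedRing.proj_apply] at ha ⊢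
  change (DirectSum.decompose ℬ (ψ a) 0 : B) = 0
  rw [← GradedRingHom.map_directSumDecompose, ha, map_zero]

end Points

variable {Y : Scheme.{u}} {𝒮 : QCGrAlg Y} (ℳ : GrModule 𝒮) (n : ℕ)

/-- Elementwise bijectivity in degree `n` over the affine open `U`. -/
def UnifAt (U : Y.Opens) (hU : IsAffineOpen U) : Prop :=
  ∃ (r : ℕ) (f : Fin r → 𝒮.presheaf.obj (op U)) (d : Fin r → ℕ), (∀ k, 0 < d k) ∧
    (∀ k, f k ∈ 𝒮.deg U hU (d k)) ∧
    (∀ (i : ℕ) (a : 𝒮.presheaf.obj (op U)), 0 < i → a ∈ 𝒮.deg U hU i →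
      a ∈ Ideal.span (Set.range f)) ∧
    InjAt (ℳ.deg U hU) f ⊤ ⊥ n ∧ SurjAt (ℳ.deg U hU) f d ⊤ ⊥ n

variable {ℳ n}

theorem UnifAt.bijective {U : Y.Opens} {hU : IsAffineOpen U} (h : UnifAt ℳ n U hU) :
    Function.Bijective (fun m : ℳ.deg U hU n ↦ GrMod.globalOf (𝒮.deg U hU) (ℳ.deg U hU) m) := by
  obtain ⟨r, f, d, hd, hf, hirr, h1, h2⟩ := h
  exact bijective_globalOf hd hf hirr h1 h2

variable (hℳ : Coh.IsQCoh ((AMod.toOS 𝒮.toQCAlg).obj ℳ.mod))

include hℳ in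
lemma isAwayMap_res {U V : Y.Opens} (hU : IsAffineOpen U) (hV : IsAffineOpen V) (r : Γ(Y, U))
    (e : Y.basicOpen r = V) (i : V ≤ U) :
    IsAwayMap (ℳ.deg U hU) (ℳ.deg V hV) (𝒮.res hU hV i) ((𝒮.str.app (op U)).hom r)
      (ℳ.res hU hV i) := by
  subst e
  have hl : QCoh.IsLocalizingAt ((AMod.toOS 𝒮.toQCAlg).obj ℳ.mod) r :=
    (QCoh.isQuasicoherent_iff_forall_isAffineOpen _).mp hℳ U hU r
  refine ⟨𝒮.str_mem U hU r, (RelProjLib.isAwayZero_res 𝒮 U hU r).isUnit,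
    fun j m hm ↦ ℳ.res_mem hU hV i j m hm, fun j y hy ↦ ?_, fun m hm ↦ ?_⟩
  · obtain ⟨k, t, ht⟩ := hl.surj y
    obtain ⟨t', rfl⟩ : ∃ t' : ℳ.mod.val.obj (op U), t' = t := ⟨t, rfl⟩
    refine ⟨k, cpt (ℳ.deg U hU) j t', cpt_mem j t', ?_⟩
    rw [cpt_map (ℳ.res hU hV i) (fun j m hm ↦ ℳ.res_mem hU hV i j m hm)]
    have hnat : (𝒮.str.app (op (Y.basicOpen r))).hom (QCoh.rres (Y.basicOpen_le r) r) =
        𝒮.res hU hV i ((𝒮.str.app (op U)).hom r) :=
      congr($(𝒮.str.naturality (homOfLE (Y.basicOpen_le r)).op).hom r)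
    have ht' : ℳ.res hU hV i t' = (𝒮.res hU hV i ((𝒮.str.app (op U)).hom r)) ^ k • y := by
      rw [← hnat, ← map_pow]
      exact ht
    rw [ht', cpt_same]
    exact smul_mem_same ((𝒮.res hU hV i).map_mem (𝒮.str_mem U hU r)) hy k
  · obtain ⟨k, hk⟩ := hl.eq_zero m hm
    refine ⟨k, ?_⟩
    rw [← map_pow]
    exact hk

include hℳ in
theorem UnifAt.basic {U V : Y.Opens} {hU : IsAffineOpen U} (h : UnifAt ℳ n U hU)
    (hV : IsAffineOpen V) (r : Γ(Y, U)) (e : Y.basicOpen r = V) : UnifAt ℳ n V hV := by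
  obtain ⟨l, f, d, hd, hf, hirr, h1, h2⟩ := h
  have i : V ≤ U := e ▸ Y.basicOpen_le r
  have hA := isAwayMap_res hℳ hU hV r e i
  refine ⟨l, fun k ↦ 𝒮.res hU hV i (f k), d, hd, fun k ↦ (𝒮.res hU hV i).map_mem (hf k),
    fun j b hj hb ↦ ?_, hA.injAt h1, hA.surjAt h2⟩
  have hb1 : b ∈ ((𝒮.deg U hU)₊).map (𝒮.res hU hV i) :=
    RelProjLib.irrelevant_le_map_affine 𝒮 hU hV i (HomogeneousIdeal.mem_irrelevant_of_mem _ hj hb)
  refine Ideal.map_le_iff_le_comap.mpr ?_ hb1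
  refine HomogeneousIdeal.toIdeal_irrelevant_le _ |>.mpr fun j hj a ha ↦ ?_
  have h3 := Ideal.mem_map_of_mem (𝒮.res hU hV i).toRingHom (hirr j a hj ha)
  rw [Ideal.map_span, ← Set.range_comp] at h3
  exact h3

include hℳ in
/-- If `UnifAt` holds on an affine cover, `α_n` is bijective over every affine open. -/
theorem bijective_of_unifAt {ι : Type*} (W : ι → Y.Opens) (hW : ∀ j, IsAffineOpen (W j))
    (hcov : ⨆ j, W j = ⊤) (hunif : ∀ j, UnifAt ℳ n (W j) (hW j)) (U : Y.Opens)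
    (hU : IsAffineOpen U) :
    Function.Bijective (GrMod.alpha (𝒮.deg U hU) (ℳ.deg U hU) n) := by
  have H : ∀ p : U, ∃ (V : Y.Opens) (hV : IsAffineOpen V) (s : Γ(Y, U)),
      p.1 ∈ V ∧ Y.basicOpen s = V ∧ UnifAt ℳ n V hV := fun p ↦ by
    obtain ⟨j, hj⟩ := Opens.mem_iSup.mp (hcov.ge (trivial : p.1 ∈ (⊤ : Y.Opens)))
    obtain ⟨r, s, e, hp⟩ := exists_basicOpen_le_affine_inter (hW j) hU p.1 ⟨hj, p.2⟩
    exact ⟨Y.basicOpen r, (hW j).basicOpen r, s, hp, e.symm,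
      (hunif j).basic hℳ _ r rfl⟩
  choose V hV s hpV hs hVu using H
  have i : ∀ p, V p ≤ U := fun p ↦ hs p ▸ Y.basicOpen_le (s p)
  have hA := fun p ↦ isAwayMap_res hℳ hU (hV p) (s p) (hs p) (i p)
  have hcovV : U ≤ ⨆ p, V p := fun x hx ↦ Opens.mem_iSup.mpr ⟨⟨x, hx⟩, hpV _⟩
  have hirrV := fun p ↦ RelProjLib.irrelevant_le_map_affine 𝒮 hU (hV p) (i p)
  -- a point of the big `Proj` lifts to one of the small ones
  have hlift : ∀ x : ProjectiveSpectrum (𝒮.deg U hU), ∃ p,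
      ∃ y : ProjectiveSpectrum (𝒮.deg (V p) (hV p)),
        ∀ a, 𝒮.res hU (hV p) (i p) a ∈ y.asHomogeneousIdeal ↔ a ∈ x.asHomogeneousIdeal := fun x ↦ by
    have hspan : Ideal.span (Set.range s) = ⊤ := by
      rw [← hU.self_le_iSup_basicOpen_iff]
      intro q hq
      exact Opens.mem_iSup.mpr ⟨⟨s ⟨q, hq⟩, ⟨q, hq⟩, rfl⟩, (hs _).symm ▸ hpV ⟨q, hq⟩⟩
    obtain ⟨p, hp⟩ : ∃ p, (𝒮.str.app (op U)).hom (s p) ∉ x.asHomogeneousIdeal.toIdeal := by
      by_contra! hne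
      have h1 := (Ideal.span_le.mpr (fun _ ⟨p, hp⟩ ↦ hp ▸ hne p) :
        Ideal.span (Set.range s) ≤ x.asHomogeneousIdeal.toIdeal.comap (𝒮.str.app (op U)).hom)
        (hspan.ge (Submodule.mem_top (x := 1)))
      rw [Ideal.mem_comap, map_one] at h1
      exact GrMod.one_nin x h1
    refine ⟨p, ?_⟩
    have gen : ∀ (V' : Y.Opens) (hV' : IsAffineOpen V') (i' : V' ≤ U), Y.basicOpen (s p) = V' →
        ∃ y : ProjectiveSpectrum (𝒮.deg V' hV'),
          ∀ a, 𝒮.res hU hV' i' a ∈ y.asHomogeneousIdeal ↔ a ∈ x.asHomogeneousIdeal := by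
      intro V' hV' i' eV
      subst eV
      exact exists_point_over (RelProjLib.isAwayZero_res 𝒮 U hU (s p)) x hp
    exact gen _ _ _ (hs p)
  constructor
  · intro m m' hmm
    have hz : ∀ x : ProjectiveSpectrum (𝒮.deg U hU),
        ∃ c ∉ x.asHomogeneousIdeal, c • ((m : ℳ.mod.val.obj (op U)) - m') = 0 := fun x ↦ by
      have h : mk x (m : ℳ.mod.val.obj (op U)) 1 (GrMod.one_nin x) =
          mk x (m' : ℳ.mod.val.obj (op U)) 1 (GrMod.one_nin x) :=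
        congrArg (fun t : GrMod.sect (𝒮.deg U hU) (ℳ.deg U hU) (n : ℤ) (op ⊤) ↦ valAt t x trivial) hmm
      simpa using mk_eq_mk_iff.mp h
    refine Subtype.ext (QCoh.eq_of_locally_eq ((AMod.toOS 𝒮.toQCAlg).obj ℳ.mod) i hcovV
      (m : ℳ.mod.val.obj (op U)) (m' : ℳ.mod.val.obj (op U)) fun p ↦ ?_)
    have he := (hVu p).bijective.1
      (a₁ := ⟨ℳ.res hU (hV p) (i p) m, ℳ.res_mem hU (hV p) (i p) n m m.2⟩)
      (a₂ := ⟨ℳ.res hU (hV p) (i p) m', ℳ.res_mem hU (hV p) (i p) n m' m'.2⟩)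
      (Subtype.ext (funext fun y ↦ Subtype.ext (by
        obtain ⟨c, hc, hcm⟩ := hz (ProjectiveSpectrum.comap _ (hirrV p) y.1)
        refine mk_eq_mk_iff.mpr ⟨𝒮.res hU (hV p) (i p) c, hc, ?_⟩
        change _ • ((1 : 𝒮.presheaf.obj (op (V p))) • ℳ.res hU (hV p) (i p) m -
          (1 : 𝒮.presheaf.obj (op (V p))) • ℳ.res hU (hV p) (i p) m') = 0
        rw [one_smul, one_smul, ← map_sub]
        exact (map_smul_v (ℳ.res hU (hV p) (i p)) c _).symm.trans (by rw [hcm, map_zero]))))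
    exact congrArg Subtype.val he
  · intro t
    -- the values of `t`
    have hrep : ∀ x : ProjectiveSpectrum (𝒮.deg U hU), ∃ (a : ℳ.mod.val.obj (op U))
        (g : 𝒮.presheaf.obj (op U)) (hg : g ∉ x.asHomogeneousIdeal),
          valAt t x trivial = mk x a g hg := fun x ↦ by
      obtain ⟨V', hxV, iV, i', j', a, g, nin, -, w⟩ := t.2 ⟨x, trivial⟩
      exact ⟨a, g, nin ⟨x, hxV⟩, w ⟨x, hxV⟩⟩
    have hloc : ∀ p, ∃ m ∈ ℳ.deg (V p) (hV p) n, ∀ (y : ProjectiveSpectrum (𝒮.deg (V p) (hV p)))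
        (a : ℳ.mod.val.obj (op U)) (g : 𝒮.presheaf.obj (op U))
        (hg : g ∉ (ProjectiveSpectrum.comap _ (hirrV p) y).asHomogeneousIdeal),
        valAt t (ProjectiveSpectrum.comap _ (hirrV p) y) trivial = mk _ a g hg →
        ∃ c ∉ y.asHomogeneousIdeal,
          c • (𝒮.res hU (hV p) (i p) g • m - ℳ.res hU (hV p) (i p) a) = 0 := fun p ↦ by
      obtain ⟨m, hm⟩ := (hVu p).bijective.2 (GrMod.comapApp (𝒮.res hU (hV p) (i p)) (hirrV p)
        (ℳ.res hU (hV p) (i p)) (fun j z hz ↦ ℳ.res_mem hU (hV p) (i p) j z hz) (n : ℤ) ⊤ ⊤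
        (fun _ _ ↦ trivial) t)
      refine ⟨m.1, m.2, fun y a g hg hval ↦ ?_⟩
      have h1 : mk y m.1 1 (GrMod.one_nin y) =
          mk y (ℳ.res hU (hV p) (i p) a) (𝒮.res hU (hV p) (i p) g) hg := by
        refine (congrArg (fun u : GrMod.sect (𝒮.deg (V p) (hV p)) (ℳ.deg (V p) (hV p)) (n : ℤ)
          (op ⊤) ↦ valAt u y trivial) hm).trans ?_
        refine Eq.trans ?_ (GrMod.locModMap_mk _ _ _ y a ⟨g, hg⟩)
        exact congrArg (GrMod.locModMap _ (hirrV p) _ y) hval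
      obtain ⟨c, hc, hcm⟩ := mk_eq_mk_iff.mp h1
      exact ⟨c, hc, by rwa [one_smul] at hcm⟩
    choose m hmdeg hmval using hloc
    have hcompat : ∀ p q, QCoh.res ((AMod.toOS 𝒮.toQCAlg).obj ℳ.mod) inf_le_left (m p) =
        QCoh.res ((AMod.toOS 𝒮.toQCAlg).obj ℳ.mod) inf_le_right (m q) := fun p q ↦ by
      set Z := V p ⊓ V q
      have hbas : Y.basicOpen (QCoh.rres (i p) (s q)) = Z := by
        rw [Scheme.basicOpen_res, hs q]
      have hZ : IsAffineOpen Z := hbas ▸ (hV p).basicOpen _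
      have hZu : UnifAt ℳ n Z hZ := (hVu p).basic hℳ hZ _ hbas
      have hrr : ∀ (p : U) (hp : Z ≤ V p) (a : 𝒮.presheaf.obj (op U)),
          𝒮.res (hV p) hZ hp (𝒮.res hU (hV p) (i p) a) = 𝒮.res hU hZ (hp.trans (i p)) a :=
        fun p hp a ↦ congr($((RelProjLib.res_comp 𝒮 hU (hV p) hZ (i p) hp).symm) a)
      have hmr : ∀ (p : U) (hp : Z ≤ V p) (a : ℳ.mod.val.obj (op U)),
          ℳ.res (hV p) hZ hp (ℳ.res hU (hV p) (i p) a) = ℳ.res hU hZ (hp.trans (i p)) a :=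
        fun p hp a ↦ QCoh.res_res ((AMod.toOS 𝒮.toQCAlg).obj ℳ.mod) (i p) hp a
      have key : ∀ (p : U) (hp : Z ≤ V p) (z : ProjectiveSpectrum (𝒮.deg Z hZ))
          (a : ℳ.mod.val.obj (op U)) (g : 𝒮.presheaf.obj (op U))
          (hg : g ∉ (ProjectiveSpectrum.comap _
            (RelProjLib.irrelevant_le_map_affine 𝒮 hU hZ (hp.trans (i p))) z).asHomogeneousIdeal),
          valAt t (ProjectiveSpectrum.comap _
            (RelProjLib.irrelevant_le_map_affine 𝒮 hU hZ (hp.trans (i p))) z) trivial = mk _ a g hg →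
          mk z (ℳ.res (hV p) hZ hp (m p)) 1 (GrMod.one_nin z) =
            mk z (ℳ.res hU hZ (hp.trans (i p)) a) (𝒮.res hU hZ (hp.trans (i p)) g) hg := by
        intro p hp z a g hg hval
        set y := ProjectiveSpectrum.comap _ (RelProjLib.irrelevant_le_map_affine 𝒮 (hV p) hZ hp) z
        have hxy : ProjectiveSpectrum.comap _ (hirrV p) y = ProjectiveSpectrum.comap _
            (RelProjLib.irrelevant_le_map_affine 𝒮 hU hZ (hp.trans (i p))) z := by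
          refine ProjectiveSpectrum.ext (HomogeneousIdeal.ext (SetLike.ext fun b ↦ ?_))
          change 𝒮.res (hV p) hZ hp (𝒮.res hU (hV p) (i p) b) ∈ z.asHomogeneousIdeal ↔
            𝒮.res hU hZ (hp.trans (i p)) b ∈ z.asHomogeneousIdeal
          rw [hrr p hp b]
        have gen : ∀ x (e : ProjectiveSpectrum.comap _ (hirrV p) y = x)
            (hg' : g ∉ x.asHomogeneousIdeal), valAt t x trivial = mk x a g hg' →
            ∃ hg'' : g ∉ (ProjectiveSpectrum.comap _ (hirrV p) y).asHomogeneousIdeal,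
              valAt t (ProjectiveSpectrum.comap _ (hirrV p) y) trivial = mk _ a g hg'' := by
          intro x e hg' h
          subst e
          exact ⟨hg', h⟩
        obtain ⟨hg'', hval'⟩ := gen _ hxy hg hval
        obtain ⟨c, hc, hcm⟩ := hmval p y a g hg'' hval'
        refine mk_eq_mk_iff.mpr ⟨𝒮.res (hV p) hZ hp c, hc, ?_⟩
        rw [one_smul, ← hrr p hp g, ← hmr p hp a, ← map_smul_v, ← map_sub, ← map_smul_v, hcm,
          map_zero]
      have he := hZu.bijective.1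
        (a₁ := ⟨ℳ.res (hV p) hZ inf_le_left (m p),
          ℳ.res_mem (hV p) hZ inf_le_left n _ (hmdeg p)⟩)
        (a₂ := ⟨ℳ.res (hV q) hZ inf_le_right (m q),
          ℳ.res_mem (hV q) hZ inf_le_right n _ (hmdeg q)⟩)
        (Subtype.ext (funext fun z ↦ Subtype.ext (by
          obtain ⟨a, g, hg, hval⟩ := hrep (ProjectiveSpectrum.comap _
            (RelProjLib.irrelevant_le_map_affine 𝒮 hU hZ (inf_le_left.trans (i p))) z.1)
          exact (key p inf_le_left z.1 a g hg hval).trans (key q inf_le_right z.1 a g hg hval).symm)))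
      exact congrArg Subtype.val he
    obtain ⟨m₁, hm₁⟩ := QCoh.exists_glue ((AMod.toOS 𝒮.toQCAlg).obj ℳ.mod) i hcovV m hcompat
    obtain ⟨m₀, hm₀⟩ : ∃ m₀ : ℳ.mod.val.obj (op U), ∀ p, ℳ.res hU (hV p) (i p) m₀ = m p :=
      ⟨m₁, hm₁⟩
    suffices hfin : ∀ x : ProjectiveSpectrum (𝒮.deg U hU),
        mk x (cpt (ℳ.deg U hU) n m₀) 1 (GrMod.one_nin x) = valAt t x trivial from
      ⟨⟨cpt (ℳ.deg U hU) n m₀, cpt_mem n m₀⟩,
        Subtype.ext (funext fun x ↦ Subtype.ext (hfin x.1))⟩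
    intro x
    obtain ⟨p, y, hy⟩ := hlift x
    have hyx : ProjectiveSpectrum.comap _ (hirrV p) y = x :=
      ProjectiveSpectrum.ext (HomogeneousIdeal.ext (SetLike.ext fun b ↦ hy b))
    subst hyx
    obtain ⟨a, g, hg'', hval'⟩ := hrep (ProjectiveSpectrum.comap _ (hirrV p) y)
    refine Eq.trans ?_ hval'.symm
    obtain ⟨c, hc, hcm⟩ := hmval p y a g hg'' hval'
    have hres : ℳ.res hU (hV p) (i p) (cpt (ℳ.deg U hU) n m₀) = m p := by
      rw [cpt_map (ℳ.res hU (hV p) (i p)) (fun j z hz ↦ ℳ.res_mem hU (hV p) (i p) j z hz)]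
      rw [hm₀ p, cpt_same (hmdeg p)]
    have gen' : ∀ (V' : Y.Opens) (hV' : IsAffineOpen V') (i' : V' ≤ U), Y.basicOpen (s p) = V' →
        ∀ (y' : ProjectiveSpectrum (𝒮.deg V' hV')),
        (∀ b, 𝒮.res hU hV' i' b ∈ y'.asHomogeneousIdeal ↔ b ∈ (ProjectiveSpectrum.comap _ (hirrV p) y).asHomogeneousIdeal) →
        ∀ (z : ℳ.mod.val.obj (op U)) (c : 𝒮.presheaf.obj (op V')), c ∉ y'.asHomogeneousIdeal →
        c • ℳ.res hU hV' i' z = 0 → ∃ b ∉ (ProjectiveSpectrum.comap _ (hirrV p) y).asHomogeneousIdeal, b • z = 0 := by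
      intro V' hV' i' eV y' hy' z c hc hcz
      subst eV
      obtain ⟨b, k, hb⟩ := (RelProjLib.isAwayZero_res 𝒮 U hU (s p)).surj c
      have hA' := isAwayMap_res hℳ hU hV' (s p) rfl i'
      obtain ⟨j, hj⟩ := hA'.ker (b • z) (by
        rw [map_smul_v, ← hb, mul_comm, mul_smul, hcz, smul_zero])
      refine ⟨((𝒮.str.app (op U)).hom (s p)) ^ j * b, ?_, by rw [mul_smul, hj]⟩
      rw [← hy']
      have hu : IsUnit (𝒮.res hU hV' i' ((𝒮.str.app (op U)).hom (s p))) := hA'.isUnit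
      rw [map_mul, map_pow, ← hb, ← mul_assoc, mul_comm _ c, mul_assoc]
      intro hmem
      rcases y'.isPrime.mem_or_mem hmem with h' | h'
      · exact hc h'
      · exact y'.isPrime.ne_top (Ideal.eq_top_of_isUnit_mem _ h' ((hu.pow j).mul (hu.pow k)))
    obtain ⟨b, hb, hbm⟩ := gen' _ (hV p) (i p) (hs p) y hy
      (g • cpt (ℳ.deg U hU) n m₀ - a) c hc (by rw [map_sub, map_smul_v, hres]; exact hcm)
    exact mk_eq_mk_iff.mpr ⟨b, hb, by rwa [one_smul]⟩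

/-- One bound for all affine opens. -/
theorem exists_uniform_bound [AlgebraicGeometry.IsNoetherian Y]
    (hft : ∀ (U : Y.Opens) (_ : IsAffineOpen U), (𝒮.str.app (op U)).hom.FiniteType)
    (hℳ : Coh.IsQCoh ((AMod.toOS 𝒮.toQCAlg).obj ℳ.mod)) (hTF : ℳ.IsTF) :
    ∃ N : ℕ, ∀ n : ℕ, N ≤ n → ∀ (U : Y.Opens) (hU : IsAffineOpen U),
      Function.Bijective (GrMod.alpha (𝒮.deg U hU) (ℳ.deg U hU) n) := by
  classical
  obtain ⟨k₀, hk₀⟩ := hTF
  have hcov : ⨆ W : Y.affineOpens, (W : Y.Opens) = ⊤ := iSup_affineOpens_eq_top Y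
  obtain ⟨T, hT⟩ := isCompact_univ.elim_finite_subcover
    (fun W : Y.affineOpens ↦ ((W : Y.Opens) : Set Y)) (fun W ↦ W.1.isOpen)
    (fun y _ ↦ Set.mem_iUnion.mpr (Opens.mem_iSup.mp (hcov.ge (trivial : y ∈ (⊤ : Y.Opens)))))
  have hU : ∀ W : Y.affineOpens, ∃ N, ∀ n, N ≤ n → UnifAt ℳ n W.1 W.2 := fun W ↦ by
    have : IsNoetherianRing Γ(Y, W.1) := IsLocallyNoetherian.component_noetherian W
    let := (𝒮.str.app (op W.1)).hom.toAlgebra
    have : Algebra.FiniteType Γ(Y, W.1) (𝒮.presheaf.obj (op W.1)) := hft W.1 W.2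
    have := Algebra.FiniteType.isNoetherianRing Γ(Y, W.1) (𝒮.presheaf.obj (op W.1))
    obtain ⟨l, f, d, hd, hf, hirr⟩ := exists_irrelevant_gens (𝒮.deg W.1 W.2)
    obtain ⟨N, hN⟩ := exists_uniform (ℳ := ℳ.deg W.1 W.2) hf hirr ⟨k₀, hk₀ W.1 W.2⟩
    exact ⟨N, fun n hn ↦ ⟨l, f, d, hd, hf, hirr, hN n hn⟩⟩
  choose N hN using hU
  refine ⟨T.sup N, fun n hn U hU ↦ bijective_of_unifAt hℳ (fun W : T ↦ (W.1 : Y.Opens))
    (fun W ↦ W.1.2) ?_ (fun W ↦ hN W.1 n (le_trans (Finset.le_sup W.2) hn)) U hU⟩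
  refine top_le_iff.mp fun y _ ↦ ?_
  obtain ⟨W, hW, hyW⟩ := Set.mem_iUnion₂.mp (hT (Set.mem_univ y))
  exact Opens.mem_iSup.mpr ⟨⟨W, hW⟩, hyW⟩

end Groth.Agent.GrModLib
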