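import Groth.Agent.GrModLib.Shift
import Groth.Agent.GrModLib.RelUniform
import Groth.Agent.QCoh.Basic

/-!
Local liftings of fractions: vanishing, injectivity, surjectivity and exactness of `M(n)~`.
-/

universe u

open DirectSum CategoryTheory CategoryTheory.Limits AlgebraicGeometry TopologicalSpace Opposite

noncomputable section

namespace Groth.Agent.GrModLib

section Modules

variable {X : Scheme.{u}} {F G H : X.Modules}

/-- A morphism injective on all sections is a monomorphism. -/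
theorem mono_of_injective (φ : F ⟶ G) (h : ∀ W s, φ.app W s = 0 → s = 0) : Mono φ := by
  refine Preadditive.mono_of_cancel_zero _ fun {Q} π hπ ↦ ?_
  refine Scheme.Modules.hom_ext π 0 fun W ↦ ?_
  ext s
  exact h W _ congr(($hπ).app W s)

/-- A morphism surjective on sections locally is an epimorphism. -/
theorem epi_of_locally_surjective (φ : F ⟶ G)
    (h : ∀ (W : X.Opens) (t : Γ(G, W)), ∀ x ∈ W, ∃ (W' : X.Opens) (hle : W' ≤ W),
      x ∈ W' ∧ ∃ s : Γ(F, W'), φ.app W' s = QCoh.res G hle t) : Epi φ := by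
  refine Preadditive.epi_of_cancel_zero _ fun {Q} π hπ ↦ ?_
  refine Scheme.Modules.hom_ext π 0 fun W ↦ ?_
  ext t
  choose W' hle hx s hs using fun x : W ↦ h W t x.1 x.2
  refine QCoh.eq_zero_of_locally_eq_zero Q hle
    (fun x hx' ↦ Opens.mem_iSup.mpr ⟨⟨x, hx'⟩, hx _⟩) _ fun x ↦ ?_
  rw [← QCoh.app_res, ← hs x]
  exact congr(($hπ).app (W' x) (s x))

/-- Exactness from local liftings. -/
theorem exact_of_locally_exists (f : F ⟶ G) (g : G ⟶ H) (w : f ≫ g = 0)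
    (h : ∀ (W : X.Opens) (t : Γ(G, W)), g.app W t = 0 → ∀ x ∈ W, ∃ (W' : X.Opens) (hle : W' ≤ W),
      x ∈ W' ∧ ∃ s : Γ(F, W'), f.app W' s = QCoh.res G hle t) : (ShortComplex.mk f g w).Exact := by
  rw [ShortComplex.exact_iff_kernel_ι_comp_cokernel_π_zero]
  refine Scheme.Modules.hom_ext _ 0 fun W ↦ ?_
  ext k
  change (cokernel.π f).app W ((kernel.ι g).app W k) = 0
  have h0 : g.app W ((kernel.ι g).app W k) = 0 := congr(($(kernel.condition g)).app W k)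
  choose W' hle hx s hs using fun x : W ↦ h W _ h0 x.1 x.2
  refine QCoh.eq_zero_of_locally_eq_zero _ hle
    (fun x hx' ↦ Opens.mem_iSup.mpr ⟨⟨x, hx'⟩, hx _⟩) _ fun x ↦ ?_
  rw [← QCoh.app_res, ← hs x]
  exact congr(($(cokernel.condition f)).app (W' x) (s x))

end Modules

variable {A σ : Type u} [CommRing A] [SetLike σ A] [AddSubgroupClass σ A] {𝒜 : ℕ → σ} [GradedRing 𝒜]
variable {M τ : Type u} [AddCommGroup M] [Module A M] [SetLike τ M] [AddSubgroupClass τ M]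
  {ℳ : ℕ → τ} [DirectSum.Decomposition ℳ] [SetLike.GradedSMul 𝒜 ℳ]

/-- Some homogeneous element of positive degree does not vanish at a given point. -/
theorem exists_pos_nin (x : ProjectiveSpectrum 𝒜) :
    ∃ (d : ℕ) (f : A), 0 < d ∧ f ∈ 𝒜 d ∧ f ∉ x.asHomogeneousIdeal := by
  by_contra! h
  exact x.not_irrelevant_le ((HomogeneousIdeal.irrelevant_le _).mpr fun i hi a ha ↦ h i a hi ha)

/-- The `D₊(f)`, `f` of positive degree, form a basis. -/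
theorem exists_dPlus_le {U : Opens (ProjectiveSpectrum.top 𝒜)} {x : ProjectiveSpectrum 𝒜}
    (hx : x ∈ U) :
    ∃ (d : ℕ) (f : A), 0 < d ∧ f ∈ 𝒜 d ∧ x ∈ dPlus 𝒜 f ∧ dPlus 𝒜 f ≤ U := by
  obtain ⟨_, ⟨r, rfl⟩, hxr, hrU⟩ :=
    (ProjectiveSpectrum.isTopologicalBasis_basic_opens 𝒜).isOpen_iff.mp U.isOpen x hx
  obtain ⟨p, hp⟩ : ∃ p, (decompose 𝒜 r p : A) ∉ x.asHomogeneousIdeal := by
    by_contra! hall
    classical
    refine hxr ?_
    rw [← DirectSum.sum_support_decompose 𝒜 r]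
    exact Ideal.sum_mem _ fun p _ ↦ hall p
  obtain ⟨d, f, hd, hf, hxf⟩ := exists_pos_nin x
  refine ⟨p + d, _, by omega, SetLike.mul_mem_graded (SetLike.coe_mem _) hf,
    fun h ↦ (x.isPrime.mem_or_mem h).elim hp hxf, fun y hy ↦ hrU fun hr ↦ hy ?_⟩
  exact Ideal.mul_mem_right _ _ (y.asHomogeneousIdeal.isHomogeneous p hr)

omit [DirectSum.Decomposition ℳ] in
/-- Near every point a section is one fraction. -/
theorem exists_local_frac' (n : ℤ) {U : Opens (ProjectiveSpectrum.top 𝒜)}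
    (s : GrMod.sect 𝒜 ℳ n (op U)) (x : ProjectiveSpectrum 𝒜) (hx : x ∈ U) :
    ∃ (j k : ℕ) (g : A) (q : M), g ∈ 𝒜 j ∧ q ∈ ℳ k ∧ (k : ℤ) = j + n ∧
      g ∉ x.asHomogeneousIdeal ∧
      ∀ (y : ProjectiveSpectrum 𝒜) (hy : g ∉ y.asHomogeneousIdeal),
        ∃ hyU : y ∈ U, valAt s y hyU = mk y q g hy := by
  obtain ⟨d, f, hd, hf, hxf⟩ := exists_pos_nin x
  obtain ⟨j, k, g, q, hg, -, hq, hk, hgx, hval⟩ := exists_local_frac hf hd n s x hx hxf
  exact ⟨j, k, g, q, hg, hq, hk, hgx, fun y hy ↦ (hval y hy).2⟩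

include 𝒜 in
/-- An annihilator not contained in a point contains a homogeneous element outside it. -/
theorem exists_hom_smul_eq_zero {i : ℕ} {m : M} (hm : m ∈ ℳ i) {x : ProjectiveSpectrum 𝒜} {c : A}
    (hc : c ∉ x.asHomogeneousIdeal) (hcm : c • m = 0) :
    ∃ (e : ℕ) (c' : A), c' ∈ 𝒜 e ∧ c' ∉ x.asHomogeneousIdeal ∧ c' • m = 0 := by
  obtain ⟨e, he⟩ : ∃ e, (decompose 𝒜 c e : A) ∉ x.asHomogeneousIdeal := by
    by_contra! hall
    classical
    refine hc ?_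
    rw [← DirectSum.sum_support_decompose 𝒜 c]
    exact Ideal.sum_mem _ fun k _ ↦ hall k
  exact ⟨e, _, SetLike.coe_mem _, he,
    mem_annOf.mp ((isHomogeneous_annOf (𝒜 := 𝒜) hm) e (mem_annOf.mpr hcm))⟩

omit [DirectSum.Decomposition ℳ] in
/-- A module vanishing in large degrees gives the zero module on `Proj`. -/
theorem valAt_eq_zero_of_TN {n₀ : ℕ} (h : ∀ k, n₀ ≤ k → ∀ m ∈ ℳ k, m = 0) (n : ℤ)
    {U : Opens (ProjectiveSpectrum.top 𝒜)} (s : GrMod.sect 𝒜 ℳ n (op U))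
    (x : ProjectiveSpectrum 𝒜) (hx : x ∈ U) : valAt s x hx = 0 := by
  obtain ⟨d, f, hd, hf, hxf⟩ := exists_pos_nin x
  obtain ⟨j, k, g, q, -, hq, -, hgx, hval⟩ := exists_local_frac' n s x hx
  obtain ⟨_, e⟩ := hval x hgx
  refine e.trans (mk_eq_zero_iff.mpr ⟨f ^ n₀, pow_nin hxf n₀, ?_⟩)
  refine h (n₀ * d + k) (by nlinarith) _ ?_
  exact SetLike.GradedSMul.smul_mem (by simpa using SetLike.pow_mem_graded n₀ hf) hq

variable {N τ' : Type u} [AddCommGroup N] [Module A N] [SetLike τ' N] [AddSubgroupClass τ' N]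
  {𝒩 : ℕ → τ'} [DirectSum.Decomposition 𝒩] [SetLike.GradedSMul 𝒜 𝒩]
variable (u : M →ₗ[A] N) (hu : ∀ (i : ℕ) (m : M), m ∈ ℳ i → u m ∈ 𝒩 i) (n : ℤ)

omit [DirectSum.Decomposition ℳ] in
/-- A map injective in large degrees is injective on sections. -/
theorem eq_zero_of_mapApp {n₀ : ℕ} (h : ∀ k, n₀ ≤ k → ∀ m ∈ ℳ k, u m = 0 → m = 0)
    {U : Opens (ProjectiveSpectrum.top 𝒜)} (s : GrMod.sect 𝒜 ℳ n (op U))
    (hs : GrMod.mapApp u hu n (op U) s = 0) : s = 0 := by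
  refine sect_ext fun x hx ↦ ?_
  obtain ⟨j, k, g, q, -, hq, -, hgx, hval⟩ := exists_local_frac' n s x hx
  obtain ⟨_, e⟩ := hval x hgx
  have h1 : mk x (u q) g hgx = 0 := by
    refine (GrMod.locMap_mk u x q ⟨g, hgx⟩).symm.trans ?_
    refine (congrArg (GrMod.locMap u x) e).symm.trans ?_
    exact congrArg (fun t : GrMod.sect 𝒜 𝒩 n (op U) ↦ valAt t x hx) hs
  obtain ⟨c, hc, hcm⟩ := mk_eq_zero_iff.mp h1
  obtain ⟨ec, c', hc', hc'x, hc'm⟩ := exists_hom_smul_eq_zero (𝒜 := 𝒜) (hu k q hq) hc hcm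
  obtain ⟨d, f, hd, hf, hxf⟩ := exists_pos_nin x
  refine e.trans (mk_eq_zero_iff.mpr
    ⟨f ^ n₀ * c', fun h' ↦ (x.isPrime.mem_or_mem h').elim (pow_nin hxf n₀) hc'x, ?_⟩)
  refine h (n₀ * d + ec + k) (by nlinarith) _ ?_ ?_
  · exact SetLike.GradedSMul.smul_mem
      (SetLike.mul_mem_graded (by simpa using SetLike.pow_mem_graded n₀ hf) hc') hq
  · rw [map_smul, mul_smul, hc'm, smul_zero]

omit [DirectSum.Decomposition ℳ] [DirectSum.Decomposition 𝒩] in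
/-- A map surjective in large degrees is locally surjective on sections. -/
theorem exists_mapApp_eq {n₀ : ℕ} (h : ∀ k, n₀ ≤ k → ∀ q ∈ 𝒩 k, ∃ m ∈ ℳ k, u m = q)
    {U : Opens (ProjectiveSpectrum.top 𝒜)} (t : GrMod.sect 𝒜 𝒩 n (op U))
    (x : ProjectiveSpectrum 𝒜) (hx : x ∈ U) :
    ∃ (V : Opens (ProjectiveSpectrum.top 𝒜)) (hVU : V ≤ U), x ∈ V ∧
      ∃ s : GrMod.sect 𝒜 ℳ n (op V),
        GrMod.mapApp u hu n (op V) s = GrMod.res 𝒜 𝒩 n (homOfLE hVU).op t := by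
  obtain ⟨d, f, hd, hf, hxf⟩ := exists_pos_nin x
  obtain ⟨j, k, g, q, hg, hq, hk, hgx, hval⟩ := exists_local_frac' n t x hx
  have hfd : f ^ n₀ ∈ 𝒜 (n₀ * d) := by simpa using SetLike.pow_mem_graded n₀ hf
  obtain ⟨m, hm, hum⟩ := h (n₀ * d + k) (by nlinarith) _ (SetLike.GradedSMul.smul_mem hfd hq)
  have hsub : ∀ y : ProjectiveSpectrum 𝒜, f ^ n₀ * g ∉ y.asHomogeneousIdeal →
      g ∉ y.asHomogeneousIdeal := fun y hy h' ↦ hy (Ideal.mul_mem_left _ _ h')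
  refine ⟨dPlus 𝒜 (f ^ n₀ * g), fun y hy ↦ (hval y (hsub y hy)).1,
    fun h' ↦ (x.isPrime.mem_or_mem h').elim (pow_nin hxf n₀) hgx,
    fracSec hm (SetLike.mul_mem_graded hfd hg) n (by push_cast; omega) (fun y ↦ y.2),
    sect_ext fun y hy ↦ ?_⟩
  obtain ⟨_, e⟩ := hval y (hsub y hy)
  refine (GrMod.locMap_mk u y m ⟨_, hy⟩).trans (Eq.trans ?_ e.symm)
  refine mk_eq_mk_iff.mpr ⟨1, GrMod.one_nin y, ?_⟩
  rw [one_smul, hum, sub_eq_zero, ← mul_smul, mul_comm]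

variable {L τ'' : Type u} [AddCommGroup L] [Module A L] [SetLike τ'' L] [AddSubgroupClass τ'' L]
  {ℒ : ℕ → τ''} [DirectSum.Decomposition ℒ] [SetLike.GradedSMul 𝒜 ℒ]
variable (v : N →ₗ[A] L) (hv : ∀ (i : ℕ) (m : N), m ∈ 𝒩 i → v m ∈ ℒ i)

/-- An exact sequence of graded modules is locally exact on sections. -/
theorem exists_mapApp_eq_of_exact (hex : Function.Exact u v)
    {U : Opens (ProjectiveSpectrum.top 𝒜)} (t : GrMod.sect 𝒜 𝒩 n (op U))
    (ht : GrMod.mapApp v hv n (op U) t = 0)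
    (x : ProjectiveSpectrum 𝒜) (hx : x ∈ U) :
    ∃ (V : Opens (ProjectiveSpectrum.top 𝒜)) (hVU : V ≤ U), x ∈ V ∧
      ∃ s : GrMod.sect 𝒜 ℳ n (op V),
        GrMod.mapApp u hu n (op V) s = GrMod.res 𝒜 𝒩 n (homOfLE hVU).op t := by
  obtain ⟨j, k, g, q, hg, hq, hk, hgx, hval⟩ := exists_local_frac' n t x hx
  obtain ⟨_, e⟩ := hval x hgx
  have h1 : mk x (v q) g hgx = 0 := by
    refine (GrMod.locMap_mk v x q ⟨g, hgx⟩).symm.trans ?_
    refine (congrArg (GrMod.locMap v x) e).symm.trans ?_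
    exact congrArg (fun s : GrMod.sect 𝒜 ℒ n (op U) ↦ valAt s x hx) ht
  obtain ⟨c, hc, hcm⟩ := mk_eq_zero_iff.mp h1
  obtain ⟨ec, c', hc', hc'x, hc'm⟩ := exists_hom_smul_eq_zero (𝒜 := 𝒜) (hv k q hq) hc hcm
  obtain ⟨m, hm⟩ := (hex (c' • q)).mp (by rw [map_smul, hc'm])
  have hum : u (cpt ℳ (ec + k) m) = c' • q := by
    rw [cpt_map u hu, hm, cpt_same (show c' • q ∈ 𝒩 (ec + k) from SetLike.GradedSMul.smul_mem hc' hq)]
  have hsub : ∀ y : ProjectiveSpectrum 𝒜, c' * g ∉ y.asHomogeneousIdeal →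
      g ∉ y.asHomogeneousIdeal := fun y hy h' ↦ hy (Ideal.mul_mem_left _ _ h')
  refine ⟨dPlus 𝒜 (c' * g), fun y hy ↦ (hval y (hsub y hy)).1,
    fun h' ↦ (x.isPrime.mem_or_mem h').elim hc'x hgx,
    fracSec (cpt_mem (ℳ := ℳ) (ec + k) m) (SetLike.mul_mem_graded hc' hg) n
      (by push_cast; omega) (fun y ↦ y.2),
    sect_ext fun y hy ↦ ?_⟩
  obtain ⟨_, e'⟩ := hval y (hsub y hy)
  refine (GrMod.locMap_mk u y _ ⟨_, hy⟩).trans (Eq.trans ?_ e'.symm)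
  refine mk_eq_mk_iff.mpr ⟨1, GrMod.one_nin y, ?_⟩
  rw [one_smul, hum, sub_eq_zero, ← mul_smul, mul_comm]

/-- An exact sequence of graded modules is exact on the sections over `D₊(f)`. -/
theorem exact_mapApp (hex : Function.Exact u v) {d : ℕ} {f : A} (hf : f ∈ 𝒜 d) (hd : 0 < d) :
    Function.Exact (GrMod.mapApp u hu n (op (dPlus 𝒜 f)))
      (GrMod.mapApp v hv n (op (dPlus 𝒜 f))) := by
  intro t
  constructor
  · intro ht
    obtain ⟨e, i, m, hm, hi, hval⟩ := exists_frac hf hd n (U := dPlus 𝒜 f) (fun _ h ↦ h) t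
    obtain ⟨K, hK⟩ := exists_pow_smul_eq_zero (ℳ := ℒ) (hv i m hm) hf hd fun x hx ↦ by
      refine (mk_eq_zero_iff (s := f ^ e) (hs := pow_nin hx e)).mp ?_
      refine (GrMod.locMap_mk v x m ⟨_, pow_nin hx e⟩).symm.trans ?_
      refine (congrArg (GrMod.locMap v x) (hval x hx)).symm.trans ?_
      exact congrArg (fun s : GrMod.sect 𝒜 ℒ n (op (dPlus 𝒜 f)) ↦ valAt s x hx) ht
    obtain ⟨m₁, hm₁⟩ := (hex (f ^ K • m)).mp (by rw [map_smul, hK])
    have hfK : f ^ K ∈ 𝒜 (K * d) := by simpa using SetLike.pow_mem_graded K hf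
    have hum : u (cpt ℳ (K * d + i) m₁) = f ^ K • m := by
      rw [cpt_map u hu, hm₁, cpt_same (show f ^ K • m ∈ 𝒩 (K * d + i) from SetLike.GradedSMul.smul_mem hfK hm)]
    have hfe : f ^ (K + e) ∈ 𝒜 ((K + e) * d) := by simpa using SetLike.pow_mem_graded (K + e) hf
    refine ⟨fracSec (cpt_mem (ℳ := ℳ) (K * d + i) m₁) hfe n (by push_cast; linarith)
      (fun x ↦ pow_nin x.2 _), sect_ext fun x hx ↦ ?_⟩
    refine (GrMod.locMap_mk u x _ ⟨_, pow_nin hx (K + e)⟩).trans (Eq.trans ?_ (hval x hx).symm)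
    refine mk_eq_mk_iff.mpr ⟨1, GrMod.one_nin x, ?_⟩
    rw [one_smul, hum, sub_eq_zero, ← mul_smul, ← pow_add, add_comm]
  · rintro ⟨s, rfl⟩
    refine sect_ext fun x hx ↦ ?_
    obtain ⟨e, i, m, hm, hi, hval⟩ := exists_frac hf hd n (U := dPlus 𝒜 f) (fun _ h ↦ h) s
    change GrMod.locMap v x (GrMod.locMap u x (valAt s x hx)) = _
    rw [hval x hx, mk, GrMod.locMap_mk, GrMod.locMap_mk, hex.apply_apply_eq_zero,
      LocalizedModule.zero_mk]
    rfl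

section Comap

variable {B σ' : Type u} [CommRing B] [SetLike σ' B] [AddSubgroupClass σ' B] {ℬ : ℕ → σ'} [GradedRing ℬ]
variable {P ρ : Type u} [AddCommGroup P] [Module B P] [SetLike ρ P] [AddSubgroupClass ρ P]
  {𝒬 : ℕ → ρ} [DirectSum.Decomposition 𝒬] [SetLike.GradedSMul ℬ 𝒬]
variable (ψ : 𝒜 →+*ᵍ ℬ) (hψ : (HomogeneousIdeal.irrelevant ℬ) ≤ (HomogeneousIdeal.irrelevant 𝒜).map ψ)
  (w : M →ₛₗ[ψ.toRingHom] P) (hw : ∀ (i : ℕ) (m : M), m ∈ ℳ i → w m ∈ 𝒬 i)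

/-- Restricting scalars commutes with `M(n)~`, on sections over `D₊(f)`. -/
theorem bijective_comapApp (hbij : Function.Bijective w) {d : ℕ} {f : A} (hf : f ∈ 𝒜 d) (hd : 0 < d)
    (V : Opens (ProjectiveSpectrum.top ℬ))
    (hUV : V.1 ⊆ ProjectiveSpectrum.comap ψ hψ ⁻¹' (dPlus 𝒜 f).1)
    (hV : ∀ y : ProjectiveSpectrum ℬ, ψ f ∉ y.asHomogeneousIdeal → y ∈ V) :
    Function.Bijective (GrMod.comapApp ψ hψ w hw n (dPlus 𝒜 f) V hUV) := by
  constructor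
  · rw [injective_iff_map_eq_zero]
    intro s hs
    obtain ⟨e, i, m, hm, hi, hval⟩ := exists_frac hf hd n (U := dPlus 𝒜 f) (fun _ h ↦ h) s
    obtain ⟨K, hK⟩ := exists_pow_smul_eq_zero (ℳ := 𝒬) (hw i m hm) (ψ.map_mem hf) hd fun y hy ↦ by
      have hy' : f ^ e ∉ (ProjectiveSpectrum.comap ψ hψ y).asHomogeneousIdeal :=
        pow_nin (show f ∉ (ProjectiveSpectrum.comap ψ hψ y).asHomogeneousIdeal from hy) e
      refine (mk_eq_zero_iff (s := ψ (f ^ e)) (hs := hy')).mp ?_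
      refine (GrMod.locModMap_mk ψ hψ w y m ⟨f ^ e, hy'⟩).symm.trans ?_
      refine (congrArg (GrMod.locModMap ψ hψ w y) (hval _ hy)).symm.trans ?_
      exact congrArg (fun t : GrMod.sect ℬ 𝒬 n (op V) ↦ valAt t y (hV y hy)) hs
    refine sect_ext fun x hx ↦ (hval x hx).trans (mk_eq_zero_iff.mpr ⟨f ^ K, pow_nin hx K, hbij.1 ?_⟩)
    rw [map_zero, map_smulₛₗ, map_pow]
    exact hK
  · intro t
    obtain ⟨e, i, p, hp, hi, hval⟩ := exists_frac (ψ.map_mem hf) hd n (U := V) hV t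
    obtain ⟨m, rfl⟩ := hbij.2 p
    have hm : cpt ℳ i m ∈ ℳ i := cpt_mem i m
    have hwm : w (cpt ℳ i m) = w m := by rw [cpt_map w hw, cpt_same hp]
    have hfe : f ^ e ∈ 𝒜 (e * d) := by simpa using SetLike.pow_mem_graded e hf
    refine ⟨fracSec hm hfe n (by push_cast; linarith) (fun x ↦ pow_nin x.2 e),
      sect_ext fun y hy ↦ ?_⟩
    refine Eq.trans ?_ (hval y (hUV hy)).symm
    refine (GrMod.locModMap_mk ψ hψ w y _ ⟨f ^ e, pow_nin (hUV hy) e⟩).trans ?_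
    refine mk_eq_mk_iff.mpr ⟨1, GrMod.one_nin y, ?_⟩
    rw [one_smul, hwm, sub_eq_zero]
    congr 1
    exact (map_pow ψ f e).symm

include hψ in
/-- Restricting scalars commutes with `M(n)~`. -/
theorem isIso_comap (hbij : Function.Bijective w) : IsIso (GrMod.comap ψ hψ w hw n) := by
  have hb : ∀ {d : ℕ} {f : A}, f ∈ 𝒜 d → 0 < d →
      Function.Bijective ((GrMod.comap ψ hψ w hw n).app (dPlus 𝒜 f)) := fun hf hd ↦
    bijective_comapApp n ψ hψ w hw hbij hf hd _ Set.Subset.rfl fun _ hy ↦ hy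
  have : Mono (GrMod.comap ψ hψ w hw n) := by
    refine mono_of_injective _ fun W s hs ↦ ?_
    choose d f hd hf hx hle using fun x : W ↦ exists_dPlus_le (𝒜 := 𝒜) x.2
    refine QCoh.eq_zero_of_locally_eq_zero (GrMod.tilde 𝒜 ℳ n) hle
      (fun x hx' ↦ Opens.mem_iSup.mpr ⟨⟨x, hx'⟩, hx _⟩) _ fun x ↦ (hb (hf x) (hd x)).1 ?_
    rw [QCoh.app_res, hs, map_zero, map_zero]
  have : Epi (GrMod.comap ψ hψ w hw n) := by
    refine epi_of_locally_surjective _ fun W t x hx ↦ ?_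
    obtain ⟨d, f, hd, hf, hxf, hle⟩ := exists_dPlus_le (𝒜 := 𝒜) hx
    exact ⟨_, hle, hxf, (hb hf hd).2 _⟩
  exact isIso_of_mono_of_epi _

end Comap

end Groth.Agent.GrModLib
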