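import Groth.Agent.GrModLib.TwistInv
import Groth.Agent.QCoh.Basic
import Groth.Agent.Props.AmpleBase
import Groth.Prelude.Def_RelProj2

/-!
A relative twist is, over every affine open of the base, the twist of the chart.
-/

universe u

open CategoryTheory AlgebraicGeometry TopologicalSpace Opposite

noncomputable section

namespace Groth.Agent.GrModLib

variable {Y P : Scheme.{u}} {𝒮 : RelProj.QCGrAlg Y} {p : P ⟶ Y}
  {chart : ∀ (U : Y.Opens) (hU : IsAffineOpen U),
    (((p ⁻¹ᵁ U : P.Opens) : Scheme.{u}) ≅ Proj (𝒮.deg U hU))}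
  {n : ℤ} {L : P.Modules}
  {lam : ∀ (U : Y.Opens) (hU : IsAffineOpen U),
    L ⟶ (Scheme.Modules.pushforward (RelProj.emb p chart U hU)).obj (GrTwist.twist (𝒮.deg U hU) n)}

/-- The restriction of a relative twist to the preimage of an affine open. -/
theorem nonempty_restrict_relTwist (hL : RelProj.IsRelTwist 𝒮 p chart n L lam) (U : Y.Opens)
    (hU : IsAffineOpen U) :
    Nonempty (L.restrict (p ⁻¹ᵁ U).ι ≅
      (Scheme.Modules.pullback (chart U hU).hom).obj (GrTwist.twist (𝒮.deg U hU) n)) := by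
  let j := RelProj.emb p chart U hU
  let φ : L.restrict j ⟶ GrTwist.twist (𝒮.deg U hU) n :=
    (Scheme.Modules.restrictFunctor j).map (lam U hU) ≫
      (Scheme.Modules.restrictFunctorAdjCounitIso j).hom.app _
  have : IsIso ((Scheme.Modules.restrictFunctor j).map (lam U hU)) := by
    refine Scheme.Modules.Hom.isIso_iff_isIso_app.mpr fun W => ?_
    rw [ConcreteCategory.isIso_iff_bijective]
    exact hL.bijective U hU (j ''ᵁ W) (by rintro _ ⟨y, -, rfl⟩; exact ((chart U hU).inv y).2)
  have hφ : IsIso φ := inferInstance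
  have he : (chart U hU).hom ≫ j = (p ⁻¹ᵁ U).ι := Iso.hom_inv_id_assoc _ _
  exact ⟨((Scheme.Modules.restrictFunctorCongr he).app L).symm ≪≫
    (Scheme.Modules.restrictFunctorComp (chart U hU).hom j).app L ≪≫
    (Scheme.Modules.restrictFunctor (chart U hU).hom).mapIso (asIso φ) ≪≫
    (Scheme.Modules.restrictFunctorIsoPullback (chart U hU).hom).app _⟩

theorem isOpenCover_preimage : IsOpenCover fun U : Y.affineOpens => p ⁻¹ᵁ U.1 :=
  IsOpenCover.mk (top_le_iff.mp fun x _ => by
    obtain ⟨U, hU, hx, -⟩ := exists_isAffineOpen_mem_and_subset (X := Y) (U := ⊤) (x := p x) trivial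
    exact Opens.mem_iSup.mpr ⟨⟨U, hU⟩, hx⟩)

/-- A relative twist is quasi-coherent. -/
theorem isQCoh_relTwist (hL : RelProj.IsRelTwist 𝒮 p chart n L lam) : Coh.IsQCoh L := by
  have : ∀ U : Y.affineOpens, (L.restrict (p ⁻¹ᵁ U.1).ι).IsQuasicoherent := fun ⟨U, hU⟩ => by
    obtain ⟨e⟩ := nonempty_restrict_relTwist hL U hU
    have : (GrTwist.twist (𝒮.deg U hU) n).IsQuasicoherent :=
      isQuasicoherent_grTilde (𝒜 := 𝒮.deg U hU) (ℳ := 𝒮.deg U hU) n
    have := QCoh.isQuasicoherent_pullback (chart U hU).hom (GrTwist.twist (𝒮.deg U hU) n)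
    exact QCoh.isQuasicoherent_of_iso e.symm
  exact QCoh.isQuasicoherent_of_isOpenCover L _ (isOpenCover_preimage (p := p))

/-- When degree zero and one generate, some element of degree one is nonzero at each point. -/
theorem exists_degree_one_of_closure {A σ : Type u} [CommRing A] [SetLike σ A]
    [AddSubgroupClass σ A] (𝒜 : ℕ → σ) [GradedRing 𝒜]
    (hgen : Subring.closure ((𝒜 0 : Set A) ∪ (𝒜 1 : Set A)) = ⊤) (x : ProjectiveSpectrum 𝒜) :
    ∃ f ∈ 𝒜 1, f ∉ x.asHomogeneousIdeal := by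
  by_contra! h
  set J := Ideal.span (𝒜 1 : Set A)
  have hJ : Ideal.IsHomogeneous 𝒜 J := Ideal.homogeneous_span 𝒜 _ fun a ha => ⟨1, ha⟩
  have key : ∀ s : A, ∃ c ∈ 𝒜 0, s - c ∈ J := fun s => by
    induction (hgen ▸ Subring.mem_top s : s ∈ Subring.closure ((𝒜 0 : Set A) ∪ (𝒜 1 : Set A)))
      using Subring.closure_induction with
    | mem a ha =>
      rcases ha with ha | ha
      · exact ⟨a, ha, by rw [sub_self]; exact zero_mem _⟩
      · exact ⟨0, zero_mem _, by rw [sub_zero]; exact Ideal.subset_span ha⟩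
    | zero => exact ⟨0, zero_mem _, by rw [sub_self]; exact zero_mem _⟩
    | one => exact ⟨1, SetLike.GradedOne.one_mem, by rw [sub_self]; exact zero_mem _⟩
    | add a b _ _ ha hb =>
      obtain ⟨c, hc, hca⟩ := ha
      obtain ⟨c', hc', hcb⟩ := hb
      exact ⟨c + c', add_mem hc hc', by rw [add_sub_add_comm]; exact add_mem hca hcb⟩
    | neg a _ ha =>
      obtain ⟨c, hc, hca⟩ := ha
      exact ⟨-c, neg_mem hc, by rw [show -a - -c = -(a - c) by ring]; exact neg_mem hca⟩
    | mul a b _ _ ha hb =>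
      obtain ⟨c, hc, hca⟩ := ha
      obtain ⟨c', hc', hcb⟩ := hb
      refine ⟨c * c', by simpa using SetLike.mul_mem_graded hc hc', ?_⟩
      rw [show a * b - c * c' = b * (a - c) + c * (b - c') by ring]
      exact add_mem (J.mul_mem_left _ hca) (J.mul_mem_left _ hcb)
  refine x.not_irrelevant_le ((HomogeneousIdeal.irrelevant_le _).mpr fun i hi a ha => ?_)
  obtain ⟨c, hc, hca⟩ := key a
  have h1 := hJ i hca
  rw [DirectSum.decompose_sub, DirectSum.sub_apply, AddSubgroupClass.coe_sub,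
    DirectSum.decompose_of_mem_same 𝒜 ha, DirectSum.decompose_of_mem_ne 𝒜 hc (Ne.symm hi.ne'),
    sub_zero] at h1
  exact Ideal.span_le.mpr (fun g hg => h g hg) h1

/-- A relative twist is invertible when generated in degree one. -/
theorem isInvertible_relTwist (hgen : 𝒮.IsGenDegOne)
    (hL : RelProj.IsRelTwist 𝒮 p chart n L lam) : PicF.IsInvertible L := by
  refine Props.AmpleBase.isInvertible_of_cover fun x => ?_
  obtain ⟨⟨U, hU⟩, hx⟩ := (isOpenCover_preimage (p := p)).exists_mem x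
  refine ⟨p ⁻¹ᵁ U, hx, ?_⟩
  obtain ⟨e⟩ := nonempty_restrict_relTwist hL U hU
  exact PicCl.isInvertible_of_iso (e.symm ≪≫ (Scheme.Modules.restrictFunctorIsoPullback _).app L)
    (PicCl.isInvertible_pullback (chart U hU).hom
      (isInvertible_grTwist (exists_degree_one_of_closure _ (hgen U hU)) n))

end Groth.Agent.GrModLib
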