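import Groth.Agent.GrModLib.ModFT
import Groth.Agent.LFFrame.Basic

/-!
`O(n)` is free on `f ^ n` over `D₊(f)` for `f` of degree one, for gradings by any additive
subgroups.
-/

universe u

open CategoryTheory AlgebraicGeometry TopologicalSpace Opposite DirectSum

noncomputable section

namespace Groth.Agent.GrModLib

variable {A σ : Type u} [CommRing A] [SetLike σ A] [AddSubgroupClass σ A] {𝒜 : ℕ → σ} [GradedRing 𝒜]
variable {f : A}

lemma pow_one_mem (hf : f ∈ 𝒜 1) (e : ℕ) : f ^ e ∈ 𝒜 e := by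
  simpa using SetLike.pow_mem_graded e hf

variable {a b : ℕ} {n : ℤ}

/-- Multiplying a fraction of degree `n = a - b` by `f ^ b / f ^ a` gives a fraction of degree `0`. -/
theorem exists_A0_val (hf : f ∈ 𝒜 1) (hn : (a : ℤ) = b + n) {x : ProjectiveSpectrum 𝒜}
    (hx : f ∉ x.asHomogeneousIdeal) {q : GrMod.LocMod 𝒜 (M := A) x}
    (hq : q ∈ GrMod.tildeAt 𝒜 𝒜 n x) :
    ∃ c : GrTwist.A0 𝒜 x,
      c.val = (Localization.mk (f ^ b) ⟨f ^ a, pow_nin hx a⟩ : GrTwist.Loc 𝒜 x) • q := by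
  induction hq using Submodule.span_induction with
  | mem q h =>
    obtain ⟨i, j, m, s, hs, hij, rfl⟩ := h
    refine ⟨HomogeneousLocalization.mk ⟨b + i, ⟨f ^ b * m, SetLike.mul_mem_graded (pow_one_mem hf b) m.2⟩,
      ⟨f ^ a * s, by
        have h1 := SetLike.mul_mem_graded (pow_one_mem hf a) s.2
        rwa [show a + j = b + i by omega] at h1⟩,
      fun h' ↦ (x.isPrime.mem_or_mem h').elim (pow_nin hx a) hs⟩, ?_⟩
    rw [HomogeneousLocalization.val_mk]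
    exact (show _ = LocalizedModule.mk (f ^ b • (m : A)) ((⟨f ^ a, pow_nin hx a⟩ : x.asHomogeneousIdeal.toIdeal.primeCompl) * ⟨(s : A), hs⟩) from rfl).trans (LocalizedModule.mk_smul_mk _ _ _ _).symm
  | zero => exact ⟨0, by rw [HomogeneousLocalization.val_zero, smul_zero]⟩
  | add p q _ _ hp hq =>
    obtain ⟨c, hc⟩ := hp
    obtain ⟨c', hc'⟩ := hq
    exact ⟨c + c', by rw [HomogeneousLocalization.val_add, hc, hc', smul_add]⟩
  | smul r p _ hp =>
    obtain ⟨c, hc⟩ := hp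
    refine ⟨r * c, ?_⟩
    rw [HomogeneousLocalization.val_mul, hc, GrMod.a0_smul_def, ← smul_eq_mul, smul_comm]

variable {U : Opens (ProjectiveSpectrum.top 𝒜)}

/-- `f ^ n` over an open where `f` does not vanish. -/
def powSec (hf : f ∈ 𝒜 1) (hn : (a : ℤ) = b + n) (hU : ∀ x : U, f ∉ x.1.asHomogeneousIdeal) :
    GrMod.sect 𝒜 𝒜 n (op U) :=
  fracSec (pow_one_mem hf a) (pow_one_mem hf b) n hn fun x ↦ pow_nin (hU x) b

/-- A section divided by `f ^ n` is a function. -/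
theorem exists_O_eq (hf : f ∈ 𝒜 1) (hn : (a : ℤ) = b + n)
    (hU : ∀ x : U, f ∉ x.1.asHomogeneousIdeal) (t : GrMod.sect 𝒜 𝒜 n (op U)) :
    ∃ c : GrTwist.O (𝒜 := 𝒜) (op U), ∀ x : U, (c.1 x).val =
      (Localization.mk (f ^ b) ⟨f ^ a, pow_nin (hU x) a⟩ : GrTwist.Loc 𝒜 x.1) • (t.1 x).1 := by
  choose c hc using fun x : U ↦ exists_A0_val hf hn (hU x) (t.1 x).2
  suffices hp : (ProjectiveSpectrum.StructureSheaf.isLocallyFraction 𝒜).pred c from
    ⟨(⟨c, hp⟩ : ProjectiveSpectrum.StructureSheaf.sectionsSubring (op U)), hc⟩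
  intro x
  obtain ⟨V, hV, iV, i, j, m, s, hs, hdeg, w⟩ := t.2 x
  rcases hdeg with hdeg | hm
  · refine ⟨V, hV, iV, b + i, ⟨f ^ b * m, SetLike.mul_mem_graded (pow_one_mem hf b) m.2⟩,
      ⟨f ^ a * s, by
        have h1 := SetLike.mul_mem_graded (pow_one_mem hf a) s.2
        rwa [show a + j = b + i by omega] at h1⟩,
      fun y h' ↦ (y.1.isPrime.mem_or_mem h').elim (pow_nin (hU (iV y)) a) (hs y), fun y ↦ ?_⟩
    refine HomogeneousLocalization.val_injective _ ((hc (iV y)).trans ?_)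
    refine (congrArg _ (w y)).trans ?_
    refine (LocalizedModule.mk_smul_mk _ _ _ _).trans ?_
    refine Eq.trans ?_ (HomogeneousLocalization.val_mk _).symm
    rfl
  · refine ⟨V, hV, iV, a + j, ⟨0, zero_mem _⟩,
      ⟨f ^ a * s, SetLike.mul_mem_graded (pow_one_mem hf a) s.2⟩,
      fun y h' ↦ (y.1.isPrime.mem_or_mem h').elim (pow_nin (hU (iV y)) a) (hs y), fun y ↦ ?_⟩
    refine HomogeneousLocalization.val_injective _ ((hc (iV y)).trans ?_)
    refine (congrArg _ (w y)).trans ?_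
    refine Eq.trans ?_ (HomogeneousLocalization.val_mk _).symm
    rw [hm, LocalizedModule.zero_mk, smul_zero, Localization.mk_zero]

lemma mk_smul_mk_cancel {x : ProjectiveSpectrum 𝒜} (hx : f ∉ x.asHomogeneousIdeal)
    (q : GrMod.LocMod 𝒜 (M := A) x) :
    ((Localization.mk (f ^ b) ⟨f ^ a, pow_nin hx a⟩ : GrTwist.Loc 𝒜 x) • q) •
      (mk x (f ^ a) (f ^ b) (pow_nin hx b) : GrMod.LocMod 𝒜 (M := A) x) = q := by
  have e : (Localization.mk (f ^ b) ⟨f ^ a, pow_nin hx a⟩ : GrTwist.Loc 𝒜 x) *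
      Localization.mk (f ^ a) ⟨f ^ b, pow_nin hx b⟩ = 1 := by
    rw [Localization.mk_mul, mul_comm]
    exact Localization.mk_self (⟨f ^ a * f ^ b, _⟩ : x.asHomogeneousIdeal.toIdeal.primeCompl)
  change (Localization.mk (f ^ b) ⟨f ^ a, pow_nin hx a⟩ * q) *
    (Localization.mk (f ^ a) ⟨f ^ b, pow_nin hx b⟩ : GrTwist.Loc 𝒜 x) = q
  rw [mul_right_comm, e, one_mul]

/-- `O(n)` is free on `f ^ n` where `f` does not vanish. -/
theorem bijective_smul_powSec (hf : f ∈ 𝒜 1) (hn : (a : ℤ) = b + n)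
    (hU : ∀ x : U, f ∉ x.1.asHomogeneousIdeal) :
    Function.Bijective fun c : GrTwist.O (𝒜 := 𝒜) (op U) ↦ c • powSec hf hn hU := by
  constructor
  · intro c c' h
    refine Subtype.ext (funext fun x ↦ HomogeneousLocalization.val_injective _ ?_)
    have hx' := congrArg (fun s : GrMod.sect 𝒜 𝒜 n (op U) ↦ valAt s x.1 x.2) h
    have hx := (valAt_smul c (powSec hf hn hU) x.1 x.2).symm.trans
      (hx'.trans (valAt_smul c' (powSec hf hn hU) x.1 x.2))
    have hu : IsUnit (Localization.mk (f ^ a) ⟨f ^ b, pow_nin (hU x) b⟩ : GrTwist.Loc 𝒜 x.1) := by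
      rw [Localization.mk_eq_mk', IsLocalization.AtPrime.isUnit_mk'_iff (GrTwist.Loc 𝒜 x.1)
        x.1.asHomogeneousIdeal.toIdeal]
      exact pow_nin (hU x) a
    exact hu.mul_right_cancel hx
  · intro t
    obtain ⟨c, hc⟩ := exists_O_eq hf hn hU t
    refine ⟨c, sect_ext fun x hx ↦ ?_⟩
    refine (valAt_smul c _ x hx).trans ?_
    rw [hc ⟨x, hx⟩]
    exact mk_smul_mk_cancel (a := a) (b := b) (hU ⟨x, hx⟩) _

/-- `O(n)` is invertible when the elements of degree one cover. -/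
theorem isInvertible_grTwist (h : ∀ x : ProjectiveSpectrum 𝒜, ∃ f ∈ 𝒜 1, f ∉ x.asHomogeneousIdeal)
    (n : ℤ) : PicF.IsInvertible (GrTwist.twist 𝒜 n) := fun x ↦ by
  obtain ⟨f, hf, hfx⟩ := h (show ProjectiveSpectrum 𝒜 from x)
  have hn : (n.toNat : ℤ) = ((-n).toNat : ℤ) + n := by omega
  refine ⟨Proj.basicOpen 𝒜 f, hfx, LFFrame.IsFrame.nonempty_restrict_iso
    (e := fun _ : Fin 1 ↦ (powSec hf hn (U := Proj.basicOpen 𝒜 f) fun x ↦ x.2 :
      GrMod.sect 𝒜 𝒜 n (op (Proj.basicOpen 𝒜 f)))) fun V hV ↦ ?_⟩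
  have hb := bijective_smul_powSec (U := V) hf hn fun y ↦ hV y.2
  have hc : Function.Bijective (fun c : Fin 1 → Γ(Proj 𝒜, V) ↦ c 0) :=
    (Equiv.funUnique (Fin 1) Γ(Proj 𝒜, V)).bijective
  refine (Function.Bijective.of_comp_iff _ (Equiv.funUnique (Fin 1) Γ(Proj 𝒜, V)).symm.bijective).mp ?_
  refine Eq.mpr (congrArg Function.Bijective (funext fun c ↦ ?_)) hb
  simp only [Function.comp_apply, LFFrame.comb, Fin.sum_univ_one]
  rfl

end Groth.Agent.GrModLib
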