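import Groth.Agent.AmpleLib.GenOn
import Groth.Agent.AmpleLib.Counit
import Groth.Agent.AmpleLib.Rel
import Groth.Agent.AssSch.Basic
import Groth.Agent.Thick.Unram

/-!
Generation by sections over the base, for direct images along the base change of an affine morphism.
-/

set_option linter.style.haveILetI false

universe u

open CategoryTheory CategoryTheory.Limits AlgebraicGeometry TopologicalSpace Opposite
open Groth.Agent.QCoh Groth.Agent.PullStalk.Sky Groth.Agent.AssSch Groth.Agent.AmpleLib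

noncomputable section

namespace Groth.Agent.GrModLib

variable {X Y X' Y' : Scheme.{u}}

/-- On an affine open, a section whose germs are spanned by germs of `T` lies in the span of `T`. -/
theorem mem_span_of_germ (M : X.Modules) [M.IsQuasicoherent] {W O : X.Opens} (hW : IsAffineOpen W)
    (hWO : W ≤ O) (m : Γ(M, W))
    (h : ∀ (x : X) (hx : x ∈ W), germM M W x hx m ∈ spanAt M (O := O) (hWO hx)) :
    m ∈ Submodule.span Γ(X, W) (Set.range fun σ : Γ(M, O) ↦ res M hWO σ) := by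
  set S := Submodule.span Γ(X, W) (Set.range fun σ : Γ(M, O) ↦ res M hWO σ) with hS
  by_contra hm
  have hne : S.colon {m} ≠ ⊤ := fun e ↦ hm (by
    have h1 : (1 : Γ(X, W)) ∈ S.colon {m} := e ▸ Submodule.mem_top
    rwa [Submodule.mem_colon_singleton, one_smul] at h1)
  obtain ⟨q, hq, hle⟩ := Ideal.exists_le_maximal _ hne
  obtain ⟨x, hx, hxq⟩ := Basic.exists_point hW q (hq := hq.isPrime)
  letI : Algebra Γ(X, W) (X.presheaf.stalk x) := (X.presheaf.germ W x hx).hom.toAlgebra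
  haveI : IsLocalization.AtPrime (X.presheaf.stalk x) (Stalk.primeOf hW x hx) :=
    hW.isLocalization_stalk ⟨x, hx⟩
  have hP : (Stalk.primeOf hW x hx).IsPrime := (hW.primeIdealOf ⟨x, hx⟩).isPrime
  have key : ∀ z ∈ spanAt M (O := O) (hWO hx), ∃ d ∉ Stalk.primeOf hW x hx, ∃ s ∈ S,
      germM M W x hx s = X.presheaf.germ W x hx d • z := by
    intro z hz
    induction hz using Submodule.span_induction with
    | mem z hz =>
      obtain ⟨σ, rfl⟩ := hz
      refine ⟨1, hP.one_notMem, res M hWO σ, Submodule.subset_span ⟨σ, rfl⟩, ?_⟩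
      rw [map_one, one_smul, Stalk.germM_res]
    | zero => exact ⟨1, hP.one_notMem, 0, zero_mem _, by rw [smul_zero, Stalk.germM_zero]⟩
    | add z z' _ _ h1 h2 =>
      obtain ⟨d, hd, s, hs, e⟩ := h1
      obtain ⟨d', hd', s', hs', e'⟩ := h2
      refine ⟨d * d', fun h3 ↦ (hP.mem_or_mem h3).elim hd hd', d' • s + d • s',
        add_mem (S.smul_mem _ hs) (S.smul_mem _ hs'), ?_⟩
      rw [Stalk.germM_add, germM_smul, germM_smul, e, e', map_mul, smul_add, smul_smul, smul_smul,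
        mul_comm]
    | smul r z _ h1 =>
      obtain ⟨d, hd, s, hs, e⟩ := h1
      obtain ⟨⟨a, ⟨b, hb⟩⟩, hr⟩ := IsLocalization.surj (Stalk.primeOf hW x hx).primeCompl r
      refine ⟨d * b, fun h3 ↦ (hP.mem_or_mem h3).elim hd hb, a • s, S.smul_mem _ hs, ?_⟩
      have hr' : r * X.presheaf.germ W x hx b = X.presheaf.germ W x hx a := hr
      rw [germM_smul, e, ← hr', map_mul, smul_smul, smul_smul]
      congr 1
      ring
  obtain ⟨d, hd, s, hs, e⟩ := key _ (h x hx)
  rw [← germM_smul] at e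
  have e0 : germM M W x hx (s - d • m) = 0 := (map_sub _ _ _).trans (sub_eq_zero.mpr e)
  obtain ⟨g, hg, hgs⟩ := (Stalk.germM_eq_zero_iff M hW x hx _).mp e0
  refine (fun h3 ↦ (hP.mem_or_mem h3).elim hg hd) (?_ : g * d ∈ Stalk.primeOf hW x hx)
  rw [hxq]
  refine hle (Submodule.mem_colon_singleton.mpr ?_)
  rw [mul_smul, ← sub_eq_zero.mp ((smul_sub g s (d • m)).symm.trans hgs)]
  exact S.smul_mem _ hs

/-- Germs of a direct image along the base change of an affine morphism are spanned by sections over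
the preimage of an affine open of the base. -/
theorem spanAt_push {f : X ⟶ Y} {g : Y' ⟶ Y} {g' : X' ⟶ X} {f' : X' ⟶ Y'} [IsAffineHom g]
    [IsAffineHom g'] (hsq : IsPullback g' f' f g) (M : X'.Modules) [M.IsQuasicoherent] {V : Y.Opens}
    (hV : IsAffineOpen V)
    (h : ∀ (x' : X') (hx' : x' ∈ g' ⁻¹ᵁ (f ⁻¹ᵁ V)) (W : X'.Opens) (hxW : x' ∈ W) (m : Γ(M, W)),
      germM M W x' hxW m ∈ spanAt M (O := g' ⁻¹ᵁ (f ⁻¹ᵁ V)) hx')
    (x : X) (hx : x ∈ f ⁻¹ᵁ V) (P : X.Opens) (hxP : x ∈ P) (n : Γ((Coh.push g').obj M, P)) :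
    germM ((Coh.push g').obj M) P x hxP n ∈
      spanAt ((Coh.push g').obj M) (O := f ⁻¹ᵁ V) hx := by
  let N := (Coh.push g').obj M
  obtain ⟨W, hW, hxW, hWle⟩ := exists_isAffineOpen_mem_and_subset (X := X) (x := x)
    (U := P ⊓ f ⁻¹ᵁ V) ⟨hxP, hx⟩
  have hWP : W ≤ P := fun y hy ↦ (hWle hy).1
  have hWV : W ≤ f ⁻¹ᵁ V := fun y hy ↦ (hWle hy).2
  rw [← Stalk.germM_res N hWP x hxW n]
  let W' := g' ⁻¹ᵁ W
  have hW'V : W' ≤ g' ⁻¹ᵁ (f ⁻¹ᵁ V) := g'.preimage_mono hWV
  let m : Γ(M, W') := res N hWP n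
  have hm := mem_span_of_germ M (hW.preimage g') hW'V m fun x' hx' ↦ h x' (hW'V hx') W' hx' m
  obtain ⟨h', hp⟩ := Thick.Unram.isPushout_appLE hsq hV hW hWV
  let φ := f'.appLE (g ⁻¹ᵁ V) W' h'
  letI := (f.appLE V W hWV).hom.toAlgebra
  letI := (g.app V).hom.toAlgebra
  letI := (g'.app W).hom.toAlgebra
  letI := φ.hom.toAlgebra
  letI := (f.appLE V W hWV ≫ g'.app W).hom.toAlgebra
  have : IsScalarTower Γ(Y, V) Γ(X, W) Γ(X', W') := IsScalarTower.of_algebraMap_eq fun _ ↦ rfl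
  have : IsScalarTower Γ(Y, V) Γ(Y', g ⁻¹ᵁ V) Γ(X', W') :=
    IsScalarTower.of_algebraMap_eq fun r ↦ congrArg (fun k ↦ k.hom r) hp.w
  have hpo : Algebra.IsPushout Γ(Y, V) Γ(X, W) Γ(Y', g ⁻¹ᵁ V) Γ(X', W') :=
    CommRingCat.isPushout_iff_isPushout.1 hp
  suffices key : ∀ z ∈ Submodule.span Γ(X', W')
      (Set.range fun σ : Γ(M, g' ⁻¹ᵁ (f ⁻¹ᵁ V)) ↦ res M hW'V σ), ∀ a : Γ(X', W'),
      germM N W x hxW (show Γ(M, W') from a • z) ∈ spanAt N (O := f ⁻¹ᵁ V) hx by
    have h1 := key m hm 1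
    simp only [one_smul] at h1
    exact h1
  intro z hz
  induction hz using Submodule.span_induction with
  | zero =>
    intro a
    rw [smul_zero]
    exact (Stalk.germM_zero N x hxW).symm ▸ zero_mem _
  | add z z' _ _ h1 h2 =>
    intro a
    rw [smul_add]
    exact (Stalk.germM_add N x hxW _ _).symm ▸ add_mem (h1 a) (h2 a)
  | smul b z _ h1 =>
    intro a
    rw [smul_smul]
    exact h1 _
  | mem z hz =>
    obtain ⟨σ, rfl⟩ := hz
    intro a
    induction a using hpo.out.inductionOn with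
    | zero =>
      rw [zero_smul]
      exact (Stalk.germM_zero N x hxW).symm ▸ zero_mem _
    | tmul v =>
      have hO : g' ⁻¹ᵁ (f ⁻¹ᵁ V) ≤ f' ⁻¹ᵁ (g ⁻¹ᵁ V) := by
        rw [← Scheme.Hom.comp_preimage, ← Scheme.Hom.comp_preimage, hsq.w]
      let v' : Γ(X', g' ⁻¹ᵁ (f ⁻¹ᵁ V)) := f'.appLE (g ⁻¹ᵁ V) _ hO v
      have e1 : φ v • res M hW'V σ = res M hW'V (v' • σ) := by
        rw [res_smul]
        exact congrArg (· • res M hW'V σ) (congrArg (fun k ↦ k.hom v)
          (f'.appLE_map hO (homOfLE hW'V).op).symm)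
      refine (congrArg (germM N W x hxW) e1).symm ▸ Submodule.subset_span ⟨v' • σ, ?_⟩
      exact (Stalk.germM_res N hWV x hxW _).symm
    | smul c a h1 =>
      rw [show ((c • a : Γ(X', W')) • res M hW'V σ) =
        (g'.app W c) • (a • res M hW'V σ) from by rw [Algebra.smul_def, mul_smul]; rfl]
      exact (germM_smul N W x hxW c _).symm ▸ Submodule.smul_mem _ _ h1
    | add a b h1 h2 =>
      rw [add_smul]
      exact (Stalk.germM_add N x hxW _ _).symm ▸ add_mem h1 h2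

end Groth.Agent.GrModLib
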