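import Groth.Prelude.Def_GrMod3
import Mathlib.RingTheory.GradedAlgebra.Basic
import Mathlib.RingTheory.Noetherian.Basic

/-!
Homogeneous components and homogeneous submodules of a graded module.
-/

universe u

open DirectSum

namespace Groth.Agent.GrModLib

variable {A σ : Type u} [CommRing A] [SetLike σ A] [AddSubgroupClass σ A] {𝒜 : ℕ → σ} [GradedRing 𝒜]
variable {M τ : Type u} [AddCommGroup M] [Module A M] [SetLike τ M] [AddSubgroupClass τ M]
  {ℳ : ℕ → τ} [DirectSum.Decomposition ℳ]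

variable (ℳ) in
/-- The degree `i` component. -/
def cpt (i : ℕ) : M →+ M where
  toFun m := (decompose ℳ m i : M)
  map_zero' := by simp
  map_add' a b := by simp

lemma cpt_mem (i : ℕ) (m : M) : cpt ℳ i m ∈ ℳ i := SetLike.coe_mem _

lemma cpt_same {i : ℕ} {m : M} (h : m ∈ ℳ i) : cpt ℳ i m = m :=
  decompose_of_mem_same ℳ h

lemma cpt_ne {i j : ℕ} {m : M} (h : m ∈ ℳ i) (hij : i ≠ j) : cpt ℳ j m = 0 :=
  decompose_of_mem_ne ℳ h hij

lemma exists_sum_cpt (m : M) : ∃ s : Finset ℕ, ∑ i ∈ s, cpt ℳ i m = m := by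
  classical
  exact ⟨_, sum_support_decompose ℳ m⟩

variable [SetLike.GradedSMul 𝒜 ℳ]

omit [AddSubgroupClass σ A] [GradedRing 𝒜] in
/-- Components of `f • m`, `f` homogeneous. -/
lemma cpt_smul_left {d : ℕ} {f : A} (hf : f ∈ 𝒜 d) (n : ℕ) (m : M) :
    cpt ℳ n (f • m) = if d ≤ n then f • cpt ℳ (n - d) m else 0 := by
  induction m using DirectSum.Decomposition.inductionOn ℳ with
  | zero => simp
  | homogeneous y =>
    rename_i j
    have hmem : f • (y : M) ∈ ℳ (d + j) := SetLike.GradedSMul.smul_mem hf y.2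
    by_cases h : d + j = n
    · subst h
      rw [cpt_same hmem, if_pos (Nat.le_add_right d j), Nat.add_sub_cancel_left, cpt_same y.2]
    · rw [cpt_ne hmem h]
      split_ifs with h'
      · rw [cpt_ne y.2 (by omega), smul_zero]
      · rfl
  | add y z hy hz =>
    rw [smul_add, map_add, hy, hz]
    split_ifs <;> simp

/-- Components of `a • y`, `y` homogeneous. -/
lemma cpt_smul_right {j : ℕ} {y : M} (hy : y ∈ ℳ j) (n : ℕ) (a : A) :
    cpt ℳ n (a • y) = if j ≤ n then (decompose 𝒜 a (n - j) : A) • y else 0 := by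
  induction a using DirectSum.Decomposition.inductionOn 𝒜 with
  | zero => simp
  | homogeneous b =>
    rename_i i
    rw [cpt_smul_left b.2, cpt]
    dsimp
    by_cases h : i + j = n
    · subst h
      rw [if_pos (Nat.le_add_right i j), if_pos (Nat.le_add_left j i), Nat.add_sub_cancel_left,
        Nat.add_sub_cancel, decompose_of_mem_same ℳ hy, decompose_of_mem_same 𝒜 b.2]
    · split_ifs with h1 h2 h2
      · rw [decompose_of_mem_ne ℳ hy (by omega), decompose_of_mem_ne 𝒜 b.2 (by omega), smul_zero,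
          zero_smul]
      · rw [decompose_of_mem_ne ℳ hy (by omega), smul_zero]
      · rw [decompose_of_mem_ne 𝒜 b.2 (by omega), zero_smul]
      · rfl
  | add a b ha hb =>
    rw [add_smul, map_add, ha, hb]
    split_ifs <;> simp [add_smul]

variable (ℳ) in
/-- A submodule containing the components of its elements. -/
def IsHom (K : Submodule A M) : Prop := ∀ m ∈ K, ∀ i, cpt ℳ i m ∈ K

omit [SetLike.GradedSMul 𝒜 ℳ] in
lemma isHom_bot : IsHom ℳ (⊥ : Submodule A M) := fun m hm i ↦ by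
  rw [Submodule.mem_bot] at hm ⊢
  rw [hm, map_zero]

omit [SetLike.GradedSMul 𝒜 ℳ] in
lemma IsHom.sup {K L : Submodule A M} (hK : IsHom ℳ K) (hL : IsHom ℳ L) : IsHom ℳ (K ⊔ L) := by
  intro m hm i
  obtain ⟨x, hx, y, hy, rfl⟩ := Submodule.mem_sup.mp hm
  rw [map_add]
  exact Submodule.add_mem_sup (hK x hx i) (hL y hy i)

omit [SetLike.GradedSMul 𝒜 ℳ] in
lemma IsHom.inf {K L : Submodule A M} (hK : IsHom ℳ K) (hL : IsHom ℳ L) : IsHom ℳ (K ⊓ L) :=
  fun m hm i ↦ ⟨hK m hm.1 i, hL m hm.2 i⟩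

omit [AddSubgroupClass σ A] [GradedRing 𝒜] in
include 𝒜 in
lemma IsHom.map_smul {d : ℕ} {f : A} (hf : f ∈ 𝒜 d) {K : Submodule A M} (hK : IsHom ℳ K) :
    IsHom ℳ (K.map (LinearMap.lsmul A M f)) := by
  rintro _ ⟨y, hy, rfl⟩ i
  rw [LinearMap.lsmul_apply, cpt_smul_left hf]
  split_ifs
  · exact ⟨_, hK y hy _, rfl⟩
  · exact zero_mem _

omit [AddSubgroupClass σ A] [GradedRing 𝒜] in
include 𝒜 in
lemma IsHom.comap_smul {d : ℕ} {f : A} (hf : f ∈ 𝒜 d) {K : Submodule A M} (hK : IsHom ℳ K) :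
    IsHom ℳ (K.comap (LinearMap.lsmul A M f)) := by
  intro m hm i
  rw [Submodule.mem_comap, LinearMap.lsmul_apply] at hm ⊢
  have := hK _ hm (d + i)
  rwa [cpt_smul_left hf, if_pos (Nat.le_add_right d i), Nat.add_sub_cancel_left] at this

include 𝒜 in
lemma isHom_span {S : Set M} (hS : ∀ y ∈ S, ∃ j, y ∈ ℳ j) : IsHom ℳ (Submodule.span A S) := by
  intro m hm
  induction hm using Submodule.span_induction with
  | mem y hy =>
    intro i
    obtain ⟨j, hj⟩ := hS y hy
    by_cases h : j = i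
    · subst h
      rw [cpt_same hj]
      exact Submodule.subset_span hy
    · rw [cpt_ne hj h]
      exact zero_mem _
  | zero => intro i; rw [map_zero]; exact zero_mem _
  | add x y _ _ hx hy => intro i; rw [map_add]; exact add_mem (hx i) (hy i)
  | smul a x _ hx =>
    intro i
    obtain ⟨s, hs⟩ := exists_sum_cpt (ℳ := ℳ) x
    rw [← hs, Finset.smul_sum, map_sum]
    refine Submodule.sum_mem _ fun j _ ↦ ?_
    rw [cpt_smul_right (𝒜 := 𝒜) (cpt_mem j x)]
    split_ifs
    · exact Submodule.smul_mem _ _ (hx j)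
    · exact zero_mem _

omit [SetLike.GradedSMul 𝒜 ℳ] in
/-- A finitely generated homogeneous submodule has homogeneous generators of bounded degree. -/
lemma IsHom.exists_gens {P : Submodule A M} (hP : IsHom ℳ P) (hfg : P.FG) :
    ∃ (E : ℕ) (S : Set M), Submodule.span A S = P ∧ ∀ y ∈ S, ∃ j ≤ E, y ∈ ℳ j := by
  classical
  obtain ⟨T, hT⟩ := hfg
  let D : M → Finset ℕ := fun t ↦ (exists_sum_cpt (ℳ := ℳ) t).choose
  have hD : ∀ t, ∑ i ∈ D t, cpt ℳ i t = t := fun t ↦ (exists_sum_cpt (ℳ := ℳ) t).choose_spec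
  refine ⟨(T.biUnion D).sup id, {y | ∃ t ∈ T, ∃ i ∈ D t, y = cpt ℳ i t}, le_antisymm
    (Submodule.span_le.mpr ?_) ?_, ?_⟩
  · rintro _ ⟨t, ht, i, -, rfl⟩
    exact hP t (hT.le (Submodule.subset_span ht)) i
  · rw [← hT, Submodule.span_le]
    intro t ht
    rw [SetLike.mem_coe, ← hD t]
    exact Submodule.sum_mem _ fun i hi ↦ Submodule.subset_span ⟨t, ht, i, hi, rfl⟩
  · rintro _ ⟨t, ht, i, hi, rfl⟩
    exact ⟨i, Finset.le_sup (f := id) (Finset.mem_biUnion.mpr ⟨t, ht, hi⟩), cpt_mem i t⟩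

end Groth.Agent.GrModLib
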