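import Groth.Agent.CohAff.AffineCech
import Groth.Agent.CohAff.CechIso
import Groth.Agent.QCoh.Qcqs
import Groth.Prelude.Def_CohB1

/-!
Čech acyclicity for basic opens admitting a partition of unity.
-/

universe u

open CategoryTheory Limits Opposite TopologicalSpace AlgebraicGeometry
open Groth.Agent.CohAff

noncomputable section

namespace Groth.Agent.GrModLib

variable {X : Scheme.{u}} (M : X.Modules) [M.IsQuasicoherent]

omit [M.IsQuasicoherent] in
theorem exists_ext_of {V : X.Opens} {g : Γ(X, V)} (h : QCoh.IsLocalizingAt M g)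
    (s : Γ(M, X.basicOpen g)) :
    ∃ (n : ℕ) (t : Γ(M, V)),
      mres M (X.basicOpen_le g) t = rres X (X.basicOpen_le g) g ^ n • s :=
  h.surj s

omit [M.IsQuasicoherent] in
theorem exists_zero_of {V : X.Opens} {g : Γ(X, V)} (h : QCoh.IsLocalizingAt M g) (t : Γ(M, V))
    (ht : mres M (X.basicOpen_le g) t = 0) : ∃ n : ℕ, g ^ n • t = 0 :=
  h.eq_zero t ht

/-- a cocycle is locally a coboundary, up to a power -/
theorem exists_pow_csmul_eq_cd_of_qcqs {U : X.Opens} {ι : Type u} [Finite ι]
    (f : ι → Γ(X, U))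
    (hq : ∀ (m : ℕ) (x : Fin (m + 1) → ι), IsCompact (inter (bcov f) x : Set X) ∧
      IsQuasiSeparated (inter (bcov f) x : Set X)) {n : ℕ} (s : Cochain M.presheaf (bcov f) (n + 1))
    (hs : cd M.presheaf (bcov f) (n + 1) s = 0) (k : ι) :
    ∃ (N : ℕ) (T : Cochain M.presheaf (bcov f) n),
      cd M.presheaf (bcov f) n T = csmul M f (f k ^ N) (n + 1) s := by
  have hloc : ∀ {m : ℕ} (x : Fin (m + 1) → ι) (g : Γ(X, inter (bcov f) x)),
      QCoh.IsLocalizingAt M g := fun x g ↦ QCoh.isLocalizingAt_of_qcqs M (hq _ x).1 (hq _ x).2 g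
  have hD : ∀ {m : ℕ} (x : Fin (m + 1) → ι),
      inter (bcov f) (Fin.cons k x : Fin (m + 2) → ι) =
        X.basicOpen (rres X (inter_bcov_le f x) (f k)) := by
    intro m x
    rw [X.basicOpen_res]
    refine le_antisymm (le_inf ?_ ?_) (le_inter fun a ↦ ?_)
    · exact le_inter fun a ↦ (inter_le (bcov f) (Fin.cons k x : Fin (m + 2) → ι) a.succ).trans_eq
        (by simp)
    · exact (inter_le (bcov f) (Fin.cons k x : Fin (m + 2) → ι) 0).trans_eq (by simp)
    · induction a using Fin.cases with
      | zero => exact inf_le_right.trans_eq (by simp)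
      | succ a => exact (inf_le_left.trans (inter_le (bcov f) x a)).trans_eq (by simp)
  choose ny t ht using fun y : Fin (n + 1) → ι ↦
    exists_ext_of M (hloc y (rres X (inter_bcov_le f y) (f k)))
      (mres M (hD y).ge (s (Fin.cons k y)))
  cases nonempty_fintype ι
  let N := Finset.univ.sup ny
  let T : Cochain M.presheaf (bcov f) n := fun y ↦
    rres X (inter_bcov_le f y) (f k) ^ (N - ny y) • (t y : Γ(M, inter (bcov f) y))
  have hT : ∀ (y : Fin (n + 1) → ι),
      mres M (inter_cons_le (bcov f) k y) (T y) =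
        rres X (inter_bcov_le f (Fin.cons k y : Fin (n + 2) → ι)) (f k) ^ N •
          (s (Fin.cons k y) : Γ(M, inter (bcov f) (Fin.cons k y : Fin (n + 2) → ι))) := by
    intro y
    have h := congrArg (mres M (hD y).le) (ht y)
    rw [res_res, mres_smul, res_res, res_self, map_pow, rres_rres, rres_rres] at h
    simp only [T]
    rw [mres_smul, map_pow, rres_rres]
    refine (congrArg _ h).trans ?_
    rw [smul_smul, ← pow_add, Nat.sub_add_cancel (Finset.le_sup (Finset.mem_univ y))]
  have hzero : ∀ x : Fin (n + 2) → ι,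
      mres M (X.basicOpen_le (rres X (inter_bcov_le f x) (f k)))
        (rres X (inter_bcov_le f x) (f k ^ N) • (s x : Γ(M, inter (bcov f) x)) -
          cd M.presheaf (bcov f) n T x) = 0 := by
    intro x
    refine (show Function.Injective (mres M (hD x).le) from fun a b hab ↦ ?_) ?_
    · simpa only [res_res, res_self] using congrArg (mres M (hD x).ge) hab
    rw [map_zero, res_res, map_sub, sub_eq_zero, mres_smul, rres_rres, map_pow, cd_apply, map_sum]
    have h0 := congrFun hs (Fin.cons k x)
    rw [cd_apply, Fin.sum_univ_succ, Pi.zero_apply, Fin.val_zero, pow_zero, one_smul] at h0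
    have e0 : res M.presheaf (inter_comp_le (bcov f) (Fin.cons k x : Fin (n + 3) → ι)
        (0 : Fin (n + 3)).succAbove)
        (s ((Fin.cons k x : Fin (n + 3) → ι) ∘ (0 : Fin (n + 3)).succAbove)) =
        mres M (inter_cons_le (bcov f) k x) (s x) := by
      have hc : ∀ (y : Fin (n + 2) → ι) (_ : y = x)
          (hy : inter (bcov f) (Fin.cons k x : Fin (n + 3) → ι) ≤ inter (bcov f) y),
          res M.presheaf hy (s y) =
            mres M (inter_cons_le (bcov f) k x) (s x) := by
        rintro y rfl hy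
        rfl
      exact hc _ (by funext a; simp) _
    rw [e0] at h0
    rw [eq_neg_of_add_eq_zero_left h0, smul_neg, Finset.smul_sum, ← Finset.sum_neg_distrib]
    refine Finset.sum_congr rfl fun j _ ↦ ?_
    rw [map_zsmul, Fin.val_succ, smul_comm, ← neg_zsmul, pow_succ,
      show -((-1 : ℤ) ^ (j : ℕ) * -1) = (-1 : ℤ) ^ (j : ℕ) by ring]
    congr 1
    have hc : ∀ (y : Fin (n + 2) → ι) (_ : y = Fin.cons k (x ∘ j.succAbove))
        (hy : inter (bcov f) (Fin.cons k x : Fin (n + 3) → ι) ≤ inter (bcov f) y)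
        (hy' : inter (bcov f) (Fin.cons k x : Fin (n + 3) → ι) ≤
          inter (bcov f) (Fin.cons k (x ∘ j.succAbove) : Fin (n + 2) → ι)),
        rres X (inter_bcov_le f (Fin.cons k x : Fin (n + 3) → ι)) (f k) ^ N •
            (res M.presheaf hy (s y) : Γ(M, inter (bcov f) (Fin.cons k x : Fin (n + 3) → ι))) =
          mres M hy' (mres M (inter_cons_le (bcov f) k (x ∘ j.succAbove)) (T (x ∘ j.succAbove))) := by
      rintro y rfl hy hy'
      rw [hT, mres_smul, map_pow, rres_rres]
    refine (hc _ ?_ _ ?_).trans ?_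
    · rw [Fin.cons_comp_succ_succAbove]
      rfl
    · refine le_inter fun a ↦ ?_
      induction a using Fin.cases with
      | zero => exact (inter_le (bcov f) (Fin.cons k x : Fin (n + 3) → ι) 0).trans_eq (by simp)
      | succ a => exact (inter_le (bcov f) (Fin.cons k x : Fin (n + 3) → ι)
          (j.succAbove a).succ).trans_eq (by simp)
    · rw [res_res, res_res]
  choose m hm using fun x : Fin (n + 2) → ι ↦
    exists_zero_of M (hloc x _) _ (hzero x)
  let M' := Finset.univ.sup m
  refine ⟨M' + N, csmul M f (f k ^ M') n T, ?_⟩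
  funext x
  rw [cd_csmul, csmul_apply, csmul_apply]
  have h := hm x
  have h' : rres X (inter_bcov_le f x) (f k ^ M') •
      (rres X (inter_bcov_le f x) (f k ^ N) • (s x : Γ(M, inter (bcov f) x)) -
        cd M.presheaf (bcov f) n T x) = 0 := by
    obtain ⟨d, hd⟩ := Nat.exists_eq_add_of_le' (Finset.le_sup (f := m) (Finset.mem_univ x) : m x ≤ M')
    rw [map_pow _ (f k) M', show M' = d + m x from hd, pow_add, mul_smul, h, smul_zero]
  rw [smul_sub, sub_eq_zero, smul_smul, ← map_mul, ← pow_add] at h'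
  exact h'.symm

/-- Exactness of the Čech complex for basic opens generating the unit ideal. -/
theorem isZero_cechH_of_span {U : X.Opens} {ι : Type u} [Finite ι] (f : ι → Γ(X, U))
    (hspan : Ideal.span (Set.range f) = ⊤)
    (hq : ∀ (m : ℕ) (x : Fin (m + 1) → ι), IsCompact (inter (bcov f) x : Set X) ∧
      IsQuasiSeparated (inter (bcov f) x : Set X)) (p : ℕ) :
    IsZero (CohB1.cechH (bcov f) M (p + 1)) := by
  cases nonempty_fintype ι
  refine HomologicalComplex.ExactAt.isZero_homology ?_
  rw [HomologicalComplex.exactAt_iff' _ p (p + 1) (p + 2) (by simp) (by simp),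
    ShortComplex.ab_exact_iff]
  intro z hz
  let s := cmp M.presheaf (bcov f) (p + 1) z
  have hs : cd M.presheaf (bcov f) (p + 1) s = 0 :=
    ((cmp_d M.presheaf (bcov f) (p + 1) z).symm.trans
      (congrArg (cmp M.presheaf (bcov f) (p + 2)) hz)).trans (map_zero _)
  choose N T hT using exists_pow_csmul_eq_cd_of_qcqs M f hq s hs
  obtain ⟨a, ha⟩ := Ideal.mem_span_range_iff_exists_fun.1
    ((span_range_pow_eq_top' f hspan N).ge Submodule.mem_top : (1 : Γ(X, U)) ∈ _)
  obtain ⟨w, hw⟩ := (cmp_bijective M.presheaf (bcov f) p).2 (∑ k, csmul M f (a k) p (T k))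
  refine ⟨w, (cmp_bijective M.presheaf (bcov f) (p + 1)).1 ?_⟩
  refine (cmp_d M.presheaf (bcov f) p w).trans ?_
  rw [hw]
  refine (map_sum (cd M.presheaf (bcov f) p) _ _).trans ?_
  simp only [cd_csmul, hT, ← csmul_mul]
  exact sum_csmul_eq M f _ ha _ _

end Groth.Agent.GrModLib
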