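import Groth.Agent.GrModLib.Eventual

/-!
The Čech cocycles of `M(n)` for a family generating the irrelevant ideal are coboundaries for large
`n`, elementwise: cochains are families `c` of numerators, `c t` over the denominator
`(∏ f (t a)) ^ e`.
-/

universe u

open DirectSum

namespace Groth.Agent.GrModLib

variable {A σ : Type u} [CommRing A] [SetLike σ A] [AddSubgroupClass σ A] {𝒜 : ℕ → σ} [GradedRing 𝒜]
variable {M τ : Type u} [AddCommGroup M] [Module A M] [SetLike τ M] [AddSubgroupClass τ M]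
  {ℳ : ℕ → τ} [DirectSum.Decomposition ℳ] [SetLike.GradedSMul 𝒜 ℳ]
variable {r : ℕ}

/-- The product of the members of a tuple. -/
def den (f : Fin r → A) {q : ℕ} (t : Fin q → Fin r) : A := ∏ a, f (t a)

/-- The degree of `den`. -/
def degOf (d : Fin r → ℕ) {q : ℕ} (t : Fin q → Fin r) : ℕ := ∑ a, d (t a)

/-- The numerator of the Čech differential of fractions with exponent `e`. -/
def bdry (f : Fin r → A) {q : ℕ} (e : ℕ) (b : (Fin q → Fin r) → M) (t : Fin (q + 1) → Fin r) : M :=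
  ∑ k : Fin (q + 1), ((-1 : A) ^ (k : ℕ) * f (t k) ^ e) • b (t ∘ k.succAbove)

variable {f : Fin r → A} {d : Fin r → ℕ}

lemma den_succAbove {q : ℕ} (t : Fin (q + 1) → Fin r) (k : Fin (q + 1)) :
    den f t = f (t k) * den f (t ∘ k.succAbove) := Fin.prod_univ_succAbove _ k

lemma degOf_succAbove {q : ℕ} (t : Fin (q + 1) → Fin r) (k : Fin (q + 1)) :
    degOf d t = d (t k) + degOf d (t ∘ k.succAbove) := Fin.sum_univ_succAbove _ k

lemma den_mem {q : ℕ} (hf : ∀ k, f k ∈ 𝒜 (d k)) (t : Fin q → Fin r) (N : ℕ) :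
    den f t ^ N ∈ 𝒜 (N * degOf d t) := by
  have h := SetLike.prod_mem_graded (A := 𝒜) (fun a : Fin q ↦ d (t a)) (fun a ↦ f (t a))
    (F := Finset.univ) fun a _ ↦ hf (t a)
  simpa [den, degOf] using SetLike.pow_mem_graded N h

lemma bdry_scale {q : ℕ} (e δ : ℕ) (b : (Fin q → Fin r) → M) (t : Fin (q + 1) → Fin r) :
    bdry f (e + δ) (fun s ↦ den f s ^ δ • b s) t = den f t ^ δ • bdry f e b t := by
  simp only [bdry, Finset.smul_sum]
  refine Finset.sum_congr rfl fun k _ ↦ ?_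
  rw [← mul_smul, ← mul_smul, den_succAbove t k, mul_pow, pow_add]
  congr 1
  ring

lemma bdry_smul {q : ℕ} (e : ℕ) (x : A) (b : (Fin q → Fin r) → M) (t : Fin (q + 1) → Fin r) :
    bdry f e (fun s ↦ x • b s) t = x • bdry f e b t := by
  simp only [bdry, Finset.smul_sum]
  exact Finset.sum_congr rfl fun k _ ↦ smul_comm _ _ _

lemma bdry_add {q : ℕ} (e : ℕ) (b b' : (Fin q → Fin r) → M) (t : Fin (q + 1) → Fin r) :
    bdry f e (fun s ↦ b s + b' s) t = bdry f e b t + bdry f e b' t := by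
  simp only [bdry, smul_add, Finset.sum_add_distrib]

lemma bdry_sub {q : ℕ} (e : ℕ) (b b' : (Fin q → Fin r) → M) (t : Fin (q + 1) → Fin r) :
    bdry f e (fun s ↦ b s - b' s) t = bdry f e b t - bdry f e b' t := by
  simp only [bdry, smul_sub, Finset.sum_sub_distrib]

lemma bdry_mem {q : ℕ} {K : Submodule A M} (e : ℕ) {b : (Fin q → Fin r) → M} (hb : ∀ s, b s ∈ K)
    (t : Fin (q + 1) → Fin r) : bdry f e b t ∈ K :=
  K.sum_mem fun _ _ ↦ K.smul_mem _ (hb _)

omit [DirectSum.Decomposition ℳ] in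
lemma bdry_mem_deg (hf : ∀ k, f k ∈ 𝒜 (d k)) {q : ℕ} {e n : ℕ} {b : (Fin q → Fin r) → M}
    (hb : ∀ s, b s ∈ ℳ (e * degOf d s + n)) (t : Fin (q + 1) → Fin r) :
    bdry f e b t ∈ ℳ (e * degOf d t + n) := by
  refine sum_mem fun k _ ↦ ?_
  rw [mul_smul]
  have h1 := pow_smul_mem (f := f) (d := d) hf (k := t k) (hb (t ∘ k.succAbove)) e
  rw [← add_assoc, ← mul_add, ← degOf_succAbove] at h1
  have h2 : ((-1 : A) ^ (k : ℕ)) ∈ 𝒜 0 := by
    have h3 : (-1 : A) ∈ 𝒜 0 := neg_mem SetLike.GradedOne.one_mem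
    simpa using SetLike.pow_mem_graded (k : ℕ) h3
  simpa using SetLike.GradedSMul.smul_mem h2 h1

lemma bdry_cons {q : ℕ} (e : ℕ) (b : (Fin (q + 1) → Fin r) → M) (x : Fin r)
    (t : Fin (q + 1) → Fin r) :
    bdry f e b (Fin.cons x t) = f x ^ e • b t - bdry f e (fun s ↦ b (Fin.cons x s)) t := by
  rw [bdry, Fin.sum_univ_succ, sub_eq_add_neg, bdry, ← Finset.sum_neg_distrib]
  congr 1
  · simp only [Fin.val_zero, pow_zero, one_mul, Fin.cons_zero]
    congr 1
  · refine Finset.sum_congr rfl fun k _ ↦ ?_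
    have e1 : (Fin.cons x t : Fin (q + 2) → Fin r) ∘ k.succ.succAbove =
        Fin.cons x (t ∘ k.succAbove) := by
      funext a
      refine Fin.cases ?_ (fun a ↦ ?_) a
      · simp
      · simp
    rw [e1, Fin.cons_succ, Fin.val_succ, pow_succ, ← neg_smul]
    congr 1
    ring

theorem bdry_bdry : ∀ {q : ℕ} (e : ℕ) (b : (Fin q → Fin r) → M) (t : Fin (q + 2) → Fin r),
    bdry f e (bdry f e b) t = 0 := by
  intro q
  induction q with
  | zero =>
    intro e b t
    rw [← Fin.cons_self_tail t, bdry_cons]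
    simp only [bdry, Fin.sum_univ_succ, Fin.sum_univ_zero, add_zero, Fin.val_zero, pow_zero,
      one_mul, Fin.cons_zero]
    simp only [← mul_smul]
    rw [mul_comm]
    exact sub_eq_zero.mpr (congrArg _ (congrArg b (Subsingleton.elim _ _)))
  | succ q ih =>
    intro e b t
    rw [← Fin.cons_self_tail t, bdry_cons]
    have e1 : (fun s ↦ bdry f e b (Fin.cons (t 0) s)) =
        fun s ↦ f (t 0) ^ e • b s - bdry f e (fun s' ↦ b (Fin.cons (t 0) s')) s :=
      funext fun s ↦ bdry_cons e b (t 0) s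
    rw [e1, bdry_sub, bdry_smul, ih]
    abel

variable (ℳ f d) in
/-- `c` is a coboundary modulo `K`, up to torsion. -/
def IsCob {p : ℕ} (L K : Submodule A M) (n e : ℕ) (c : (Fin (p + 1) → Fin r) → M) : Prop :=
  ∃ (δ : ℕ) (b : (Fin p → Fin r) → M), (∀ s, b s ∈ L ∧ b s ∈ ℳ ((e + δ) * degOf d s + n)) ∧
    ∀ t, den f t ^ δ • c t - bdry f (e + δ) b t ∈ K

variable (ℳ f d) in
/-- Cocycles on `(p+1)`-tuples in degree `n` are coboundaries. -/
def CobAt (p : ℕ) (L K : Submodule A M) (n : ℕ) : Prop :=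
  ∀ (e : ℕ) (c : (Fin (p + 1) → Fin r) → M), (∀ t, c t ∈ L ∧ c t ∈ ℳ (e * degOf d t + n)) →
    (∀ t : Fin (p + 2) → Fin r, ∃ N, den f t ^ N • bdry f e c t ∈ K) → IsCob ℳ f d L K n e c

variable (ℳ f d) in
/-- `CobAt` in all large degrees. -/
def CobGood (p : ℕ) (L K : Submodule A M) : Prop := ∃ n₀, ∀ n, n₀ ≤ n → CobAt ℳ f d p L K n

omit [DirectSum.Decomposition ℳ] in
lemma den_smul_mem (hf : ∀ k, f k ∈ 𝒜 (d k)) {q : ℕ} (s : Fin q → Fin r) {L : Submodule A M}
    {x : M} {E n : ℕ} (hx : x ∈ L ∧ x ∈ ℳ (E * degOf d s + n)) (N : ℕ) :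
    den f s ^ N • x ∈ L ∧ den f s ^ N • x ∈ ℳ ((E + N) * degOf d s + n) := by
  refine ⟨L.smul_mem _ hx.1, ?_⟩
  have h := SetLike.GradedSMul.smul_mem (den_mem hf s N) hx.2
  rwa [vadd_eq_add, ← add_assoc, ← add_mul, add_comm N E] at h

section Devissage

variable (hf : ∀ k, f k ∈ 𝒜 (d k))

omit [DirectSum.Decomposition ℳ] in
include hf in
theorem CobAt.trans {p : ℕ} {n : ℕ} {K P L : Submodule A M} (hKP : K ≤ P) (hPL : P ≤ L)
    (h1 : CobAt ℳ f d p P K n) (h2 : CobAt ℳ f d p L P n) : CobAt ℳ f d p L K n := by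
  intro e c hc hcyc
  obtain ⟨δ, b, hb, hbc⟩ := h2 e c hc fun t ↦ (hcyc t).imp fun _ h ↦ hKP h
  let w : (Fin (p + 1) → Fin r) → M := fun t ↦ den f t ^ δ • c t - bdry f (e + δ) b t
  obtain ⟨δ', b', hb', hbc'⟩ := h1 (e + δ) w
    (fun t ↦ ⟨hbc t, sub_mem (den_smul_mem hf t (hc t) δ).2
      (bdry_mem_deg hf (fun s ↦ (hb s).2) t)⟩)
    (fun t ↦ by
      obtain ⟨N, hN⟩ := hcyc t
      refine ⟨N, ?_⟩
      rw [show bdry f (e + δ) w t = den f t ^ δ • bdry f e c t from
        (bdry_sub _ _ _ t).trans (by rw [bdry_bdry, sub_zero, bdry_scale]), smul_comm]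
      exact K.smul_mem _ hN)
  refine ⟨δ + δ', fun s ↦ den f s ^ δ' • b s + b' s, fun s ↦ ?_, fun t ↦ ?_⟩
  · rw [← add_assoc]
    exact ⟨add_mem (den_smul_mem hf s (hb s) δ').1 (hPL (hb' s).1),
      add_mem (den_smul_mem hf s (hb s) δ').2 (hb' s).2⟩
  · have e1 : den f t ^ (δ + δ') • c t - bdry f (e + (δ + δ')) (fun s ↦ den f s ^ δ' • b s + b' s) t =
        den f t ^ δ' • w t - bdry f (e + δ + δ') b' t := by
      rw [← add_assoc, bdry_add, bdry_scale, add_comm δ δ', pow_add, mul_smul]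
      simp only [w, smul_sub]
      abel
    rw [e1]
    exact hbc' t

omit [DirectSum.Decomposition ℳ] in
include hf in
/-- The torsion case. -/
theorem CobAt.of_killed {p n : ℕ} {K L : Submodule A M} (e₀ : ℕ)
    (hkill : ∀ k, ∀ y ∈ L, f k ^ e₀ • y ∈ K) : CobAt ℳ f d p L K n := by
  intro e c hc _
  refine ⟨e₀, fun _ ↦ 0, fun _ ↦ ⟨zero_mem _, zero_mem _⟩, fun t ↦ ?_⟩
  have h0 : bdry f (e + e₀) (fun _ : Fin p → Fin r ↦ (0 : M)) t = 0 := by simp [bdry]
  rw [h0, sub_zero, den_succAbove t 0, mul_pow, mul_comm, mul_smul]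
  exact K.smul_mem _ (hkill _ _ (hc t).1)

include hf in
/-- Descending along a regular element. -/
theorem CobAt.of_regular {p n : ℕ} {K L : Submodule A M} (hK : IsHom ℳ K) (hL : IsHom ℳ L)
    (l : Fin r) (hreg : ∀ y ∈ L, f l • y ∈ K → y ∈ K)
    (hlow : ∀ (m E : ℕ) (b : (Fin p → Fin r) → M), n ≤ m →
      (∀ s, b s ∈ L ∧ b s ∈ ℳ (E * degOf d s + m)) →
      (∀ t, bdry f E b t ∈ K ⊔ L.map (LinearMap.lsmul A M (f l))) →
      ∃ (δ : ℕ) (y : (Fin p → Fin r) → M),
        (∀ s, y s ∈ L) ∧ ∀ t, den f t ^ δ • bdry f E b t -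
          f l • bdry f (E + δ) y t ∈ K) :
    CobAt ℳ f d p L K n := by
  intro e c hc hcyc
  choose N₀ hN₀ using hcyc
  have hregp : ∀ (s : ℕ), ∀ y ∈ L, f l ^ s • y ∈ K → y ∈ K := by
    intro s
    induction s with
    | zero => intro y _ hy; simpa using hy
    | succ s ih =>
      intro y hy h'
      rw [pow_succ, mul_smul] at h'
      exact hreg y hy (ih _ (L.smul_mem _ hy) h')
  have desc : ∀ s, IsCob ℳ f d L K (s * d l + n) e (fun t ↦ f l ^ s • c t) →
      IsCob ℳ f d L K n e c := by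
    intro s
    induction s with
    | zero => intro h; simpa using h
    | succ s ih =>
      rintro ⟨δ, b, hb, hbc⟩
      obtain ⟨δ', y, hy, hyb⟩ := hlow ((s + 1) * d l + n) (e + δ) b (Nat.le_add_left _ _) hb fun t ↦ by
        have e1 : bdry f (e + δ) b t = -(den f t ^ δ • f l ^ (s + 1) • c t - bdry f (e + δ) b t) +
            f l • (den f t ^ δ • f l ^ s • c t) := by
          rw [smul_comm (f l) (den f t ^ δ), ← mul_smul (f l) (f l ^ s), ← pow_succ']
          abel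
        rw [e1]
        exact Submodule.add_mem_sup (neg_mem (hbc t))
          ⟨_, L.smul_mem _ (L.smul_mem _ (hc t).1), rfl⟩
      refine ih ⟨δ + δ', fun u ↦ cpt ℳ ((e + (δ + δ')) * degOf d u + (s * d l + n)) (y u),
        fun u ↦ ⟨hL _ (hy u) _, cpt_mem _ _⟩, fun t ↦ hreg _ ?_ ?_⟩
      · exact L.sub_mem (L.smul_mem _ (L.smul_mem _ (hc t).1))
          (bdry_mem _ (fun u ↦ hL _ (hy u) _) t)
      set D := (e + (δ + δ')) * degOf d t + (s * d l + n) with hD
      have hx : den f t ^ δ' • den f t ^ δ • f l ^ (s + 1) • c t -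
          f l • bdry f (e + δ + δ') y t ∈ K := by
        have := add_mem (K.smul_mem (den f t ^ δ') (hbc t)) (hyb t)
        rwa [smul_sub, sub_add_sub_cancel] at this
      have h1 := hK _ hx (d l + D)
      rw [map_sub, cpt_smul_left (hf l), if_pos (Nat.le_add_right _ _), Nat.add_sub_cancel_left] at h1
      have h2 : cpt ℳ (d l + D) (den f t ^ δ' • den f t ^ δ • f l ^ (s + 1) • c t) =
          f l • den f t ^ (δ + δ') • f l ^ s • c t := by
        rw [← mul_smul (den f t ^ δ'), ← pow_add, add_comm δ' δ, pow_succ', mul_smul,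
          smul_comm (den f t ^ (δ + δ'))]
        refine cpt_same ?_
        have h3 := (den_smul_mem (ℳ := ℳ) hf t (L := ⊤) (n := s * d l + n) (E := e)
          (x := f l ^ s • c t) ⟨trivial, ?_⟩ (δ + δ')).2
        · exact SetLike.GradedSMul.smul_mem (hf l) h3
        · have h4 := pow_smul_mem hf (k := l) (hc t).2 s
          rwa [add_left_comm] at h4
      have h5 : cpt ℳ D (bdry f (e + δ + δ') y t) = bdry f (e + (δ + δ'))
          (fun u ↦ cpt ℳ ((e + (δ + δ')) * degOf d u + (s * d l + n)) (y u)) t := by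
        simp only [bdry, map_sum, add_assoc]
        refine Finset.sum_congr rfl fun k _ ↦ ?_
        have hk : (-1 : A) ^ (k : ℕ) * f (t k) ^ (e + (δ + δ')) ∈ 𝒜 ((e + (δ + δ')) * d (t k)) := by
          have h3 : (-1 : A) ∈ 𝒜 0 := neg_mem SetLike.GradedOne.one_mem
          have h6 := SetLike.mul_mem_graded (SetLike.pow_mem_graded (k : ℕ) h3)
            (SetLike.pow_mem_graded (e + (δ + δ')) (hf (t k)))
          simpa using h6
        have h7 : D = (e + (δ + δ')) * d (t k) +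
            ((e + (δ + δ')) * degOf d (t ∘ k.succAbove) + (s * d l + n)) := by
          rw [hD, degOf_succAbove t k]; ring
        rw [h7, cpt_smul_left hk, if_pos (Nat.le_add_right _ _), Nat.add_sub_cancel_left]
      rw [h2, h5] at h1
      rw [smul_sub]
      exact h1
  let N := Finset.univ.sup fun t : Fin (p + 1) → Fin r ↦ N₀ (Fin.cons l t)
  have hb0 : ∀ u : Fin p → Fin r, c (Fin.cons l u) ∈ L ∧
      c (Fin.cons l u) ∈ ℳ (e * degOf d u + (e * d l + n)) := fun u ↦ by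
    refine ⟨(hc _).1, ?_⟩
    have h := (hc (Fin.cons l u)).2
    rwa [degOf, Fin.sum_univ_succ, Fin.cons_zero,
      show e * (d l + ∑ i : Fin p, d ((Fin.cons l u : Fin (p + 1) → Fin r) i.succ)) + n =
        e * degOf d u + (e * d l + n) by simp only [Fin.cons_succ, degOf]; ring] at h
  refine desc e ⟨N, fun u ↦ den f u ^ N • c (Fin.cons l u), fun u ↦ den_smul_mem hf u (hb0 u) N,
    fun t ↦ ?_⟩
  have h := hN₀ (Fin.cons l t)
  rw [bdry_cons, den_succAbove (Fin.cons l t) 0, mul_pow, mul_smul, Fin.cons_zero,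
    show (Fin.cons l t : Fin (p + 2) → Fin r) ∘ (0 : Fin (p + 2)).succAbove = t by
      funext a; simp] at h
  have h2 := hregp _ _ (L.smul_mem _ (L.sub_mem (L.smul_mem _ (hc t).1)
    (bdry_mem _ (fun u ↦ (hb0 u).1) t))) h
  have hle : N₀ (Fin.cons l t) ≤ N := Finset.le_sup (f := fun t : Fin (p + 1) → Fin r ↦
    N₀ (Fin.cons l t)) (Finset.mem_univ t)
  rw [bdry_scale, ← smul_sub]
  exact le_of_pow_smul hle h2

end Devissage

section Induction

variable (ℳ f d) in
/-- The descent hypothesis of `CobAt.of_regular` in large degrees. -/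
def LowGood (p : ℕ) (L P : Submodule A M) (l : Fin r) : Prop :=
  ∃ n₀, ∀ (m E : ℕ) (b : (Fin p → Fin r) → M), n₀ ≤ m →
    (∀ s, b s ∈ L ∧ b s ∈ ℳ (E * degOf d s + m)) →
    (∀ t, bdry f E b t ∈ P ⊔ L.map (LinearMap.lsmul A M (f l))) →
    ∃ (δ : ℕ) (y : (Fin p → Fin r) → M), (∀ s, y s ∈ L) ∧
      ∀ t, den f t ^ δ • bdry f E b t - f l • bdry f (E + δ) y t ∈ P

variable (hf : ∀ k, f k ∈ 𝒜 (d k))
  (hirr : ∀ (i : ℕ) (a : A), 0 < i → a ∈ 𝒜 i → a ∈ Ideal.span (Set.range f))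

include hf in
theorem cobGood_of_low [IsNoetherianRing A] {p : ℕ}
    (hlow : ∀ (P L : Submodule A M) (l : Fin r), P ≤ L → IsHom ℳ P → IsHom ℳ L → L.FG →
      LowGood ℳ f d p L P l)
    {K L : Submodule A M} (hKL : K ≤ L) (hK : IsHom ℳ K) (hL : IsHom ℳ L) (hfg : L.FG) :
    CobGood ℳ f d p L K := by
  suffices H : ∀ (I : Ideal A) (K L : Submodule A M), K ≤ L → IsHom ℳ K → IsHom ℳ L → L.FG →
      I • L ≤ K → CobGood ℳ f d p L K from H ⊥ K L hKL hK hL hfg (by simp)
  intro I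
  induction I using IsNoetherian.induction with
  | hgt I ih =>
    intro K L hKL hK hL hfg hIL
    by_cases hall : ∀ k, ∃ e, ∀ y ∈ L, f k ^ e • y ∈ K
    · choose e he using hall
      exact ⟨0, fun n _ ↦ CobAt.of_killed (d := d) hf (Finset.univ.sup e) fun k y hy ↦
        le_of_pow_smul (Finset.le_sup (Finset.mem_univ k)) (he k y hy)⟩
    push Not at hall
    obtain ⟨j, hj⟩ := hall
    have hnot : ∀ e, f j ^ e ∉ I := fun e he ↦ by
      obtain ⟨y, hy, hy'⟩ := hj e
      exact hy' (hIL (Submodule.smul_mem_smul he hy))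
    have := isNoetherian_of_fg_of_noetherian L hfg
    let T : ℕ →o Submodule A L :=
      ⟨fun e ↦ (K.comap (LinearMap.lsmul A M (f j ^ e))).comap L.subtype,
        fun a b hab y hy ↦ le_of_pow_smul hab hy⟩
    obtain ⟨e, he⟩ := monotone_stabilizes_iff_noetherian.mpr this T
    let P : Submodule A M := K.comap (LinearMap.lsmul A M (f j ^ e)) ⊓ L
    have hP : IsHom ℳ P := (hK.comap_smul (SetLike.pow_mem_graded e (hf j))).inf hL
    have hKP : K ≤ P := le_inf (fun y hy ↦ K.smul_mem _ hy) hKL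
    have hPfg : P.FG := isNoetherian_submodule.mp this P inf_le_right
    have hreg : ∀ y ∈ L, f j • y ∈ P → y ∈ P := fun y hy h ↦ ⟨by
      have h1 : (⟨y, hy⟩ : L) ∈ T (e + 1) := by
        change f j ^ (e + 1) • y ∈ K
        rw [pow_succ, mul_smul]
        exact h.1
      rw [← he (e + 1) (Nat.le_succ e)] at h1
      exact h1, hy⟩
    obtain ⟨n₁, h1⟩ : CobGood ℳ f d p P K := by
      refine ih (I ⊔ Ideal.span {f j ^ e}) (left_lt_sup.mpr fun hle ↦
        hnot e (hle (Ideal.mem_span_singleton_self _))) K P hKP hK hP hPfg ?_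
      rw [Submodule.sup_smul, sup_le_iff]
      refine ⟨le_trans (Submodule.smul_mono le_rfl inf_le_right) hIL,
        Submodule.smul_le.mpr fun a ha y hy ↦ ?_⟩
      obtain ⟨b, rfl⟩ := Ideal.mem_span_singleton'.mp ha
      rw [mul_smul]
      exact K.smul_mem _ hy.1
    obtain ⟨n₂, h2⟩ := hlow P L j inf_le_right hP hL hfg
    exact ⟨max n₁ n₂, fun n hn ↦ CobAt.trans hf hKP inf_le_right (h1 n (le_of_max_le_left hn))
      (CobAt.of_regular hf hP hL j hreg fun m E b hm ↦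
        h2 m E b ((le_of_max_le_right hn).trans hm))⟩

include hf hirr in
/-- Every cocycle of positive degree of a finitely generated subquotient is, in large degrees, a
coboundary. -/
theorem cobGood_of_fg [IsNoetherianRing A] :
    ∀ (p : ℕ) {K L : Submodule A M}, K ≤ L → IsHom ℳ K → IsHom ℳ L → L.FG →
      CobGood ℳ f d p L K := by
  intro p
  induction p with
  | zero =>
    intro K L
    refine cobGood_of_low hf fun P L l hPL hP hL hfg ↦ ?_
    obtain ⟨n₀, hn₀⟩ := good_of_fg hf hirr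
      (sup_le hPL (Submodule.map_le_iff_le_comap.mpr fun y hy ↦ L.smul_mem _ hy))
      (hP.sup (hL.map_smul (hf l))) hL hfg
    refine ⟨n₀, fun m E b hm hb hcyc ↦ ?_⟩
    have hu : ∀ u : Fin 0 → Fin r, u = Fin.elim0 := fun u ↦ funext fun a ↦ a.elim0
    obtain ⟨π, hπ, _, ⟨y, hy, rfl⟩, hxy⟩ := Submodule.mem_sup.mp
      ((hn₀ m hm).1 (b Fin.elim0) (hb _).1 (by simpa [degOf] using (hb Fin.elim0).2) fun k ↦ ⟨E, by
        have h := hcyc fun _ ↦ k
        simpa [bdry, Fin.sum_univ_succ, hu] using h⟩)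
    refine ⟨0, fun _ ↦ y, fun _ ↦ hy, fun t ↦ ?_⟩
    rw [pow_zero, one_smul, add_zero, ← bdry_smul, ← bdry_sub]
    refine bdry_mem E (fun s ↦ ?_) t
    rw [hu s, ← hxy]
    simpa using hπ
  | succ p ih =>
    intro K L
    refine cobGood_of_low hf fun P L l hPL hP hL hfg ↦ ?_
    obtain ⟨n₀, hn₀⟩ := ih (sup_le hPL (Submodule.map_le_iff_le_comap.mpr fun y hy ↦ L.smul_mem _ hy))
      (hP.sup (hL.map_smul (hf l))) hL hfg
    refine ⟨n₀, fun m E b hm hb hcyc ↦ ?_⟩
    obtain ⟨δ, b', hb', hbc⟩ := hn₀ m hm E b hb fun t ↦ ⟨0, by simpa using hcyc t⟩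
    choose π hπ z hz hxy using fun s ↦ Submodule.mem_sup.mp (hbc s)
    choose y hy hyz using hz
    refine ⟨δ, y, hy, fun t ↦ ?_⟩
    have h0 := bdry_bdry (f := f) (E + δ) b' t
    rw [← bdry_scale, ← bdry_smul, ← bdry_sub,
      ← sub_zero (bdry f (E + δ) (fun s ↦ den f s ^ δ • b s - f l • y s) t), ← h0, ← bdry_sub]
    refine bdry_mem (E + δ) (fun s ↦ ?_) t
    have e1 : den f s ^ δ • b s - f l • y s - bdry f (E + δ) b' s = π s := by
      rw [sub_right_comm, ← hxy s, ← hyz s, LinearMap.lsmul_apply]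
      abel
    rw [e1]
    exact hπ s

end Induction

end Groth.Agent.GrModLib
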