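import Groth.Agent.GrModLib.CechVanish
import Groth.Agent.GrModLib.Alpha
import Groth.Agent.GrModLib.Shift
import Groth.Agent.ProjTilde.QC
import Groth.Agent.CohAff.CechH
import Groth.Agent.CohAff.AffineCech
import Groth.Agent.ProjTwist.Pn.Scalar
import Groth.Prelude.Def_ega3

/-!
`H^q(Proj, M(n)~) = 0` for `q > 0` and large `n`.
-/

universe u

open CategoryTheory AlgebraicGeometry TopologicalSpace Opposite

noncomputable section

namespace Groth.Agent.GrModLib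

open CohAff ProjTilde DirectSum

variable {R A : Type u} [CommRing R] [CommRing A] [Algebra R A] {𝒜 : ℕ → Submodule R A}
  [GradedAlgebra 𝒜]
variable {M : Type u} [AddCommGroup M] [Module R M] [Module A M] {ℳ : ℕ → Submodule R M}
  [DirectSum.Decomposition ℳ] [SetLike.GradedSMul 𝒜 ℳ]

section Mk

lemma mk_add {x : ProjectiveSpectrum 𝒜} (m m' : M) {s : A} (hs : s ∉ x.asHomogeneousIdeal) :
    mk x (m + m') s hs = mk x m s hs + mk x m' s hs := by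
  rw [mk, mk, mk, LocalizedModule.mk_add_mk]
  refine LocalizedModule.mk_eq.mpr ⟨1, ?_⟩
  simp only [one_smul, Submonoid.smul_def, Submonoid.coe_mul, smul_add, mul_smul]

/-- `m ↦ m / s`. -/
def mkHom (x : ProjectiveSpectrum 𝒜) (s : A) (hs : s ∉ x.asHomogeneousIdeal) :
    M →+ GrMod.LocMod 𝒜 (M := M) x :=
  AddMonoidHom.mk' (fun m ↦ mk x m s hs) fun m m' ↦ mk_add m m' hs

lemma mk_scale {x : ProjectiveSpectrum 𝒜} (m : M) {s a : A} (hs : s ∉ x.asHomogeneousIdeal)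
    (has : a * s ∉ x.asHomogeneousIdeal) : mk x m s hs = mk x (a • m) (a * s) has :=
  mk_eq_mk_iff.mpr ⟨1, GrMod.one_nin x, by rw [one_smul, sub_eq_zero, ← mul_smul, mul_comm]⟩

lemma mk_congr_den {x : ProjectiveSpectrum 𝒜} (m : M) {s s' : A} (h : s = s')
    (hs : s ∉ x.asHomogeneousIdeal) : mk x m s hs = mk x m s' (h ▸ hs) := by
  subst h
  rfl

end Mk

variable {r : ℕ} {f : Fin r → A} {d : Fin r → ℕ}

variable (𝒜 f) in
/-- The covering by the `D₊(f k)`. -/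
abbrev fcov : ULift.{u} (Fin r) → Opens (Proj 𝒜).toPresheafedSpace.carrier :=
  fun i ↦ Proj.basicOpen 𝒜 (f i.down)

lemma den_nin {x : ProjectiveSpectrum 𝒜} {q : ℕ} {t : Fin q → Fin r}
    (h : den f t ∉ x.asHomogeneousIdeal) (a : Fin q) : f (t a) ∉ x.asHomogeneousIdeal :=
  fun h' ↦ h (Ideal.prod_mem (I := x.asHomogeneousIdeal.toIdeal) (Finset.mem_univ a) h')

lemma mem_inter_fcov {q : ℕ} (x : Fin q → ULift.{u} (Fin r)) (p : ProjectiveSpectrum 𝒜) :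
    p ∈ inter (fcov 𝒜 f) x ↔ den f (fun a ↦ (x a).down) ∉ p.asHomogeneousIdeal := by
  refine mem_inter.trans ⟨fun h hp ↦ ?_, fun h a ↦ den_nin h a⟩
  obtain ⟨a, -, ha⟩ := p.isPrime.prod_mem_iff.mp hp
  exact h a ha

lemma iSup_fcov (hirr : ∀ (i : ℕ) (a : A), 0 < i → a ∈ 𝒜 i → a ∈ Ideal.span (Set.range f)) :
    ⨆ i, fcov 𝒜 f i = ⊤ :=
  top_unique fun p _ ↦ by
    obtain ⟨k, hk⟩ := exists_not_mem f hirr p
    exact Opens.mem_iSup.mpr ⟨⟨k⟩, hk⟩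

lemma degOf_pos (hd : ∀ k, 0 < d k) {q : ℕ} (t : Fin (q + 1) → Fin r) : 0 < degOf d t :=
  Finset.sum_pos (fun a _ ↦ hd _) Finset.univ_nonempty

lemma den_mem_one (hf : ∀ k, f k ∈ 𝒜 (d k)) {q : ℕ} (t : Fin q → Fin r) :
    den f t ∈ 𝒜 (degOf d t) := by
  simpa using den_mem (𝒜 := 𝒜) hf t 1

theorem affCov_mem_fcov (hd : ∀ k, 0 < d k) (hf : ∀ k, f k ∈ 𝒜 (d k)) {q : ℕ}
    (x : Fin (q + 1) → ULift.{u} (Fin r)) : (affCov (Proj 𝒜)).mem (inter (fcov 𝒜 f) x) := by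
  rw [show inter (fcov 𝒜 f) x =
    (Proj.basicOpen 𝒜 (den f fun a ↦ (x a).down) : Opens (Proj 𝒜).toPresheafedSpace.carrier) from
    Opens.ext (Set.ext fun p ↦ mem_inter_fcov x p)]
  exact Proj.isAffineOpen_basicOpen 𝒜 _ (den_mem_one hf _) (degOf_pos hd _)

variable (ℳ) in
/-- The abelian sheaf of `M(n)~`. -/
abbrev tl (𝒜 : ℕ → Submodule R A) [GradedAlgebra 𝒜] [SetLike.GradedSMul 𝒜 ℳ] (n : ℕ) :
    AbSh (Proj 𝒜).toPresheafedSpace.carrier :=
  Coh.toAb (GrTilde.tilde 𝒜 ℳ (n : ℤ))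

/-- The value at a point, additively. -/
def valHom {n : ℕ} {U : Opens (Proj 𝒜).toPresheafedSpace.carrier} (p : ProjectiveSpectrum 𝒜)
    (hp : p ∈ U) : (tl ℳ 𝒜 n).obj.obj (op U) →+ GrMod.LocMod 𝒜 (M := M) p :=
  AddMonoidHom.mk' (fun s ↦ valAt (show GrMod.sect 𝒜 ℳ (n : ℤ) (op U) from s) p hp) fun _ _ ↦ rfl

lemma valHom_res {n : ℕ} {U V : Opens (Proj 𝒜).toPresheafedSpace.carrier} (h : V ≤ U)
    (s : (tl ℳ 𝒜 n).obj.obj (op U)) (p : ProjectiveSpectrum 𝒜) (hp : p ∈ V) :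
    valHom p hp (res (tl ℳ 𝒜 n).obj h s) = valHom p (h hp) s := rfl

lemma valHom_ext {n : ℕ} {U : Opens (Proj 𝒜).toPresheafedSpace.carrier}
    {s t : (tl ℳ 𝒜 n).obj.obj (op U)} (h : ∀ p hp, valHom p hp s = valHom p hp t) : s = t :=
  Subtype.ext (funext fun x ↦ Subtype.ext (h x.1 x.2))

/-- The value of the Čech differential of a family of fractions. -/
theorem valHom_cd {n q E : ℕ} {c : Cochain (tl ℳ 𝒜 n).obj (fcov 𝒜 f) q}
    {b : (Fin (q + 1) → Fin r) → M}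
    (hc : ∀ (x : Fin (q + 1) → ULift.{u} (Fin r)) (p : ProjectiveSpectrum 𝒜)
      (hp : p ∈ inter (fcov 𝒜 f) x), valHom p hp (c x) =
        mk p (b fun a ↦ (x a).down) (den f (fun a ↦ (x a).down) ^ E)
          (pow_nin ((mem_inter_fcov x p).mp hp) E))
    (x : Fin (q + 2) → ULift.{u} (Fin r)) (p : ProjectiveSpectrum 𝒜)
    (hp : p ∈ inter (fcov 𝒜 f) x) :
    valHom p hp (cd (tl ℳ 𝒜 n).obj (fcov 𝒜 f) q c x) =
      mk p (bdry f E b fun a ↦ (x a).down) (den f (fun a ↦ (x a).down) ^ E)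
        (pow_nin ((mem_inter_fcov x p).mp hp) E) := by
  set t : Fin (q + 2) → Fin r := fun a ↦ (x a).down
  have hs := pow_nin ((mem_inter_fcov x p).mp hp) E
  rw [cd_apply, map_sum]
  refine Eq.trans (Finset.sum_congr rfl fun j _ ↦ ?_) (map_sum (mkHom (M := M) p _ hs) _ _).symm
  have e1 : den f t ^ E = f (t j) ^ E * den f (t ∘ j.succAbove) ^ E := by
    rw [den_succAbove t j, mul_pow]
  rw [map_zsmul, valHom_res, hc, mul_smul,
    show ((-1 : A) ^ (j : ℕ)) = (((-1 : ℤ) ^ (j : ℕ) : ℤ) : A) by push_cast; rfl,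
    Int.cast_smul_eq_zsmul, map_zsmul]
  congr 1
  exact (mk_scale (b (t ∘ j.succAbove)) _ (e1 ▸ hs)).trans (mk_congr_den _ e1.symm _)

/-- Higher cohomology vanishes when the cocycles in degree `n` are coboundaries. -/
theorem subsingleton_HH_tilde (hd : ∀ k, 0 < d k) (hf : ∀ k, f k ∈ 𝒜 (d k))
    (hirr : ∀ (i : ℕ) (a : A), 0 < i → a ∈ 𝒜 i → a ∈ Ideal.span (Set.range f)) {n q : ℕ}
    (hcob : CobAt ℳ f d (q + 1) ⊤ ⊥ n) :
    Subsingleton (Coh.HH (Proj 𝒜) (GrTilde.tilde 𝒜 ℳ (n : ℤ)) (q + 1)) := by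
  have : (GrTilde.tilde 𝒜 ℳ (n : ℤ)).IsQuasicoherent := isQuasicoherent_tilde _
  refine subsingleton_of_forall_eq 0 fun h ↦ ?_
  obtain ⟨c, hc, rfl⟩ := exists_toH_eq (iSup_fcov hirr) (fun x ↦ affCov_mem_fcov hd hf x)
    (good_affCov (GrTilde.tilde 𝒜 ℳ (n : ℤ))) h
  have hfr := fun t : Fin (q + 2) → Fin r ↦ exists_frac (ℳ := ℳ) (den_mem_one hf t)
    (degOf_pos hd t) (n : ℤ) (U := inter (fcov 𝒜 f) fun a ↦ ⟨t a⟩)
    (fun p hp ↦ (mem_inter_fcov _ p).mpr hp)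
    (show GrMod.sect 𝒜 ℳ (n : ℤ) (op (inter (fcov 𝒜 f) fun a ↦ ⟨t a⟩)) from c fun a ↦ ⟨t a⟩)
  choose e i m hm hi hval using hfr
  let E := Finset.univ.sup e
  have hle : ∀ t, e t ≤ E := fun t ↦ Finset.le_sup (Finset.mem_univ t)
  let c' : (Fin (q + 2) → Fin r) → M := fun t ↦ den f t ^ (E - e t) • m t
  have hc' : ∀ t, c' t ∈ ℳ (E * degOf d t + n) := fun t ↦ by
    have h1 := SetLike.GradedSMul.smul_mem (den_mem (𝒜 := 𝒜) hf t (E - e t)) (hm t)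
    have hik : i t = e t * degOf d t + n := by exact_mod_cast hi t
    rwa [vadd_eq_add, hik, ← add_assoc, ← add_mul, Nat.sub_add_cancel (hle t)] at h1
  have hcval : ∀ (x : Fin (q + 2) → ULift.{u} (Fin r)) (p : ProjectiveSpectrum 𝒜)
      (hp : p ∈ inter (fcov 𝒜 f) x), valHom p hp (c x) =
        mk p (c' fun a ↦ (x a).down) (den f (fun a ↦ (x a).down) ^ E)
          (pow_nin ((mem_inter_fcov x p).mp hp) E) := fun x p hp ↦ by
    refine (hval (fun a ↦ (x a).down) p ((mem_inter_fcov x p).mp hp)).trans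
      (mk_eq_mk_iff.mpr ⟨1, GrMod.one_nin p, ?_⟩)
    rw [one_smul]
    simp only [c', ← mul_smul, ← pow_add, Nat.add_sub_cancel' (hle _)]
    exact sub_self _
  obtain ⟨δ, b, hb, hbc⟩ := hcob E c' (fun t ↦ ⟨trivial, hc' t⟩) fun t ↦ by
    obtain ⟨N, hN⟩ := exists_pow_smul_eq_zero (ℳ := ℳ) (bdry_mem_deg hf hc' t)
      (den_mem_one hf t) (degOf_pos hd t) fun p hp ↦ by
        refine (mk_eq_zero_iff (s := den f t ^ E) (hs := pow_nin hp E)).mp ?_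
        have hp' : p ∈ inter (fcov 𝒜 f) fun a ↦ ⟨t a⟩ := (mem_inter_fcov _ p).mpr hp
        refine (valHom_cd hcval (fun a ↦ ⟨t a⟩) p hp').symm.trans ?_
        rw [hc, Pi.zero_apply, map_zero]
    exact ⟨N, (Submodule.mem_bot A).mpr hN⟩
  let w : Cochain (tl ℳ 𝒜 n).obj (fcov 𝒜 f) q := fun x ↦
    fracSec (hb fun a ↦ (x a).down).2 (den_mem hf (fun a ↦ (x a).down) (E + δ)) (n : ℤ)
      (by push_cast; ring) fun p ↦ pow_nin ((mem_inter_fcov x p.1).mp p.2) _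
  have hw : cd (tl ℳ 𝒜 n).obj (fcov 𝒜 f) q w = c := funext fun x ↦ valHom_ext fun p hp ↦ by
    rw [valHom_cd (E := E + δ) (b := b) (fun _ _ _ ↦ rfl) x p hp, hcval x p hp]
    have h0 := sub_eq_zero.mp ((Submodule.mem_bot A).mp (hbc fun a ↦ (x a).down))
    refine mk_eq_mk_iff.mpr ⟨1, GrMod.one_nin p, ?_⟩
    rw [one_smul, sub_eq_zero, ← h0, pow_add, mul_smul]
  subst hw
  exact toH_cd _ _ w

/-- `H^q(Proj, M(n)~) = 0` for all `0 < q ≤ Q` and large `n`. -/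
theorem exists_vanishing_le [IsNoetherianRing A] [Module.Finite A M] (Q : ℕ) :
    ∃ N : ℕ, ∀ n, N ≤ n → ∀ q, 0 < q → q ≤ Q →
      Subsingleton (Coh.HH (Proj 𝒜) (GrTilde.tilde 𝒜 ℳ (n : ℤ)) q) := by
  obtain ⟨r, f, d, hd, hf, hirr⟩ := exists_irrelevant_gens 𝒜
  have htop : IsHom ℳ (⊤ : Submodule A M) := fun _ _ _ ↦ trivial
  choose N hN using fun q : ℕ ↦ cobGood_of_fg hf hirr q (bot_le (a := (⊤ : Submodule A M)))
    isHom_bot htop Module.Finite.fg_top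
  refine ⟨(Finset.range (Q + 1)).sup N, fun n hn q hq hqQ ↦ ?_⟩
  obtain ⟨q, rfl⟩ := Nat.exists_eq_succ_of_ne_zero hq.ne'
  exact subsingleton_HH_tilde hd hf hirr (hN _ n
    ((Finset.le_sup (f := N) (Finset.mem_range.mpr (Nat.lt_succ_of_le hqQ))).trans hn))

end Groth.Agent.GrModLib

namespace Groth.Agent.GrModLib

open CohAff ProjTilde DirectSum

variable {R A : Type u} [CommRing R] [CommRing A] [Algebra R A] {𝒜 : ℕ → Submodule R A}
  [GradedAlgebra 𝒜]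
variable {M : Type u} [AddCommGroup M] [Module R M] [Module A M] {ℳ : ℕ → Submodule R M}
  [DirectSum.Decomposition ℳ] [SetLike.GradedSMul 𝒜 ℳ]

omit [DirectSum.Decomposition ℳ] in
/-- A scalar of the base is the constant function. -/
theorem valAt_toGlobal (a : R) (x : ProjectiveSpectrum 𝒜) (hx : x ∈ (⊤ : (Proj 𝒜).Opens)) :
    ProjTwist.valAt (Coh.toGlobal (Proj 𝒜 ↘ Spec (CommRingCat.of R)) a : Γ(Proj 𝒜, ⊤)) x hx =
      Localization.mk (algebraMap R A a) 1 := by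
  have e : Coh.toGlobal (Proj 𝒜 ↘ Spec (CommRingCat.of R)) a =
      (Proj 𝒜).presheaf.map (homOfLE (le_of_eq (Proj.basicOpen_one 𝒜).symm)).op
        (Proj.awayToSection 𝒜 1
          (HomogeneousLocalization.fromZeroRingHom 𝒜 _ (algebraMap R (𝒜 0) a))) := by
    change (Proj.toSpecZero 𝒜 ≫ Spec.map (CommRingCat.ofHom (algebraMap R (𝒜 0)))).appTop
      ((Scheme.ΓSpecIso (CommRingCat.of R)).inv a) = _
    rw [Scheme.Hom.comp_appTop, ProjTwist.Pn.toSpecZero_appTop, Scheme.ΓSpecIso_naturality_assoc]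
    exact congrArg (fun z : R => (Proj 𝒜).presheaf.map
        (homOfLE (le_of_eq (Proj.basicOpen_one 𝒜).symm)).op
        (Proj.awayToSection 𝒜 1
          (HomogeneousLocalization.fromZeroRingHom 𝒜 _ (algebraMap R (𝒜 0) z))))
      ((Scheme.ΓSpecIso (CommRingCat.of R)).inv_hom_id_apply a)
  rw [e]
  refine (ProjectiveSpectrum.Proj.awayToSection_apply 𝒜 1 _
    ⟨x, fun h => x.isPrime.ne_top ((Ideal.eq_top_iff_one _).mpr h)⟩).trans ?_
  refine (congrArg _ (HomogeneousLocalization.val_mk _)).trans ?_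
  rw [Localization.mk_eq_mk'_apply, IsLocalization.map_mk', Localization.mk_eq_mk']
  rfl

/-- `M_n ⟶ H⁰(Proj, M(n)~)` preserves scalars. -/
theorem nonempty_HH0_equiv [IsScalarTower R A M] {n : ℕ}
    (hb : Function.Bijective (fun m : ℳ n ↦ GrMod.globalOf 𝒜 ℳ m)) :
    Nonempty (ℳ n ≃ₗ[R] Coh.HH (Proj 𝒜) (GrTilde.tilde 𝒜 ℳ (n : ℤ)) 0) := by
  let e := Sheaf.H.equiv₀ (tl ℳ 𝒜 n) Limits.isTerminalTop
  let g : ℳ n → (tl ℳ 𝒜 n).obj.obj (op ⊤) := fun m ↦ GrMod.globalOf 𝒜 ℳ m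
  have hval : ∀ (m : ℳ n) p hp, valHom p hp (g m) = mk p (m : M) 1 (GrMod.one_nin p) :=
    fun m p hp ↦ rfl
  have hadd : ∀ m m', g (m + m') = g m + g m' := fun m m' ↦ valHom_ext fun p hp ↦ by
    rw [map_add, hval, hval, hval, Submodule.coe_add, mk_add]
  have hsmul : ∀ (a : R) (m : ℳ n), g (a • m) =
      ((Coh.smulAb (GrTilde.tilde 𝒜 ℳ (n : ℤ))
        (Coh.toGlobal (Proj 𝒜 ↘ Spec (CommRingCat.of R)) a)).hom.app (op ⊤)).hom (g m) :=
    fun a m ↦ valHom_ext fun p hp ↦ by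
      refine Eq.trans ?_ ((sval_smul (Coh.resTop (Proj 𝒜) (op ⊤) _) _ p hp)).symm
      refine Eq.trans ?_ (congrArg₂ (· • ·) ((valAt_toGlobal a p trivial).symm) (hval m p hp).symm)
      rw [hval]
      refine Eq.trans ?_ (LocalizedModule.mk_smul_mk _ _ _ _).symm
      refine mk_eq_mk_iff.mpr ⟨1, GrMod.one_nin p, ?_⟩
      simp [algebraMap_smul]
  let φ : ℳ n →ₗ[R] Coh.HH (Proj 𝒜) (GrTilde.tilde 𝒜 ℳ (n : ℤ)) 0 :=
    { toFun := fun m ↦ e.symm (g m)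
      map_add' := fun m m' ↦ by rw [hadd]; exact map_add _ _ _
      map_smul' := fun a m ↦ by
        rw [hsmul, ← Sheaf.H.equiv₀_symm_naturality]
        rfl }
  exact ⟨LinearEquiv.ofBijective φ (e.symm.bijective.comp hb)⟩

end Groth.Agent.GrModLib
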