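import Groth.Agent.GrModLib.Basic
import Mathlib.RingTheory.Ideal.Operations
import Mathlib.RingTheory.Nilpotent.Lemmas

/-!
`M_n ⟶ Ȟ⁰(f, M)_n` is bijective for large `n`, elementwise, for subquotients `L / K` of a graded
module: here `f` is a family of homogeneous elements of positive degrees generating the irrelevant
ideal.
-/

universe u

open DirectSum

namespace Groth.Agent.GrModLib

variable {A σ : Type u} [CommRing A] [SetLike σ A] [AddSubgroupClass σ A] {𝒜 : ℕ → σ} [GradedRing 𝒜]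
variable {M τ : Type u} [AddCommGroup M] [Module A M] [SetLike τ M] [AddSubgroupClass τ M]
  {ℳ : ℕ → τ} [DirectSum.Decomposition ℳ] [SetLike.GradedSMul 𝒜 ℳ]

variable (ℳ) {r : ℕ} (f : Fin r → A) (d : Fin r → ℕ)

/-- Torsion modulo `K` in degree `n` is in `K`. -/
def InjAt (L K : Submodule A M) (n : ℕ) : Prop :=
  ∀ m ∈ L, m ∈ ℳ n → (∀ k, ∃ e, f k ^ e • m ∈ K) → m ∈ K

/-- Compatible fractions `c k / f k ^ e` modulo `K` of degree `n` come from an element. -/
def SurjAt (L K : Submodule A M) (n : ℕ) : Prop :=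
  ∀ (e : ℕ) (c : Fin r → M), (∀ k, c k ∈ L ∧ c k ∈ ℳ (e * d k + n)) →
    (∀ k l, ∃ N, (f k * f l) ^ N • (f l ^ e • c k - f k ^ e • c l) ∈ K) →
    ∃ m ∈ L, m ∈ ℳ n ∧ ∀ k, ∃ N, f k ^ N • (f k ^ e • m - c k) ∈ K

/-- Eventual bijectivity for `L / K`. -/
def Good (L K : Submodule A M) : Prop :=
  ∃ n₀, ∀ n, n₀ ≤ n → InjAt ℳ f L K n ∧ SurjAt ℳ f d L K n

variable {ℳ f d} (hf : ∀ k, f k ∈ 𝒜 (d k))
  (hirr : ∀ (i : ℕ) (a : A), 0 < i → a ∈ 𝒜 i → a ∈ Ideal.span (Set.range f))

omit [DirectSum.Decomposition ℳ] [AddSubgroupClass τ M] in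
include hf in
lemma pow_smul_mem {k : Fin r} {j : ℕ} {y : M} (hy : y ∈ ℳ j) (N : ℕ) :
    f k ^ N • y ∈ ℳ (N * d k + j) := by
  have h := SetLike.pow_mem_graded N (hf k)
  rw [smul_eq_mul] at h
  exact SetLike.GradedSMul.smul_mem h hy

lemma le_of_pow_smul {K : Submodule A M} {x : A} {y : M} {a b : ℕ} (hab : a ≤ b)
    (h : x ^ a • y ∈ K) : x ^ b • y ∈ K := by
  rw [← Nat.sub_add_cancel hab, pow_add, mul_smul]
  exact K.smul_mem _ h

omit [DirectSum.Decomposition ℳ] in
include hf in
/-- Extensions. -/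
lemma Good.trans {K P L : Submodule A M} (hKP : K ≤ P) (hPL : P ≤ L)
    (h1 : Good ℳ f d P K) (h2 : Good ℳ f d L P) : Good ℳ f d L K := by
  obtain ⟨n₁, h1⟩ := h1
  obtain ⟨n₂, h2⟩ := h2
  refine ⟨max n₁ n₂, fun n hn ↦ ⟨?_, ?_⟩⟩
  · intro m hmL hm htor
    have hmP : m ∈ P := (h2 n (le_of_max_le_right hn)).1 m hmL hm
      fun k ↦ (htor k).imp fun _ h ↦ hKP h
    exact (h1 n (le_of_max_le_left hn)).1 m hmP hm htor
  · intro e c hc hcomp
    obtain ⟨m, hmL, hm, hmc⟩ := (h2 n (le_of_max_le_right hn)).2 e c hc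
      fun k l ↦ (hcomp k l).imp fun _ h ↦ hKP h
    choose N hN using hmc
    let N' := Finset.univ.sup N
    have hN' : ∀ k, f k ^ N' • (c k - f k ^ e • m) ∈ P := fun k ↦ by
      have := le_of_pow_smul (Finset.le_sup (f := N) (Finset.mem_univ k)) (hN k)
      rw [← neg_sub, smul_neg]
      exact neg_mem this
    let c' : Fin r → M := fun k ↦ f k ^ N' • (c k - f k ^ e • m)
    obtain ⟨m', hm'P, hm', hm'c⟩ := (h1 n (le_of_max_le_left hn)).2 (N' + e) c'
      (fun k ↦ ⟨hN' k, by
        have h1 : c k - f k ^ e • m ∈ ℳ (e * d k + n) :=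
          sub_mem (hc k).2 (pow_smul_mem hf hm e)
        have h2 := pow_smul_mem hf (k := k) h1 N'
        rwa [← add_assoc, ← add_mul] at h2⟩)
      (fun k l ↦ by
        obtain ⟨s, hs⟩ := hcomp k l
        refine ⟨s, ?_⟩
        have e1 : f l ^ (N' + e) • c' k - f k ^ (N' + e) • c' l =
            (f k * f l) ^ N' • (f l ^ e • c k - f k ^ e • c l) := by
          simp only [c', smul_sub, ← mul_smul, pow_add, mul_pow]
          module
        rw [e1, smul_comm]
        exact K.smul_mem _ hs)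
    refine ⟨m + m', add_mem hmL (hPL hm'P), add_mem hm hm', fun k ↦ ?_⟩
    obtain ⟨s, hs⟩ := hm'c k
    refine ⟨s + N', ?_⟩
    have e2 : f k ^ (s + N') • (f k ^ e • (m + m') - c k) =
        f k ^ s • (f k ^ (N' + e) • m' - c' k) := by
      simp only [c', smul_sub, smul_add, ← mul_smul, pow_add]
      module
    rw [e2]
    exact hs

omit [AddSubgroupClass σ A] [GradedRing 𝒜] in
include hf in
/-- If `f j` is a nonzerodivisor on `L / K`, then `L / (K + f j L)` good implies `L / K` good. -/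
lemma Good.of_regular {K L : Submodule A M} (hK : IsHom ℳ K) (hL : IsHom ℳ L)
    (j : Fin r) (hreg : ∀ y ∈ L, f j • y ∈ K → y ∈ K)
    (h : Good ℳ f d L (K ⊔ L.map (LinearMap.lsmul A M (f j)))) : Good ℳ f d L K := by
  obtain ⟨n₀, h⟩ := h
  have hregp : ∀ (s : ℕ), ∀ y ∈ L, f j ^ s • y ∈ K → y ∈ K := by
    intro s
    induction s with
    | zero => intro y _ hy; simpa using hy
    | succ s ih =>
      intro y hy h'
      rw [pow_succ, mul_smul] at h'
      exact hreg y hy (ih _ (L.smul_mem _ hy) h')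
  refine ⟨n₀, fun n hn ↦ ⟨fun m hmL _ htor ↦ ?_, ?_⟩⟩
  · obtain ⟨s, hs⟩ := htor j
    exact hregp s m hmL hs
  intro e c hc hcomp
  have desc : ∀ t, (∃ x ∈ L, x ∈ ℳ (t * d j + n) ∧
      ∀ k, ∃ N, f k ^ N • (f k ^ e • x - f j ^ t • c k) ∈ K) →
      ∃ m ∈ L, m ∈ ℳ n ∧ ∀ k, ∃ N, f k ^ N • (f k ^ e • m - c k) ∈ K := by
    intro t
    induction t with
    | zero =>
      rintro ⟨x, hxL, hx, hxc⟩
      exact ⟨x, hxL, by simpa using hx, by simpa using hxc⟩
    | succ t ih =>
      rintro ⟨x, hxL, hx, hxc⟩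
      choose N hN using hxc
      have htor : ∀ k, ∃ s, f k ^ s • x ∈ K ⊔ L.map (LinearMap.lsmul A M (f j)) := fun k ↦ by
        refine ⟨N k + e, ?_⟩
        have e1 : f k ^ (N k + e) • x = f k ^ N k • (f k ^ e • x - f j ^ (t + 1) • c k) +
            f j • (f k ^ N k • f j ^ t • c k) := by
          simp only [smul_sub, ← mul_smul, pow_add, pow_one]
          module
        rw [e1]
        exact Submodule.add_mem_sup (hN k)
          ⟨_, L.smul_mem _ (L.smul_mem _ (hc k).1), rfl⟩
      obtain ⟨κ, hκ, z, ⟨y, hy, rfl⟩, hxy⟩ := Submodule.mem_sup.mp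
        ((h ((t + 1) * d j + n) (le_trans hn (Nat.le_add_left _ _))).1 x hxL hx htor)
      refine ih ⟨cpt ℳ (t * d j + n) y, hL y hy _, cpt_mem _ y, fun k ↦ ⟨N k, ?_⟩⟩
      have e2 : x = cpt ℳ ((t + 1) * d j + n) κ + f j • cpt ℳ (t * d j + n) y := by
        conv_lhs => rw [← cpt_same hx, ← hxy, map_add, LinearMap.lsmul_apply,
          cpt_smul_left (hf j), if_pos (show d j ≤ (t + 1) * d j + n by rw [add_mul, one_mul]; omega)]
        rw [show (t + 1) * d j + n - d j = t * d j + n by rw [add_mul, one_mul]; omega]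
      refine hreg _ (L.smul_mem _ (sub_mem (L.smul_mem _ (hL y hy _))
        (L.smul_mem _ (hc k).1))) ?_
      have e3 : f j • (f k ^ N k • (f k ^ e • cpt ℳ (t * d j + n) y - f j ^ t • c k)) =
          f k ^ N k • (f k ^ e • x - f j ^ (t + 1) • c k) -
            f k ^ (N k + e) • cpt ℳ ((t + 1) * d j + n) κ := by
        conv_rhs => rw [e2]
        simp only [smul_sub, smul_add, ← mul_smul, pow_add, pow_one]
        module
      rw [e3]
      exact sub_mem (hN k) (K.smul_mem _ (hK κ hκ _))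
  refine desc e ⟨c j, (hc j).1, (hc j).2, fun k ↦ ?_⟩
  obtain ⟨s, hs⟩ := hcomp j k
  refine ⟨s, hregp s _ ?_ ?_⟩
  · exact L.smul_mem _ (sub_mem (L.smul_mem _ (hc j).1) (L.smul_mem _ (hc k).1))
  · rwa [← mul_smul, ← mul_pow]

include hf hirr in
/-- The torsion case. -/
lemma Good.of_killed {P K : Submodule A M} (hP : IsHom ℳ P) (hfg : P.FG) (e : ℕ)
    (hkill : ∀ k, ∀ y ∈ P, f k ^ e • y ∈ K) : Good ℳ f d P K := by
  obtain ⟨E, S, hS, hdeg⟩ := hP.exists_gens hfg
  set J : Ideal A := Ideal.span (Set.range f) with hJ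
  let D := Finset.univ.sup d
  have key : ∀ s n, E + 1 + s * D ≤ n → ∀ m ∈ P, m ∈ ℳ n → m ∈ J ^ s • P := by
    intro s
    induction s with
    | zero => intro n _ m hmP _; simpa using hmP
    | succ s ih =>
      intro n hn m hmP hm
      rw [add_mul, one_mul] at hn
      have h1 : m ∈ J • P := by
        rw [← cpt_same hm]
        clear hm
        rw [← hS] at hmP
        induction hmP using Submodule.span_induction with
        | mem y hy =>
          obtain ⟨i, hi, hyi⟩ := hdeg y hy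
          rw [cpt_ne hyi (by omega)]
          exact zero_mem _
        | zero => rw [map_zero]; exact zero_mem _
        | add x y _ _ hx hy => rw [map_add]; exact add_mem hx hy
        | smul a x hx _ =>
          clear * - hdeg hS hx hirr hn
          induction hx using Submodule.span_induction generalizing a with
          | mem y hy =>
            obtain ⟨i, hi, hyi⟩ := hdeg y hy
            rw [cpt_smul_right (𝒜 := 𝒜) hyi, if_pos (by omega)]
            exact Submodule.smul_mem_smul (hirr (n - i) _ (by omega) (SetLike.coe_mem _))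
              (hS.le (Submodule.subset_span hy))
          | zero => rw [smul_zero, map_zero]; exact zero_mem _
          | add x y _ _ hx hy => rw [smul_add, map_add]; exact add_mem (hx a) (hy a)
          | smul b x _ hx => rw [← mul_smul]; exact hx _
      rw [← cpt_same hm]
      refine Submodule.smul_induction_on h1 (fun a ha y hy ↦ ?_) fun x y hx hy ↦ by
        rw [map_add]; exact add_mem hx hy
      obtain ⟨g, rfl⟩ := (Submodule.mem_span_range_iff_exists_fun A).mp ha
      rw [Finset.sum_smul, map_sum]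
      refine Submodule.sum_mem _ fun k _ ↦ ?_
      rw [smul_eq_mul, mul_comm, mul_smul, cpt_smul_left (hf k)]
      split_ifs with hk
      · rw [pow_succ']
        rw [mul_smul]
        refine Submodule.smul_mem_smul (Ideal.subset_span ⟨k, rfl⟩) (ih _ ?_ _ ?_ (cpt_mem _ _))
        · have : d k ≤ D := Finset.le_sup (Finset.mem_univ k)
          omega
        · exact hP _ (P.smul_mem _ hy) _
      · exact zero_mem _
  obtain ⟨s, hs⟩ := Ideal.exists_pow_le_of_le_radical_of_fg
    (show J ≤ (Ideal.span (Set.range fun k ↦ f k ^ e)).radical from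
      Ideal.span_le.mpr fun _ ⟨k, hk⟩ ↦ ⟨e, hk ▸ Ideal.subset_span ⟨k, rfl⟩⟩)
    (Submodule.fg_span (Set.finite_range f))
  have hle : J ^ s • P ≤ K := Submodule.smul_le.mpr fun a ha y hy ↦ by
    have := hs ha
    obtain ⟨g, rfl⟩ := (Submodule.mem_span_range_iff_exists_fun A).mp this
    rw [Finset.sum_smul]
    exact Submodule.sum_mem _ fun k _ ↦ by
      rw [smul_eq_mul, mul_smul]; exact K.smul_mem _ (hkill k y hy)
  refine ⟨E + 1 + s * D, fun n hn ↦ ⟨fun m hmP hm _ ↦ hle (key s n hn m hmP hm), ?_⟩⟩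
  intro e' c hc _
  refine ⟨0, zero_mem _, zero_mem _, fun k ↦ ⟨e, ?_⟩⟩
  rw [smul_zero, zero_sub, smul_neg]
  exact neg_mem (hkill k _ (hc k).1)

include hf hirr in
/-- Eventual bijectivity for every homogeneous subquotient of a finitely generated submodule. -/
theorem good_of_fg [IsNoetherianRing A] {K L : Submodule A M} (hKL : K ≤ L) (hK : IsHom ℳ K)
    (hL : IsHom ℳ L) (hfg : L.FG) : Good ℳ f d L K := by
  suffices H : ∀ (I : Ideal A) (K L : Submodule A M), K ≤ L → IsHom ℳ K → IsHom ℳ L → L.FG →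
      I • L ≤ K → Good ℳ f d L K from H ⊥ K L hKL hK hL hfg (by simp)
  intro I
  induction I using IsNoetherian.induction with
  | hgt I ih =>
    intro K L hKL hK hL hfg hIL
    by_cases hall : ∀ k, ∃ e, ∀ y ∈ L, f k ^ e • y ∈ K
    · choose e he using hall
      exact Good.of_killed hf hirr hL hfg (Finset.univ.sup e) fun k y hy ↦
        le_of_pow_smul (Finset.le_sup (Finset.mem_univ k)) (he k y hy)
    push Not at hall
    obtain ⟨j, hj⟩ := hall
    have hnot : ∀ e, f j ^ e ∉ I := fun e he ↦ by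
      obtain ⟨y, hy, hy'⟩ := hj e
      exact hy' (hIL (Submodule.smul_mem_smul he hy))
    have hbig : ∀ (e : ℕ) (K' L' : Submodule A M), K' ≤ L' → IsHom ℳ K' → IsHom ℳ L' → L'.FG →
        I • L' ≤ K' → (∀ y ∈ L', f j ^ e • y ∈ K') → Good ℳ f d L' K' := by
      intro e K' L' h1 h2 h3 h4 h5 h6
      refine ih (I ⊔ Ideal.span {f j ^ e}) (left_lt_sup.mpr fun hle ↦
        hnot e (hle (Ideal.mem_span_singleton_self _))) K' L' h1 h2 h3 h4 ?_
      rw [Submodule.sup_smul, sup_le_iff]
      refine ⟨h5, Submodule.smul_le.mpr fun a ha y hy ↦ ?_⟩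
      obtain ⟨b, rfl⟩ := Ideal.mem_span_singleton'.mp ha
      rw [mul_smul]
      exact K'.smul_mem _ (h6 y hy)
    have := isNoetherian_of_fg_of_noetherian L hfg
    let T : ℕ →o Submodule A L :=
      ⟨fun e ↦ (K.comap (LinearMap.lsmul A M (f j ^ e))).comap L.subtype,
        fun a b hab y hy ↦ le_of_pow_smul hab hy⟩
    obtain ⟨e, he⟩ := monotone_stabilizes_iff_noetherian.mpr this T
    let P : Submodule A M := K.comap (LinearMap.lsmul A M (f j ^ e)) ⊓ L
    have hP : IsHom ℳ P := (hK.comap_smul (SetLike.pow_mem_graded e (hf j))).inf hL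
    have hKP : K ≤ P := le_inf (fun y hy ↦ K.smul_mem _ hy) hKL
    have hPfg : P.FG := isNoetherian_submodule.mp this P inf_le_right
    have hreg : ∀ y ∈ L, f j • y ∈ P → y ∈ P := fun y hy h ↦ ⟨by
      have h1 : (⟨y, hy⟩ : L) ∈ T (e + 1) := by
        change f j ^ (e + 1) • y ∈ K
        rw [pow_succ, mul_smul]
        exact h.1
      rw [← he (e + 1) (Nat.le_succ e)] at h1
      exact h1, hy⟩
    refine Good.trans hf hKP inf_le_right
      (hbig e K P hKP hK hP hPfg ?_ fun y hy ↦ hy.1) ?_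
    · exact le_trans (Submodule.smul_mono le_rfl inf_le_right) hIL
    · refine Good.of_regular hf hP hL j hreg (hbig 1 _ L ?_ ?_ hL hfg ?_ ?_)
      · exact sup_le inf_le_right fun _ ⟨y, hy, h⟩ ↦ h ▸ L.smul_mem _ hy
      · exact hP.sup (hL.map_smul (hf j))
      · exact le_trans hIL (le_trans hKP le_sup_left)
      · intro y hy
        rw [pow_one]
        exact Submodule.mem_sup_right ⟨y, hy, rfl⟩

end Groth.Agent.GrModLib
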