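import Groth.Agent.GrModLib.Alpha

/-!
Eventual generation of a graded module over the degree one part of the ring.
-/

universe u

open DirectSum

namespace Groth.Agent.GrModLib

variable {A σ : Type u} [CommRing A] [SetLike σ A] [AddSubgroupClass σ A] {𝒜 : ℕ → σ} [GradedRing 𝒜]
variable {M τ : Type u} [AddCommGroup M] [Module A M] [SetLike τ M] [AddSubgroupClass τ M]
  {ℳ : ℕ → τ} [DirectSum.Decomposition ℳ] [SetLike.GradedSMul 𝒜 ℳ]

variable (𝒜 ℳ) in
/-- The subgroup generated by the products `a • y`, `a` of degree `e` and `y` of degree `k`. -/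
def prods (e k : ℕ) : AddSubgroup M :=
  AddSubgroup.closure {z | ∃ a ∈ 𝒜 e, ∃ y ∈ ℳ k, z = a • y}

omit [AddSubgroupClass σ A] [GradedRing 𝒜] [AddSubgroupClass τ M] [Decomposition ℳ]
  [SetLike.GradedSMul 𝒜 ℳ] in
lemma smul_mem_prods [SetLike.GradedMul 𝒜] {t : A} {i : ℕ} (ht : t ∈ 𝒜 i) {e k : ℕ} {z : M}
    (hz : z ∈ prods 𝒜 ℳ e k) : t • z ∈ prods 𝒜 ℳ (i + e) k := by
  induction hz using AddSubgroup.closure_induction with
  | mem z hz =>
    obtain ⟨a, ha, y, hy, rfl⟩ := hz
    exact AddSubgroup.subset_closure ⟨t * a, SetLike.mul_mem_graded ht ha, y, hy, (mul_smul _ _ _).symm⟩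
  | zero => rw [smul_zero]; exact zero_mem _
  | add x y _ _ hx hy => rw [smul_add]; exact add_mem hx hy
  | neg x _ hx => rw [smul_neg]; exact neg_mem hx

/-- If the irrelevant ideal is generated in degree one, a graded submodule generated in degrees
`≤ E` is generated by its degree `k` part in degrees `≥ k ≥ E`. -/
theorem mem_prods (hgen : ∀ (i : ℕ) (a : A), 0 < i → a ∈ 𝒜 i → a ∈ Ideal.span (𝒜 1 : Set A))
    {P : Submodule A M} (hP : IsHom ℳ P) {E : ℕ} {S : Set M} (hS : Submodule.span A S = P)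
    (hdeg : ∀ y ∈ S, ∃ j ≤ E, y ∈ ℳ j) {k : ℕ} (hk : E ≤ k) :
    ∀ (e : ℕ) (m : M), m ∈ P → m ∈ ℳ (k + e) → m ∈ prods 𝒜 ℳ e k := by
  intro e
  induction e with
  | zero =>
    intro m _ hm
    exact AddSubgroup.subset_closure ⟨1, SetLike.GradedOne.one_mem, m, hm, (one_smul A m).symm⟩
  | succ e ih =>
    intro m hmP hm
    have key : ∀ a ∈ Ideal.span (𝒜 1 : Set A), ∀ y ∈ P,
        cpt ℳ (k + (e + 1)) (a • y) ∈ prods 𝒜 ℳ (e + 1) k := by
      intro a ha
      induction ha using Submodule.span_induction with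
      | mem t ht =>
        intro y hy
        rw [cpt_smul_left ht, if_pos (by omega), add_comm e 1]
        exact smul_mem_prods ht (ih _ (hP y hy _) (by
          rw [show k + (1 + e) - 1 = k + e by omega]; exact cpt_mem _ _))
      | zero => intro y _; rw [zero_smul, map_zero]; exact zero_mem _
      | add a b _ _ ha hb => intro y hy; rw [add_smul, map_add]; exact add_mem (ha y hy) (hb y hy)
      | smul c a _ ha =>
        intro y hy
        rw [smul_eq_mul, mul_comm, mul_smul]
        exact ha _ (P.smul_mem _ hy)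
    rw [← cpt_same hm]
    clear hm
    rw [← hS] at hmP
    induction hmP using Submodule.span_induction with
    | mem y hy =>
      obtain ⟨j, hj, hyj⟩ := hdeg y hy
      rw [cpt_ne hyj (by omega)]
      exact zero_mem _
    | zero => rw [map_zero]; exact zero_mem _
    | add x y _ _ hx hy => rw [map_add]; exact add_mem hx hy
    | smul a x hx hx' =>
      clear hx'
      induction hx using Submodule.span_induction generalizing a with
      | mem y hy =>
        obtain ⟨j, hj, hyj⟩ := hdeg y hy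
        rw [cpt_smul_right (𝒜 := 𝒜) hyj, if_pos (by omega)]
        have h1 : cpt ℳ (k + (e + 1)) ((decompose 𝒜 a (k + (e + 1) - j) : A) • y) =
            (decompose 𝒜 a (k + (e + 1) - j) : A) • y := by
          refine cpt_same ?_
          have h2 : k + (e + 1) - j + j = k + (e + 1) := by omega
          have h3 := SetLike.GradedSMul.smul_mem (SetLike.coe_mem (decompose 𝒜 a (k + (e + 1) - j))) hyj
          rwa [vadd_eq_add, h2] at h3
        rw [← h1]
        exact key _ (hgen (k + (e + 1) - j) _ (by omega) (SetLike.coe_mem _)) y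
          (hS.le (Submodule.subset_span hy))
      | zero => rw [smul_zero, map_zero]; exact zero_mem _
      | add x y _ _ hx hy => rw [smul_add, map_add]; exact add_mem (hx a) (hy a)
      | smul b x _ hx => rw [← mul_smul]; exact hx _

/-- In high degrees `M` is generated by one degree. -/
theorem exists_prods [IsNoetherianRing A]
    (hgen : ∀ (i : ℕ) (a : A), 0 < i → a ∈ 𝒜 i → a ∈ Ideal.span (𝒜 1 : Set A))
    (hTF : ∃ k : ℕ, (Submodule.span A (⋃ i ∈ Set.Ici k, (ℳ i : Set M))).FG) :
    ∃ K : ℕ, ∀ k : ℕ, K ≤ k → ∀ (e : ℕ) (m : M), m ∈ ℳ (k + e) → m ∈ prods 𝒜 ℳ e k := by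
  obtain ⟨k₀, hfg⟩ := hTF
  have hP : IsHom ℳ (Submodule.span A (⋃ i ∈ Set.Ici k₀, (ℳ i : Set M))) :=
    isHom_span (𝒜 := 𝒜) fun y hy ↦ by
      obtain ⟨i, -, hi⟩ := Set.mem_iUnion₂.mp hy
      exact ⟨i, hi⟩
  obtain ⟨E, S, hS, hdeg⟩ := hP.exists_gens hfg
  refine ⟨max E k₀, fun k hk e m hm ↦ mem_prods hgen hP hS hdeg (le_of_max_le_left hk) e m
    (Submodule.subset_span (Set.mem_iUnion₂.mpr ⟨k + e, ?_, hm⟩)) hm⟩
  exact (le_of_max_le_right hk).trans (Nat.le_add_right k e)

end Groth.Agent.GrModLib
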