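import Groth.Agent.CohAff.AffineCech
import Groth.Agent.CohAff.CechIso
import Groth.Agent.DirImgAff.Basic
import Groth.Agent.QCoh.Exact
import Groth.Agent.CohLin.Basic

/-!
Cohomology of coproducts of quasi-coherent modules on separated schemes with a finite affine cover.
-/

set_option linter.style.haveILetI false

universe u

open CategoryTheory CategoryTheory.Limits AlgebraicGeometry TopologicalSpace Opposite
open Groth.Agent.CohAff Groth.Agent.DirImgAff

noncomputable section

namespace Groth.Agent.GrModLib

variable {X : Scheme.{u}} {κ : Type u} (M : κ → X.Modules) [∀ j, (M j).IsQuasicoherent]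

open Classical in
/-- A section of a coproduct over an affine open has only finitely many components. -/
theorem exists_finset_sum_eq {V : X.Opens} (hV : IsAffineOpen V) (s : Γ(∐ M, V)) :
    ∃ S : Finset κ, ∀ T : Finset κ, S ⊆ T →
      s = ∑ j ∈ T, (Sigma.ι M j).app V ((Sigma.π M j).app V s) := by
  classical
  haveI : ∀ j, ((Discrete.functor M).obj j).IsQuasicoherent := fun j =>
    inferInstanceAs (M j.as).IsQuasicoherent
  haveI := preservesColimit_secFunctor (Discrete.functor M) hV
  have hc := isColimitOfPreserves (secFunctor V) (colimit.isColimit (Discrete.functor M))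
  let K : AddSubgroup Γ(∐ M, V) :=
    { carrier := {s | ∃ S : Finset κ, ∀ T : Finset κ, S ⊆ T →
        s = ∑ j ∈ T, (Sigma.ι M j).app V ((Sigma.π M j).app V s)}
      zero_mem' := ⟨∅, fun T _ => by simp⟩
      add_mem' := by
        rintro a b ⟨S, hS⟩ ⟨S', hS'⟩
        refine ⟨S ∪ S', fun T hT => ?_⟩
        simp only [map_add, Finset.sum_add_distrib]
        rw [← hS T (Finset.union_subset_left hT), ← hS' T (Finset.union_subset_right hT)]
      neg_mem' := by
        rintro a ⟨S, hS⟩
        refine ⟨S, fun T hT => ?_⟩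
        simp only [map_neg, Finset.sum_neg_distrib]
        rw [← hS T hT] }
  have hι : ∀ (i : κ) (m : Γ(M i, V)), (Sigma.ι M i).app V m ∈ K := by
    intro i m
    refine ⟨{i}, fun T hT => ?_⟩
    rw [Finset.sum_eq_single i]
    · have h := congr(Scheme.Modules.Hom.app $(Sigma.ι_π_eq_id M i) V m)
      exact (congrArg _ h).symm
    · intro j _ hj
      have h := congr(Scheme.Modules.Hom.app $(Sigma.ι_π_of_ne M (Ne.symm hj)) V m)
      exact (congrArg _ h).trans (map_zero _)
    · exact fun h => absurd (hT (Finset.mem_singleton_self i)) h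
  have h0 : AddCommGrpCat.ofHom (QuotientAddGroup.mk' K) = 0 := by
    refine hc.hom_ext fun j => ?_
    ext m
    exact (QuotientAddGroup.eq_zero_iff _).mpr (hι j.as m)
  exact (QuotientAddGroup.eq_zero_iff s).mp (congr($h0 s))

open Classical in
/-- Cohomology of a coproduct vanishes when it does termwise. -/
theorem subsingleton_HH_coprod [X.IsSeparated] {ι₀ : Type u} [Finite ι₀] (U : ι₀ → X.Opens)
    (hU : ∀ i, IsAffineOpen (U i)) (hcov : ⨆ i, U i = ⊤) (p : ℕ)
    (h : ∀ j, Subsingleton (Coh.HH X (M j) p)) : Subsingleton (Coh.HH X (∐ M) p) := by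
  classical
  cases nonempty_fintype ι₀
  haveI : ∀ j, ((Discrete.functor M).obj j).IsQuasicoherent := fun j =>
    inferInstanceAs (M j.as).IsQuasicoherent
  haveI : (∐ M).IsQuasicoherent := QCoh.isQuasicoherent_colimit (Discrete.functor M)
  have hmem : ∀ {n : ℕ} (x : Fin (n + 1) → ι₀), (affCov X).mem (inter (X := X.toTopCat) U x) := by
    intro n
    induction n with
    | zero =>
      intro x
      have e : inter (X := X.toTopCat) U x = U (x 0) :=
        le_antisymm (inter_le _ x 0) (le_inter fun a => by rw [Fin.eq_zero a])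
      exact (congrArg (IsAffineOpen (X := X)) e).mpr (hU _)
    | succ n ih =>
      intro x
      have e : inter (X := X.toTopCat) U x = U (x 0) ⊓ inter (X := X.toTopCat) U (x ∘ Fin.succ) := by
        refine le_antisymm (le_inf (inter_le _ x 0) (inter_comp_le _ x Fin.succ)) (le_inter fun a => ?_)
        induction a using Fin.cases with
        | zero => exact inf_le_left
        | succ a => exact inf_le_right.trans (inter_le _ (x ∘ Fin.succ) a)
      exact (congrArg (IsAffineOpen (X := X)) e).mpr ((hU _).inf (ih _))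
  rcases p with _ | p
  · -- sections
    refine (Sheaf.H.equiv₀ (Coh.toAb (∐ M)) isTerminalTop).toEquiv.subsingleton_congr.mpr
      (subsingleton_of_forall_eq 0 fun s => ?_)
    let s' : Γ(∐ M, ⊤) := s
    show s' = 0
    refine QCoh.eq_zero_of_locally_eq_zero (∐ M) (U := U) (fun i => le_top) hcov.ge s' fun i => ?_
    obtain ⟨S, hS⟩ := exists_finset_sum_eq M (hU i) (QCoh.res (∐ M) (le_top : U i ≤ ⊤) s')
    rw [hS S subset_rfl]
    refine Finset.sum_eq_zero fun j _ => ?_
    rw [QCoh.app_res]
    have : Subsingleton Γ(M j, ⊤) :=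
      (Sheaf.H.equiv₀ (Coh.toAb (M j)) isTerminalTop).toEquiv.subsingleton_congr.mp (h j)
    rw [Subsingleton.elim ((Sigma.π M j).app ⊤ s') 0, map_zero, map_zero]
  · obtain ⟨e⟩ := nonempty_cechEquiv hcov (good_affCov (∐ M)) hmem (p + 1)
    refine e.toEquiv.subsingleton_congr.mp ?_
    refine AddCommGrpCat.subsingleton_of_isZero ?_
    refine HomologicalComplex.ExactAt.isZero_homology ?_
    rw [HomologicalComplex.exactAt_iff' _ p (p + 1) (p + 2) (by simp) (by simp),
      ShortComplex.ab_exact_iff]
    intro z hz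
    let c := cmp (∐ M).presheaf U (p + 1) z
    have hc : cd (∐ M).presheaf U (p + 1) c = 0 :=
      ((cmp_d (∐ M).presheaf U (p + 1) z).symm.trans
        (congrArg (cmp (∐ M).presheaf U (p + 2)) hz)).trans (map_zero _)
    choose S hS using fun x : Fin (p + 2) → ι₀ => exists_finset_sum_eq M (hmem x) (c x)
    let T := Finset.univ.biUnion S
    have hb : ∀ j, ∃ b, cd (M j).presheaf U p b = cmap (Sigma.π M j).mapPresheaf U (p + 1) c := by
      intro j
      obtain ⟨ej⟩ := nonempty_cechEquiv hcov (good_affCov (M j)) hmem (p + 1)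
      have h1 : IsZero ((mlCech (M j).presheaf U).homology (p + 1)) :=
        @AddCommGrpCat.isZero_of_subsingleton _ (ej.toEquiv.subsingleton_congr.mpr (h j))
      have h2 := (HomologicalComplex.exactAt_iff_isZero_homology _ _).mpr h1
      rw [HomologicalComplex.exactAt_iff' _ p (p + 1) (p + 2) (by simp) (by simp),
        ShortComplex.ab_exact_iff] at h2
      obtain ⟨z', hz'⟩ := (cmp_bijective (M j).presheaf U (p + 1)).2
        (cmap (Sigma.π M j).mapPresheaf U (p + 1) c)
      obtain ⟨w, hw⟩ := h2 z' ((cmp_bijective (M j).presheaf U (p + 2)).1 (by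
        refine (cmp_d (M j).presheaf U (p + 1) z').trans (Eq.trans ?_ (map_zero _).symm)
        rw [hz', cd_cmap, hc, map_zero]))
      exact ⟨cmp (M j).presheaf U p w,
        ((cmp_d (M j).presheaf U p w).symm.trans (congrArg _ hw)).trans hz'⟩
    choose b hb using hb
    obtain ⟨w, hw⟩ := (cmp_bijective (∐ M).presheaf U p).2
      (∑ j ∈ T, cmap (Sigma.ι M j).mapPresheaf U p (b j))
    refine ⟨w, (cmp_bijective (∐ M).presheaf U (p + 1)).1 ?_⟩
    refine (cmp_d (∐ M).presheaf U p w).trans ?_
    rw [hw, map_sum]
    simp only [cd_cmap, hb]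
    funext x
    rw [Finset.sum_apply]
    exact (hS x T (Finset.subset_biUnion_of_mem S (Finset.mem_univ x))).symm

end Groth.Agent.GrModLib
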