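import Groth.Agent.GrModLib.Sections
import Groth.Agent.GrModLib.Shift
import Groth.Agent.QCoh.Basic
import Groth.Agent.QCoh.FiniteType
import Groth.Prelude.Def_Coh
import Mathlib.AlgebraicGeometry.ProjectiveSpectrum.Basic

/-!
`M(n)~` is quasi-coherent, and of finite type for a finite module over a Noetherian graded ring,
for gradings by any additive subgroups.
-/

universe u

open CategoryTheory AlgebraicGeometry TopologicalSpace Opposite DirectSum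

noncomputable section

namespace Groth.Agent.GrModLib

variable {A σ : Type u} [CommRing A] [SetLike σ A] [AddSubgroupClass σ A] {𝒜 : ℕ → σ} [GradedRing 𝒜]

/-- The value of a function at a point. -/
abbrev fval {U : Opens (ProjectiveSpectrum.top 𝒜)} (c : Γ(Proj 𝒜, U)) (x : ProjectiveSpectrum 𝒜)
    (hx : x ∈ U) : GrTwist.Loc 𝒜 x :=
  ((show GrTwist.O (𝒜 := 𝒜) (op U) from c).1 ⟨x, hx⟩).val

lemma fval_pow {U : Opens (ProjectiveSpectrum.top 𝒜)} (c : Γ(Proj 𝒜, U)) (N : ℕ)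
    (x : ProjectiveSpectrum 𝒜) (hx : x ∈ U) : fval (c ^ N) x hx = fval c x hx ^ N :=
  (congrArg HomogeneousLocalization.val (show ((show GrTwist.O (𝒜 := 𝒜) (op U) from c ^ N).1 ⟨x, hx⟩) =
    ((show GrTwist.O (𝒜 := 𝒜) (op U) from c).1 ⟨x, hx⟩) ^ N from rfl)).trans
      (HomogeneousLocalization.val_pow _ _)

variable {d : ℕ} {f : A}

/-- The function `a / f ^ k` on `D₊(f)`. -/
def fracO (hf : f ∈ 𝒜 d) {k : ℕ} {a : A} (ha : a ∈ 𝒜 (k * d)) :
    Γ(Proj 𝒜, Proj.basicOpen 𝒜 f) :=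
  (Proj.awayToSection 𝒜 f).hom (HomogeneousLocalization.Away.mk 𝒜 hf k a (by simpa using ha))

lemma fval_fracO (hf : f ∈ 𝒜 d) {k : ℕ} {a : A} (ha : a ∈ 𝒜 (k * d))
    (x : ProjectiveSpectrum 𝒜) (hx : f ∉ x.asHomogeneousIdeal) :
    fval (fracO hf ha) x hx = Localization.mk a ⟨f ^ k, pow_nin hx k⟩ := by
  refine (ProjectiveSpectrum.Proj.awayToSection_apply 𝒜 f _ ⟨x, hx⟩).trans ?_
  rw [HomogeneousLocalization.Away.val_mk, Localization.mk_eq_mk', IsLocalization.map_mk',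
    Localization.mk_eq_mk']
  rfl

lemma exists_fracO (hf : f ∈ 𝒜 d) (hd : 0 < d) (c : Γ(Proj 𝒜, Proj.basicOpen 𝒜 f)) :
    ∃ (k : ℕ) (a : A) (ha : a ∈ 𝒜 (k * d)), c = fracO hf ha := by
  obtain ⟨z, rfl⟩ :=
    (ConcreteCategory.bijective_of_isIso (Proj.basicOpenIsoAway 𝒜 f hf hd).hom).2 c
  obtain ⟨k, a, ha, rfl⟩ := HomogeneousLocalization.Away.mk_surjective 𝒜 hf z
  exact ⟨k, a, by simpa using ha, rfl⟩

lemma mem_basicOpen_fracO (hf : f ∈ 𝒜 d) (hd : 0 < d) {k : ℕ} {a : A} (ha : a ∈ 𝒜 (k * d))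
    (x : ProjectiveSpectrum 𝒜) :
    x ∈ (Proj 𝒜).basicOpen (fracO hf ha) ↔ a * f ∉ x.asHomogeneousIdeal := by
  have hxa : a * f ∉ x.asHomogeneousIdeal ↔ a ∉ x.asHomogeneousIdeal ∧ f ∉ x.asHomogeneousIdeal :=
    ⟨fun h ↦ ⟨fun h' ↦ h (Ideal.mul_mem_right _ _ h'), fun h' ↦ h (Ideal.mul_mem_left _ _ h')⟩,
      fun h h' ↦ (x.isPrime.mem_or_mem h').elim h.1 h.2⟩
  rw [hxa]
  by_cases hx : f ∈ x.asHomogeneousIdeal
  · exact ⟨fun h ↦ absurd hx ((Proj 𝒜).basicOpen_le _ h), fun h ↦ absurd hx h.2⟩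
  refine ((Proj 𝒜).mem_basicOpen _ (show Proj 𝒜 from x) hx).trans ?_
  have e : IsUnit ((Proj 𝒜).presheaf.germ (Proj.basicOpen 𝒜 f) x hx (fracO hf ha)) ↔
      IsUnit ((show GrTwist.O (𝒜 := 𝒜) (op (Proj.basicOpen 𝒜 f)) from fracO hf ha).1 ⟨x, hx⟩) := by
    refine (MulEquiv.isUnit_map (Proj.stalkIso' 𝒜 x).toMulEquiv).symm.trans ?_
    exact iff_of_eq (congrArg IsUnit (Proj.stalkIso'_germ 𝒜 _ x hx _))
  refine e.trans ?_
  rw [← HomogeneousLocalization.isUnit_iff_isUnit_val]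
  change IsUnit (fval (fracO hf ha) x hx) ↔ _
  rw [fval_fracO hf ha x hx, Localization.mk_eq_mk', IsLocalization.AtPrime.isUnit_mk'_iff
    (GrTwist.Loc 𝒜 x) x.asHomogeneousIdeal.toIdeal]
  exact ⟨fun h ↦ ⟨h, hx⟩, fun h ↦ h.1⟩

variable {M τ : Type u} [AddCommGroup M] [Module A M] [SetLike τ M] [AddSubgroupClass τ M]
  {ℳ : ℕ → τ} [DirectSum.Decomposition ℳ] [SetLike.GradedSMul 𝒜 ℳ]

/-- A section of `M(n)~`, as a section. -/
abbrev asSect {n : ℤ} {U : (Proj 𝒜).Opens} (s : Γ(GrMod.tilde 𝒜 ℳ n, U)) :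
    GrMod.sect 𝒜 ℳ n (op U) := s

lemma tilde_ext {n : ℤ} {U : (Proj 𝒜).Opens} {s t : Γ(GrMod.tilde 𝒜 ℳ n, U)}
    (h : ∀ x hx, valAt (asSect s) x hx = valAt (asSect t) x hx) : s = t :=
  sect_ext (s := asSect s) (t := asSect t) h

lemma valAt_smul' {n : ℤ} {U : (Proj 𝒜).Opens} (c : Γ(Proj 𝒜, U))
    (s : Γ(GrMod.tilde 𝒜 ℳ n, U)) (x : ProjectiveSpectrum 𝒜) (hx : x ∈ U) :
    valAt (asSect (c • s)) x hx = fval c x hx • valAt (asSect s) x hx :=
  valAt_smul _ _ x hx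

theorem isLocalizingAt_grTilde (hf : f ∈ 𝒜 d) (hd : 0 < d) (n : ℤ)
    (c : Γ(Proj 𝒜, Proj.basicOpen 𝒜 f)) :
    QCoh.IsLocalizingAt (GrMod.tilde 𝒜 ℳ n) c := by
  obtain ⟨k, a, ha, rfl⟩ := exists_fracO hf hd c
  have hg : a * f ∈ 𝒜 (k * d + d) := SetLike.mul_mem_graded ha hf
  have hbasic := mem_basicOpen_fracO hf hd ha
  have hpw : ∀ e : ℕ, f ^ e ∈ 𝒜 (e * d) := fun e ↦ by simpa using SetLike.pow_mem_graded e hf
  have hpow : ∀ (N : ℕ) (x : ProjectiveSpectrum 𝒜) (hx : f ∉ x.asHomogeneousIdeal),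
      fval (fracO hf ha ^ N) x hx =
        Localization.mk (a ^ N) ⟨(f ^ k) ^ N, pow_nin (pow_nin hx k) N⟩ := fun N x hx ↦ by
    rw [fval_pow, fval_fracO hf ha x hx, Localization.mk_pow]
    rfl
  refine ⟨fun s ↦ ?_, fun t ht ↦ ?_⟩
  · obtain ⟨e, i, m, hm, hi, hval⟩ := exists_frac (ℳ := ℳ) hg (by omega) n
      (U := (Proj 𝒜).basicOpen (fracO hf ha)) (fun x hx ↦ (hbasic x).mpr hx) (asSect s)
    let t : GrMod.sect 𝒜 ℳ n (op (Proj.basicOpen 𝒜 f)) :=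
      fracSec hm (hpw (k * e + e)) n (by push_cast at hi ⊢; rw [hi]; ring)
        (fun x ↦ pow_nin x.2 _)
    refine ⟨e, t, tilde_ext fun x hx ↦ ?_⟩
    refine Eq.trans ?_ (valAt_smul' _ s x hx).symm
    have hx' := (hbasic x).mp hx
    have hxf : f ∉ x.asHomogeneousIdeal := fun h ↦ hx' (Ideal.mul_mem_left _ _ h)
    have h1 : fval ((QCoh.rres ((Proj 𝒜).basicOpen_le (fracO hf ha)) (fracO hf ha)) ^ e) x hx =
        fval (fracO hf ha ^ e) x hxf := by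
      rw [← map_pow]
      rfl
    refine Eq.trans ?_ (congrArg₂ (· • ·) (h1.trans (hpow e x hxf)).symm (hval x hx').symm)
    change GrModLib.mk x m (f ^ (k * e + e)) _ = _
    refine Eq.trans ?_ (LocalizedModule.mk_smul_mk _ _ _ _).symm
    refine mk_eq_mk_iff.mpr ⟨1, GrMod.one_nin x, ?_⟩
    rw [one_smul, sub_eq_zero, ← mul_smul]
    congr 1
    simp only [← pow_mul, mul_pow, pow_add, Submonoid.coe_mul]
    ring
  · obtain ⟨e, i, m, hm, hi, hval⟩ := exists_frac (ℳ := ℳ) hf hd n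
      (U := Proj.basicOpen 𝒜 f) (fun _ hx ↦ hx) (asSect t)
    obtain ⟨N, hN⟩ := GrModLib.exists_pow_smul_eq_zero (ℳ := ℳ) hm hg (by omega) fun x hx ↦ by
      refine (mk_eq_zero_iff (s := f ^ e)
        (hs := pow_nin (fun h ↦ hx (Ideal.mul_mem_left _ _ h)) e)).mp ?_
      refine (hval x (fun h ↦ hx (Ideal.mul_mem_left _ _ h))).symm.trans ?_
      exact congrArg (fun s ↦ valAt (asSect s) x ((hbasic x).mpr hx)) ht
    refine ⟨N, tilde_ext fun x hx ↦ ?_⟩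
    refine (valAt_smul' _ t x hx).trans ?_
    refine (congrArg₂ (· • ·) (hpow N x hx) (hval x hx)).trans ?_
    refine (LocalizedModule.mk_smul_mk _ _ _ _).trans ?_
    refine mk_eq_zero_iff.mpr ⟨f ^ N, pow_nin hx N, ?_⟩
    rwa [← mul_smul, mul_comm, ← mul_pow]

theorem exists_pos_not_mem (x : ProjectiveSpectrum 𝒜) :
    ∃ (d : ℕ) (f : A), 0 < d ∧ f ∈ 𝒜 d ∧ f ∉ x.asHomogeneousIdeal := by
  by_contra! h
  exact x.not_irrelevant_le ((HomogeneousIdeal.irrelevant_le _).mpr fun i hi a ha ↦ h i a hi ha)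

/-- `M(n)~` is quasi-coherent. -/
theorem isQuasicoherent_grTilde (n : ℤ) : (GrMod.tilde 𝒜 ℳ n).IsQuasicoherent := by
  refine QCoh.isQuasicoherent_of_forall_exists_isLocalizingAt _ fun x ↦ ?_
  obtain ⟨d, f, hd, hf, hfx⟩ := exists_pos_not_mem (show ProjectiveSpectrum 𝒜 from x)
  exact ⟨_, Proj.isAffineOpen_basicOpen 𝒜 f hf hd, hfx, isLocalizingAt_grTilde hf hd n⟩

/-- The sections of `M(n)~` over `D₊(f)` form a finite module. -/
theorem finite_sections_basicOpen [IsNoetherianRing A] [Module.Finite A M] (hf : f ∈ 𝒜 d)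
    (hd : 0 < d) (n : ℤ) :
    Module.Finite Γ(Proj 𝒜, Proj.basicOpen 𝒜 f) Γ(GrMod.tilde 𝒜 ℳ n, Proj.basicOpen 𝒜 f) := by
  classical
  let S : Set M := {m | ∃ e i : ℕ, (i : ℤ) = e * d + n ∧ m ∈ ℳ i}
  obtain ⟨T, hTS, hT⟩ := Submodule.fg_span_iff_fg_span_finset_subset S |>.mp
    (IsNoetherian.noetherian (Submodule.span A S))
  choose E I hI hmem using fun m : T ↦ hTS m.2
  have hpw : ∀ e : ℕ, f ^ e ∈ 𝒜 (e * d) := fun e ↦ by simpa using SetLike.pow_mem_graded e hf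
  let s : T → Γ(GrMod.tilde 𝒜 ℳ n, Proj.basicOpen 𝒜 f) := fun m ↦
    fracSec (hmem m) (hpw (E m)) n (by have := hI m; push_cast at this ⊢; exact this)
      fun x ↦ pow_nin x.2 _
  refine ⟨Submodule.fg_def.mpr ⟨Set.range s, Set.finite_range s,
    eq_top_iff.mpr fun (t : Γ(GrMod.tilde 𝒜 ℳ n, Proj.basicOpen 𝒜 f)) _ ↦ ?_⟩⟩
  obtain ⟨e, i, m, hm, hi, hval⟩ := exists_frac (ℳ := ℳ) hf hd n (U := Proj.basicOpen 𝒜 f)
    (fun _ hx ↦ hx) (asSect t)
  have hmS : m ∈ Submodule.span A (T : Set M) :=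
    hT ▸ Submodule.subset_span ⟨e, i, hi, hm⟩
  obtain ⟨b, hb⟩ := Submodule.mem_span_finset'.mp hmS
  -- the coefficients in the right degrees
  let c : T → Γ(Proj 𝒜, Proj.basicOpen 𝒜 f) := fun j ↦
    if h : E j ≤ e then fracO hf (k := e - E j)
      (a := (decompose 𝒜 (b j) ((e - E j) * d) : A)) (SetLike.coe_mem _) else 0
  suffices h : t = ∑ j, c j • s j from
    h ▸ Submodule.sum_mem _ fun j _ ↦ Submodule.smul_mem _ _ (Submodule.subset_span ⟨j, rfl⟩)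
  refine tilde_ext fun x hx ↦ (hval x hx).trans ?_
  let v : Γ(GrMod.tilde 𝒜 ℳ n, Proj.basicOpen 𝒜 f) →+ GrMod.LocMod 𝒜 (M := M) x :=
    AddMonoidHom.mk' (fun q ↦ valAt (asSect q) x hx) fun _ _ ↦ rfl
  refine Eq.trans ?_ (map_sum v _ _).symm
  have hs : f ^ e ∉ x.asHomogeneousIdeal := pow_nin hx e
  let w : M →+ GrMod.LocMod 𝒜 (M := M) x :=
    ((LocalizedModule.mk 1 (⟨f ^ e, hs⟩ : x.asHomogeneousIdeal.toIdeal.primeCompl) :
      GrTwist.Loc 𝒜 x) • AddMonoidHom.id (GrMod.LocMod 𝒜 (M := M) x)).comp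
      (LocalizedModule.mkLinearMap x.asHomogeneousIdeal.toIdeal.primeCompl M).toAddMonoidHom
  have hw : ∀ z : M, w z = mk x z (f ^ e) hs := fun z ↦ by
    refine (LocalizedModule.mk_smul_mk _ _ _ _).trans ?_
    exact mk_eq_mk_iff.mpr ⟨1, GrMod.one_nin x, by simp⟩
  rw [← hw, ← cpt_same hm, ← hb, map_sum, map_sum]
  refine Finset.sum_congr rfl fun j _ ↦ ?_
  rw [cpt_smul_right (𝒜 := 𝒜) (hmem j)]
  change _ = valAt (asSect (c j • s j)) x hx
  refine Eq.trans ?_ (valAt_smul' _ _ x hx).symm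
  by_cases hle : E j ≤ e
  · have hij : i - I j = (e - E j) * d ∧ I j ≤ i := by
      have h1 : (i : ℤ) = ((e - E j) * d : ℕ) + I j := by
        rw [hi, hI j]; push_cast [Nat.cast_sub hle]; ring
      omega
    simp only [c, dif_pos hle, if_pos hij.2]
    refine Eq.trans ?_ (congrArg₂ (· • ·) (fval_fracO hf _ x hx).symm rfl)
    rw [hw, hij.1]
    refine Eq.trans ?_ (LocalizedModule.mk_smul_mk _ _ _ _).symm
    refine mk_eq_mk_iff.mpr ⟨1, GrMod.one_nin x, ?_⟩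
    rw [one_smul, sub_eq_zero, ← pow_add, Nat.sub_add_cancel hle]
  · have hij : ¬ I j ≤ i := by
      have h1 : (e : ℤ) * d < E j * d := by
        exact_mod_cast Nat.mul_lt_mul_of_pos_right (not_le.mp hle) hd
      have := hI j
      omega
    simp only [c, dif_neg hle, if_neg hij, map_zero]
    refine Eq.trans (zero_smul (GrTwist.Loc 𝒜 x) _).symm (congrArg (· • _) ?_)
    exact HomogeneousLocalization.val_zero.symm

/-- `M(n)~` is coherent for a finite module over a Noetherian graded ring. -/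
theorem isCoh_grTilde [IsNoetherianRing A] [Module.Finite A M] (n : ℤ) :
    Coh.IsCoh (GrMod.tilde 𝒜 ℳ n) := by
  have := isQuasicoherent_grTilde (𝒜 := 𝒜) (ℳ := ℳ) n
  refine ⟨this, QCoh.isFiniteType_of_forall_exists _ fun x ↦ ?_⟩
  obtain ⟨d, f, hd, hf, hfx⟩ := exists_pos_not_mem (show ProjectiveSpectrum 𝒜 from x)
  exact ⟨_, Proj.isAffineOpen_basicOpen 𝒜 f hf hd, hfx, finite_sections_basicOpen hf hd n⟩

end Groth.Agent.GrModLib
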