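import Groth.Agent.GrModLib.HHCoprod
import Groth.Agent.ProjTwist.Pn.H0
import Groth.Agent.ProjTwist.Pn.MulX
import Groth.Agent.CohOps.PnSmooth
import Groth.Agent.KFlat.FlatPull
import Groth.Agent.AssSch.Structure

/-!
`H^q(P^n_A, f^*G ⊗ O(d)) = 0` for `q ≠ n`, `d < 0` and `G` quasi-coherent on `Spec A`.
-/

set_option linter.style.haveILetI false
set_option maxHeartbeats 400000

universe u

open CategoryTheory CategoryTheory.Limits AlgebraicGeometry TopologicalSpace Opposite
open Groth.Agent.ProjTwist Groth.Agent.ProjTwist.Pn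

noncomputable section

namespace Groth.Agent.GrModLib.NegTwist

variable {n : ℕ} {A : Type u} [CommRing A]

/-- Pullback from the base. -/
abbrev pb (n : ℕ) (A : Type u) [CommRing A] :
    (Spec (CommRingCat.of A)).Modules ⥤ (CohB1.ProjSpace n A).Modules :=
  Scheme.Modules.pullback (CohB1.ProjSpace.toSpec n A)

theorem hh_of_isZero {G : ((CohB1.ProjSpace n A)).Modules} (hG : IsZero G) (q : ℕ) :
    Subsingleton (Coh.HH (CohB1.ProjSpace n A) G q) := subsingleton_of_forall_eq 0 fun x => by
  have h : CohLin.hMap (𝟙 G) q x = CohLin.hMap (0 : G ⟶ G) q x := by rw [hG.eq_of_src (𝟙 G) 0]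
  rw [CohLin.hMap_id] at h
  rw [h]
  exact map_zero (CohLin.hMapHom G G q x)

theorem hh_biprod {G H : ((CohB1.ProjSpace n A)).Modules} (q : ℕ) [Subsingleton (Coh.HH (CohB1.ProjSpace n A) G q)]
    [Subsingleton (Coh.HH (CohB1.ProjSpace n A) H q)] : Subsingleton (Coh.HH (CohB1.ProjSpace n A) (G ⊞ H) q) :=
  subsingleton_of_forall_eq 0 fun x => by
  have h : x = CohLin.hMap (biprod.inl : G ⟶ G ⊞ H) q (CohLin.hMap biprod.fst q x) +
      CohLin.hMap (biprod.inr : H ⟶ G ⊞ H) q (CohLin.hMap biprod.snd q x) := by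
    rw [← CohLin.hMap_comp, ← CohLin.hMap_comp, ← CohLin.hMap_add, biprod.total, CohLin.hMap_id]
  rw [h, Subsingleton.elim (CohLin.hMap (biprod.fst : G ⊞ H ⟶ G) q x) 0,
    Subsingleton.elim (CohLin.hMap (biprod.snd : G ⊞ H ⟶ H) q x) 0, map_zero, map_zero, add_zero]

theorem hh_retract {G H : ((CohB1.ProjSpace n A)).Modules} (r : Retract G H) (q : ℕ) [Subsingleton (Coh.HH (CohB1.ProjSpace n A) H q)] :
    Subsingleton (Coh.HH (CohB1.ProjSpace n A) G q) := subsingleton_of_forall_eq 0 fun x => by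
  have h : CohLin.hMap (r.i ≫ r.r) q x = x := by rw [r.retract, CohLin.hMap_id]
  rw [← h, CohLin.hMap_comp, Subsingleton.elim (CohLin.hMap r.i q x) 0]
  exact map_zero (CohLin.hMap r.r q)

theorem injective_h0 {S : ShortComplex ((CohB1.ProjSpace n A)).Modules} (hS : S.ShortExact) :
    Function.Injective (CohLin.hMap S.f 0) := by
  intro x y hxy
  let e₁ := Sheaf.H.equiv₀ (Coh.toAb S.X₁) isTerminalTop
  let e₂ := Sheaf.H.equiv₀ (Coh.toAb S.X₂) isTerminalTop
  apply e₁.injective
  apply CohAff.sec_f_injective (CohLin.shortExact_abSeq hS) ⊤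
  have hx := Sheaf.H.equiv₀_naturality isTerminalTop (CohLin.abMap S.f) x
  have hy := Sheaf.H.equiv₀_naturality isTerminalTop (CohLin.abMap S.f) y
  exact hx.trans ((congrArg e₂ hxy).trans hy.symm)

/-- Vanishing for coproducts, by the standard affine cover. -/
theorem hh_coprod {κ : Type u} (M : κ → ((CohB1.ProjSpace n A)).Modules) [∀ j, (M j).IsQuasicoherent] (q : ℕ)
    (h : ∀ j, Subsingleton (Coh.HH (CohB1.ProjSpace n A) (M j) q)) : Subsingleton (Coh.HH (CohB1.ProjSpace n A) (∐ M) q) := by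
  haveI : (CohB1.ProjSpace n A).IsSeparated :=
    inferInstanceAs (Scheme.IsSeparated (Proj (CohB1.polyGrading n A)))
  refine GrModLib.subsingleton_HH_coprod M (fun i : ULift.{u} (Fin (n + 1)) => stdOpen n A i.down)
    (fun i => isAffineOpen_stdOpen n A i.down) ?_ q h
  exact top_le_iff.mp ((iSup_stdOpen n A).ge.trans (iSup_le fun i => le_iSup_of_le ⟨i⟩ le_rfl))

/-- Vanishing for the free module. -/
theorem hh_free (I : Type u) (d : ℤ) (q : ℕ)
    (hd : Subsingleton (Coh.HH (CohB1.ProjSpace n A) (Twist.twistProjSpace n A d) q)) :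
    Subsingleton (Coh.HH (CohB1.ProjSpace n A)
      (twF ((pb n A).obj (∐ fun _ : I => Coh.structureModule (Spec (CommRingCat.of A)))) d) q) := by
  have hq := isQCoh_twistProjSpace n A d
  haveI : PreservesColimitsOfSize.{u, u} (pb n A) :=
    (Scheme.Modules.pullbackPushforwardAdjunction _).leftAdjoint_preservesColimits
  let e₁ : (pb n A).obj (∐ fun _ : I => Coh.structureModule (Spec (CommRingCat.of A))) ≅
      ∐ fun _ : I => Coh.structureModule (CohB1.ProjSpace n A) :=
    PreservesCoproduct.iso (pb n A) _ ≪≫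
      Sigma.mapIso fun _ => QCoh.pullbackUnitIso (CohB1.ProjSpace.toSpec n A)
  let e₂ : twF (∐ fun _ : I => Coh.structureModule (CohB1.ProjSpace n A)) d ≅
      ∐ fun _ : I => Twist.twistProjSpace n A d :=
    twSigma _ d ≪≫ Sigma.mapIso fun _ => oneTens (Twist.twistProjSpace n A d)
  haveI : ∀ _ : I, (Twist.twistProjSpace n A d).IsQuasicoherent := fun _ => hq
  have := hh_coprod (fun _ : I => Twist.twistProjSpace n A d) q fun _ => hd
  exact Pn.subsingleton_of_iso (twCongr e₁ d ≪≫ e₂).symm q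

theorem hh_X₁ {S : ShortComplex (CohB1.ProjSpace n A).Modules} (hS : S.ShortExact) (D : ℤ) (a : ℕ)
    (h2 : Subsingleton (Coh.HH (CohB1.ProjSpace n A) (twF S.X₂ D) (a + 1)))
    (h3 : Subsingleton (Coh.HH (CohB1.ProjSpace n A) (twF S.X₃ D) a)) :
    Subsingleton (Coh.HH (CohB1.ProjSpace n A) (twF S.X₁ D) (a + 1)) :=
  @CohLin.subsingleton_X₁ _ (S.map (twFun n A D)) (Pn.shortExact_tw hS D) a h2 h3

theorem hh_X₂ {S : ShortComplex (CohB1.ProjSpace n A).Modules} (hS : S.ShortExact) (D : ℤ) (a : ℕ)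
    (h1 : Subsingleton (Coh.HH (CohB1.ProjSpace n A) (twF S.X₁ D) a))
    (h3 : Subsingleton (Coh.HH (CohB1.ProjSpace n A) (twF S.X₃ D) a)) :
    Subsingleton (Coh.HH (CohB1.ProjSpace n A) (twF S.X₂ D) a) :=
  @CohLin.subsingleton_X₂ _ (S.map (twFun n A D)) (Pn.shortExact_tw hS D) a h1 h3

theorem hh0_of_mono {G H : (CohB1.ProjSpace n A).Modules} (φ : G ⟶ H) [Mono φ] (D : ℤ)
    (h : Subsingleton (Coh.HH (CohB1.ProjSpace n A) (twF H D) 0)) :
    Subsingleton (Coh.HH (CohB1.ProjSpace n A) (twF G D) 0) := by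
  let S : ShortComplex (CohB1.ProjSpace n A).Modules :=
    ShortComplex.mk φ (cokernel.π φ) (cokernel.condition φ)
  haveI : Mono S.f := ‹Mono φ›
  haveI : Epi S.g := inferInstanceAs (Epi (cokernel.π φ))
  have hS : S.ShortExact :=
    { exact := ShortComplex.exact_of_g_is_cokernel _ (cokernelIsCokernel φ) }
  haveI : Subsingleton (Coh.HH (CohB1.ProjSpace n A) (S.map (twFun n A D)).X₂ 0) := h
  exact (injective_h0 (Pn.shortExact_tw hS D)).subsingleton

/-- Dimension shifting along a free presentation. -/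
theorem exists_free_seq (G : (Spec (CommRingCat.of A)).Modules) [G.IsQuasicoherent] :
    ∃ (I : Type u) (K : (Spec (CommRingCat.of A)).Modules) (_ : K.IsQuasicoherent)
      (i : K ⟶ ∐ fun _ : I => Coh.structureModule (Spec (CommRingCat.of A)))
      (p : (∐ fun _ : I => Coh.structureModule (Spec (CommRingCat.of A))) ⟶ G) (w : i ≫ p = 0),
      (ShortComplex.mk i p w).ShortExact := by
  haveI := Scheme.Modules.isIso_fromTildeΓ_of_isQuasicoherent G
  let P : G.Presentation := QCoh.presentationOfIso (asIso (Scheme.Modules.fromTildeΓ (R := CommRingCat.of A) G))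
    (presentationTilde.{u} _ .univ (by simp) _ (Submodule.span_eq _))
  let p : (∐ fun _ : P.generators.I => Coh.structureModule (Spec (CommRingCat.of A))) ⟶ G :=
    P.generators.π
  haveI : Epi p := P.generators.epi
  haveI : ∀ j, ((Discrete.functor fun _ : P.generators.I =>
      Coh.structureModule (Spec (CommRingCat.of A))).obj j).IsQuasicoherent := fun _ =>
    AssSch.Structure.isQuasicoherent_structure _
  haveI : (∐ fun _ : P.generators.I => Coh.structureModule (Spec (CommRingCat.of A))).IsQuasicoherent :=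
    QCoh.isQuasicoherent_colimit (Discrete.functor _)
  refine ⟨_, kernel p, QCoh.isQuasicoherent_kernel p, kernel.ι p, p, kernel.condition p, ?_⟩
  exact ShortComplex.ShortExact.mk' (ShortComplex.exact_of_f_is_kernel _ (kernelIsKernel _))
    inferInstance inferInstance

/-- A short exact sequence stays exact after pullback and twist. -/
theorem shortExact_map {S : ShortComplex (Spec (CommRingCat.of A)).Modules} (hS : S.ShortExact)
    (d : ℤ) : ((S.map (pb n A)).map (twFun n A d)).ShortExact := by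
  haveI := CohOps.PnSmooth.smooth_toSpec n A
  haveI : Flat (CohB1.ProjSpace.toSpec n A) := inferInstance
  haveI : PreservesColimitsOfSize.{0, 0} ((pb n A)) :=
    (Scheme.Modules.pullbackPushforwardAdjunction _).leftAdjoint_preservesColimits
  haveI : PreservesFiniteColimits ((pb n A)) := PreservesColimitsOfSize.preservesFiniteColimits _
  exact Pn.shortExact_tw (hS.map_of_exact ((pb n A))) d

/-- Twists `≥ -n` have no higher cohomology. -/
theorem subsingleton_of_ge : ∀ (c q : ℕ), n + 1 ≤ q + c → 1 ≤ q →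
    ∀ (G : (Spec (CommRingCat.of A)).Modules) [G.IsQuasicoherent] (d : ℤ), -(n : ℤ) ≤ d →
      Subsingleton (Coh.HH (CohB1.ProjSpace n A) (twF (((pb n A)).obj G) d) q)
  | 0, q, hq, _, G, _, d, _ => by
    exact Pn.subsingleton_above _ (Pn.isQCoh_tw _ (QCoh.isQuasicoherent_pullback _ G) d) q (by omega)
  | c + 1, q, hq, hq1, G, _, d, hd => by
    obtain ⟨I, K, hK, i, p, w, hS⟩ := exists_free_seq G
    have hS' := shortExact_map (n := n) hS d
    obtain ⟨q', rfl⟩ := Nat.exists_eq_succ_of_ne_zero (Nat.one_le_iff_ne_zero.mp hq1)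
    have : Subsingleton (Coh.HH (CohB1.ProjSpace n A) (((ShortComplex.mk i p w).map (pb n A)).map (twFun n A d)).X₂ (q' + 1)) :=
      hh_free I d _ (subsingleton_twist d q' (Or.inr (by omega)))
    have : Subsingleton (Coh.HH (CohB1.ProjSpace n A) (((ShortComplex.mk i p w).map (pb n A)).map (twFun n A d)).X₁ (q' + 1 + 1)) :=
      subsingleton_of_ge c (q' + 1 + 1) (by omega) (by omega) K d hd
    exact CohLin.subsingleton_X₃ hS'

theorem subsingleton_neg_one (hn : 1 ≤ n) (G : (Spec (CommRingCat.of A)).Modules) [G.IsQuasicoherent] :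
    Subsingleton (Coh.HH (CohB1.ProjSpace n A) (twF (((pb n A)).obj G) (-1)) 0) := by
  obtain ⟨I, K, hK, i, p, w, hS⟩ := exists_free_seq G
  have hS' := shortExact_map (n := n) hS (-1)
  have : Subsingleton (Coh.HH (CohB1.ProjSpace n A) (((ShortComplex.mk i p w).map (pb n A)).map (twFun n A (-1))).X₂ 0) :=
    hh_free I (-1) _ (subsingleton_H0 hn (by norm_num))
  have : Subsingleton (Coh.HH (CohB1.ProjSpace n A) (((ShortComplex.mk i p w).map (pb n A)).map (twFun n A (-1))).X₁ (0 + 1)) :=
    subsingleton_of_ge n 1 (by omega) le_rfl K (-1) (by omega)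
  exact CohLin.subsingleton_X₃ hS'

section Koszul

variable (F : ((CohB1.ProjSpace n A)).Modules)

/-- The Koszul complex of the coordinates with values in `F`. -/
abbrev kcx : Kosz.AugCx F := Kosz.kosz F (List.ofFn (mulX (n := n) (R := A)))

/-- `p`-th syzygy. -/
abbrev syz (p : ℕ) : ((CohB1.ProjSpace n A)).Modules := kernel ((kcx F).d p)

/-- `0 → Z (p+1) → Y (p+1) → Z p → 0` -/
def syzSeq (p : ℕ) : ShortComplex ((CohB1.ProjSpace n A)).Modules :=
  ShortComplex.mk (kernel.ι ((kcx F).d (p + 1))) (kernel.lift _ _ ((kcx F).dd p))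
    (by rw [← cancel_mono (kernel.ι ((kcx F).d p)), Category.assoc, kernel.lift_ι,
      kernel.condition, zero_comp])

theorem shortExact_syzSeq (p : ℕ) : (syzSeq F p).ShortExact := by
  have : Mono (syzSeq F p).f := inferInstanceAs (Mono (kernel.ι _))
  have : Epi (syzSeq F p).g := by
    refine Omega.Stalks.epi_of_stalk fun y t => ?_
    obtain ⟨u, hu⟩ := (Kosz.exactAt_kosz F _ y (exists_mulX_bijAt y)).2 p
      (PullStalk.Exact.stalkLin (kernel.ι ((kcx F).d p)) y t) (by
        rw [← Omega.Stalks.stalkLin_comp, kernel.condition, Omega.Stalks.stalkLin_zero])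
    refine ⟨u, Omega.Stalks.stalkLin_injective_of_mono (kernel.ι ((kcx F).d p)) y ?_⟩
    exact (Omega.Stalks.stalkLin_comp _ _ y u).symm.trans
      ((congrArg (fun t' => PullStalk.Exact.stalkLin t' y u)
        (kernel.lift_ι ((kcx F).d p) ((kcx F).d (p + 1)) ((kcx F).dd p))).trans hu)
  refine ShortComplex.ShortExact.mk' ?_ ‹_› ‹_›
  refine ShortComplex.exact_of_f_is_kernel _ (KernelFork.IsLimit.ofι' _ _ fun {B} g hg => ?_)
  refine ⟨kernel.lift _ g ?_, kernel.lift_ι _ _ _⟩
  have h : (g ≫ (syzSeq F p).g) ≫ kernel.ι ((kcx F).d p) = 0 := by rw [hg, zero_comp]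
  rwa [Category.assoc, show (syzSeq F p).g ≫ kernel.ι _ = _ from kernel.lift_ι _ _ _] at h

/-- Iterated twist by `-1`. -/
def twIter : ℕ → ((CohB1.ProjSpace n A)).Modules
  | 0 => F
  | k + 1 => (twFun n A (-1)).obj (twIter k)

theorem nonempty_twIter : ∀ (k : ℕ) (D : ℤ), Nonempty (twF (twIter F k) D ≅ twF F (D - k))
  | 0, D => ⟨eqToIso (by simp [twIter])⟩
  | k + 1, D => by
    obtain ⟨e⟩ := nonempty_twIter k (D - 1)
    exact ⟨twTw (twIter F k) (-1) D (D - 1) (by ring) ≪≫ e ≪≫ eqToIso (by push_cast; ring_nf)⟩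

theorem nonempty_retract : ∀ l : List (twFun n A (-1) ⟶ 𝟭 ((CohB1.ProjSpace n A)).Modules),
    Nonempty (Retract (twIter F l.length) (Kosz.term F (Kosz.kosz F l).Y l.length))
  | [] => ⟨Retract.refl _⟩
  | τ :: l => by
    obtain ⟨r⟩ := nonempty_retract l
    exact ⟨(r.map (twFun n A (-1))).trans ⟨biprod.inr, biprod.snd, biprod.inr_snd⟩⟩

/-- The inductive step. -/
theorem subsingleton_of_koszul {d : ℤ} {q : ℕ} (hqn : q < n) (hd : d + 1 + q < 0)
    (h : ∀ (a : ℕ), a < n → ∀ e : ℤ, d < e → (1 ≤ a ∨ e < 0) → Subsingleton (Coh.HH (CohB1.ProjSpace n A) (twF F e) a)) :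
    Subsingleton (Coh.HH (CohB1.ProjSpace n A) (twF F d) q) := by
  let D : ℤ := d + n + 1
  have hlen : (List.ofFn (mulX (n := n) (R := A))).length = n + 1 := List.length_ofFn
  have hterm : ∀ p, p ≤ n → ∀ a, a < n → (1 ≤ a ∨ D - p < 0) →
      Subsingleton (Coh.HH (CohB1.ProjSpace n A) (twF (Kosz.term F (kcx F).Y p) D) a) := by
    intro p hp a ha hcond
    have key := Kosz.kosz_term (F := F) (T := twFun n A (-1))
      (fun p M => ∀ e : ℤ, d < e - p → ∀ a, a < n → (1 ≤ a ∨ e - p < 0) →
        Subsingleton (Coh.HH (CohB1.ProjSpace n A) (twF M e) a))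
      (fun e he a ha hc => h a ha e (by simpa using he) (by simpa using hc))
      (fun p M hM e _ a _ _ => hh_of_isZero ((twFun n A e).map_isZero hM) a)
      (fun p B C hB hC e he a ha hc => by
        have : Subsingleton (Coh.HH (CohB1.ProjSpace n A) ((twFun n A e).obj B) a) := hB e he a ha hc
        have : Subsingleton (Coh.HH (CohB1.ProjSpace n A) ((twFun n A e).obj C) a) := hC e he a ha hc
        have := hh_biprod (G := (twFun n A e).obj B) (H := (twFun n A e).obj C) a
        have : PreservesBinaryBiproducts (twFun n A e) :=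
          preservesBinaryBiproducts_of_preservesBiproducts _
        exact Pn.subsingleton_of_iso ((twFun n A e).mapBiprod B C).symm a)
      (fun p B hB e he a ha hc => by
        have := hB (e - 1) (by push_cast at he ⊢; omega) a ha (by push_cast at hc ⊢; omega)
        exact Pn.subsingleton_of_iso (twTw B (-1) e (e - 1) (by ring)).symm a)
      (List.ofFn (mulX (n := n) (R := A))) p
    exact key D (by omega) a ha hcond
  -- the syzygies
  have hsyz : ∀ a, a ≤ q → ∀ p, p + q = n - 1 + a →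
      Subsingleton (Coh.HH (CohB1.ProjSpace n A) (twF (syz F p) D) a) := by
    intro a
    induction a with
    | zero =>
      intro _ p hp
      exact hh0_of_mono (kernel.ι ((kcx F).d p)) D
        (hterm (p + 1) (by omega) 0 (by omega) (Or.inr (by omega)))
    | succ a ih =>
      intro ha p hp
      obtain ⟨p', rfl⟩ : ∃ p', p = p' + 1 := ⟨p - 1, by omega⟩
      exact hh_X₁ (shortExact_syzSeq F p') D a
        (hterm (p' + 2) (by omega) (a + 1) (by omega) (Or.inl (Nat.le_add_left 1 a)))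
        (ih (by omega) p' (by omega))
  -- the last term
  have hlast : Subsingleton (Coh.HH (CohB1.ProjSpace n A) (twF ((kcx F).Y n) D) q) := by
    obtain ⟨m, hm⟩ : ∃ m, n = m + 1 := ⟨n - 1, by omega⟩
    have h1 : IsZero (syz F (m + 1)) := by
      have h2 := (shortExact_syzSeq F (m + 1)).epi_g
      have hz : IsZero ((kcx F).Y (m + 1 + 1)) := Kosz.isZero_kosz _ _ (by rw [hlen]; omega)
      exact @IsZero.of_epi _ _ _ _ _ (syzSeq F (m + 1)).g h2 hz
    have h3 := hh_X₂ (shortExact_syzSeq F m) D q (hh_of_isZero ((twFun n A D).map_isZero h1) q)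
      (hsyz q le_rfl m (by omega))
    exact (congrArg (fun i => Subsingleton (Coh.HH (CohB1.ProjSpace n A)
      (twF ((kcx F).Y i) D) q)) hm).mpr h3
  obtain ⟨r⟩ := nonempty_retract F (List.ofFn (mulX (n := n) (R := A)))
  rw [hlen] at r
  haveI h4 : Subsingleton (Coh.HH (CohB1.ProjSpace n A)
      ((twFun n A D).obj (Kosz.term F (kcx F).Y (n + 1))) q) := hlast
  have h5 := @hh_retract n A _ _ _ (r.map (twFun n A D)) q h4
  obtain ⟨e⟩ := nonempty_twIter F (n + 1) D
  haveI h6 : Subsingleton (Coh.HH (CohB1.ProjSpace n A) (twF (twIter F (n + 1)) D) q) := h5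
  exact @Pn.subsingleton_of_iso n A _ _ _
    (e ≪≫ eqToIso (congrArg (twF F) (by simp only [D]; push_cast; ring))) q h6

end Koszul

/-- `H^q(P^n_A, f^*G(d)) = 0` for `q ≠ n` and `d < 0`. -/
theorem subsingleton_neg (G : (Spec (CommRingCat.of A)).Modules) [G.IsQuasicoherent] (k q : ℕ)
    (hq : q ≠ n) : Subsingleton (Coh.HH (CohB1.ProjSpace n A) (twF (((pb n A)).obj G) (-((k : ℤ) + 1))) q) := by
  rcases lt_or_gt_of_ne hq with hq | hq
  swap
  · exact Pn.subsingleton_above _ (Pn.isQCoh_tw _ (QCoh.isQuasicoherent_pullback _ G) _) q hq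
  induction k using Nat.strong_induction_on generalizing q with
  | _ k ih =>
    by_cases hge : 1 ≤ q ∧ k + 1 ≤ n
    · exact subsingleton_of_ge n q (by omega) hge.1 G _ (by omega)
    by_cases h0 : q = 0 ∧ k = 0
    · obtain ⟨rfl, rfl⟩ := h0
      have := subsingleton_neg_one (n := n) (by omega) G
      simpa using this
    refine subsingleton_of_koszul _ hq (by omega) fun a ha e he hc => ?_
    by_cases hneg : e < 0
    · obtain ⟨j, rfl⟩ : ∃ j : ℕ, e = -((j : ℤ) + 1) := ⟨(-e - 1).toNat, by omega⟩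
      exact ih j (by omega) a ha.ne ha
    · exact subsingleton_of_ge n a (by omega) (hc.resolve_right hneg) G e (by omega)

end Groth.Agent.GrModLib.NegTwist
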