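import Groth.Agent.GrModLib.LocalLift

/-!
`M(n)~` is quasi-coherent, for gradings by additive subgroups.
-/

universe u

open DirectSum CategoryTheory AlgebraicGeometry TopologicalSpace Opposite

noncomputable section

namespace Groth.Agent.GrModLib

variable {A σ : Type u} [CommRing A] [SetLike σ A] [AddSubgroupClass σ A] {𝒜 : ℕ → σ} [GradedRing 𝒜]

/-- The value at a point of a function on an open of `Proj`. -/
abbrev funVal {U : (Proj 𝒜).Opens} (c : Γ(Proj 𝒜, U)) (x : ProjectiveSpectrum 𝒜) (hx : x ∈ U) :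
    GrTwist.Loc 𝒜 x :=
  ((show GrTwist.O (𝒜 := 𝒜) (op U) from c).1 ⟨x, hx⟩).val

theorem funVal_ext {U : (Proj 𝒜).Opens} {c d : Γ(Proj 𝒜, U)}
    (h : ∀ x hx, funVal c x hx = funVal d x hx) : c = d :=
  Subtype.ext (funext fun x ↦ HomogeneousLocalization.val_injective _ (h x.1 x.2))

theorem funVal_mul {U : (Proj 𝒜).Opens} (c d : Γ(Proj 𝒜, U)) (x : ProjectiveSpectrum 𝒜)
    (hx : x ∈ U) : funVal (c * d) x hx = funVal c x hx * funVal d x hx :=
  HomogeneousLocalization.val_mul _ _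

theorem funVal_one {U : (Proj 𝒜).Opens} (x : ProjectiveSpectrum 𝒜) (hx : x ∈ U) :
    funVal (1 : Γ(Proj 𝒜, U)) x hx = 1 :=
  HomogeneousLocalization.val_one

theorem funVal_pow {U : (Proj 𝒜).Opens} (c : Γ(Proj 𝒜, U)) (m : ℕ) (x : ProjectiveSpectrum 𝒜)
    (hx : x ∈ U) : funVal (c ^ m) x hx = funVal c x hx ^ m := by
  induction m with
  | zero => rw [pow_zero, pow_zero, funVal_one]
  | succ m ih => rw [pow_succ, pow_succ, funVal_mul, ih]

/-- The function `a / b`. -/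
def ratFun {U : (Proj 𝒜).Opens} {k : ℕ} {a b : A} (ha : a ∈ 𝒜 k) (hb : b ∈ 𝒜 k)
    (h : U ≤ Proj.basicOpen 𝒜 b) : Γ(Proj 𝒜, U) :=
  show GrTwist.O (𝒜 := 𝒜) (op U) from
  (⟨fun x => HomogeneousLocalization.mk ⟨k, ⟨a, ha⟩, ⟨b, hb⟩,
      (Proj.mem_basicOpen 𝒜 b x.1).mp (h x.2)⟩,
    fun x => ⟨U, x.2, 𝟙 _, k, ⟨a, ha⟩, ⟨b, hb⟩,
      fun y => (Proj.mem_basicOpen 𝒜 b y.1).mp (h y.2), fun _ => rfl⟩⟩ :
    ProjectiveSpectrum.StructureSheaf.sectionsSubring (op U))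

theorem funVal_ratFun {U : (Proj 𝒜).Opens} {k : ℕ} {a b : A} (ha : a ∈ 𝒜 k) (hb : b ∈ 𝒜 k)
    (h : U ≤ Proj.basicOpen 𝒜 b) (x : ProjectiveSpectrum 𝒜) (hx : x ∈ U) :
    funVal (ratFun ha hb h) x hx =
      Localization.mk a ⟨b, (Proj.mem_basicOpen 𝒜 b x).mp (h hx)⟩ :=
  have := x.isPrime
  HomogeneousLocalization.val_mk _

/-- Where a fraction is invertible. -/
theorem basicOpen_ratFun {U : (Proj 𝒜).Opens} {k : ℕ} {a b : A} (ha : a ∈ 𝒜 k) (hb : b ∈ 𝒜 k)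
    (h : U ≤ Proj.basicOpen 𝒜 b) :
    (Proj 𝒜).basicOpen (ratFun ha hb h) = U ⊓ Proj.basicOpen 𝒜 a := by
  refine le_antisymm ?_ ?_
  · intro x hx
    refine ⟨(Proj 𝒜).basicOpen_le _ hx, ?_⟩
    have hu0 : IsUnit (ratFun ha hb (((Proj 𝒜).basicOpen_le (ratFun ha hb h)).trans h)) :=
      RingedSpace.isUnit_res_basicOpen (Proj 𝒜).toRingedSpace (ratFun ha hb h)
    obtain ⟨c, hc⟩ := isUnit_iff_exists_inv.mp hu0
    have e := (funVal_mul _ _ (x : ProjectiveSpectrum 𝒜) hx).symm.trans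
      ((congrArg (fun s => funVal s (x : ProjectiveSpectrum 𝒜) hx) hc).trans (funVal_one _ hx))
    have e' := (congrArg (· * funVal c (x : ProjectiveSpectrum 𝒜) hx)
      (funVal_ratFun ha hb (((Proj 𝒜).basicOpen_le _).trans h) (x : ProjectiveSpectrum 𝒜) hx)).symm.trans e
    refine (Proj.mem_basicOpen 𝒜 a x).mpr fun hax => ?_
    have := (show ProjectiveSpectrum 𝒜 from x).isPrime
    have hu := IsUnit.of_mul_eq_one _ e'
    rw [Localization.mk_eq_mk'] at hu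
    exact (IsLocalization.AtPrime.isUnit_mk'_iff _
      (show ProjectiveSpectrum 𝒜 from x).asHomogeneousIdeal.toIdeal _ _).mp hu hax
  · have hu : IsUnit ((Proj 𝒜).presheaf.map
        (homOfLE (inf_le_left : U ⊓ Proj.basicOpen 𝒜 a ≤ U)).op (ratFun ha hb h)) := by
      refine IsUnit.of_mul_eq_one (ratFun hb ha inf_le_right) (funVal_ext fun x hx ↦ ?_)
      rw [funVal_mul, funVal_one, funVal_ratFun]
      refine (congrArg (· * _) (funVal_ratFun ha hb (inf_le_left.trans h) x hx)).trans ?_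
      rw [Localization.mk_mul]
      exact (congrArg (fun s ↦ Localization.mk (a * b) s) (Subtype.ext (mul_comm b a))).trans
        (Localization.mk_self (⟨a * b, fun h' ↦ (x.isPrime.mem_or_mem h').elim
          ((Proj.mem_basicOpen 𝒜 a x).mp hx.2) ((Proj.mem_basicOpen 𝒜 b x).mp (h hx.1))⟩ :
            x.asHomogeneousIdeal.toIdeal.primeCompl))
    have := (Proj 𝒜).basicOpen_of_isUnit hu
    rw [Scheme.basicOpen_res] at this
    exact this.ge.trans inf_le_right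

lemma pow_mem_deg' {d : ℕ} {f : A} (hf : f ∈ 𝒜 d) (k : ℕ) : f ^ k ∈ 𝒜 (k * d) := by
  simpa using SetLike.pow_mem_graded k hf

/-- Functions on `D₊(f)` are fractions `a / f ^ k`. -/
theorem exists_ratFun {d : ℕ} {f : A} (hf : f ∈ 𝒜 d) (hd : 0 < d)
    (c : Γ(Proj 𝒜, Proj.basicOpen 𝒜 f)) :
    ∃ (k : ℕ) (a : A) (ha : a ∈ 𝒜 (k * d)),
      c = ratFun ha (pow_mem_deg' hf k) (fun _ hx ↦ pow_nin hx k) := by
  obtain ⟨z, rfl⟩ :=
    (ConcreteCategory.bijective_of_isIso (Proj.basicOpenIsoAway 𝒜 f hf hd).hom).2 c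
  obtain ⟨k, a, ha, rfl⟩ := HomogeneousLocalization.Away.mk_surjective 𝒜 hf z
  refine ⟨k, a, by simpa using ha, funVal_ext fun x hx ↦ ?_⟩
  refine Eq.trans ?_ (funVal_ratFun _ _ _ x hx).symm
  refine (ProjectiveSpectrum.Proj.awayToSection_apply 𝒜 f _ ⟨x, hx⟩).trans ?_
  rw [HomogeneousLocalization.Away.val_mk, Localization.mk_eq_mk', IsLocalization.map_mk',
    Localization.mk_eq_mk']
  rfl

variable {M τ : Type u} [AddCommGroup M] [Module A M] [SetLike τ M] [AddSubgroupClass τ M]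
  {ℳ : ℕ → τ} [DirectSum.Decomposition ℳ] [SetLike.GradedSMul 𝒜 ℳ]

/-- The localizing property of `M(n)~` on `D₊(f)`. -/
theorem isLocalizingAt_tilde {d : ℕ} {f : A} (hf : f ∈ 𝒜 d) (hd : 0 < d) (n : ℤ)
    (c : Γ(Proj 𝒜, Proj.basicOpen 𝒜 f)) :
    QCoh.IsLocalizingAt (GrMod.tilde 𝒜 ℳ n) c := by
  obtain ⟨k, a, ha, rfl⟩ := exists_ratFun hf hd c
  set c := ratFun ha (pow_mem_deg' hf k)
    (fun _ hx ↦ pow_nin hx k : Proj.basicOpen 𝒜 f ≤ Proj.basicOpen 𝒜 (f ^ k))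
  have hg : a * f ∈ 𝒜 (k * d + d) := SetLike.mul_mem_graded ha hf
  have hbasic : ∀ x : ProjectiveSpectrum 𝒜,
      x ∈ (Proj 𝒜).basicOpen c ↔ a * f ∉ x.asHomogeneousIdeal := fun x ↦ by
    rw [basicOpen_ratFun]
    exact ⟨fun h h' ↦ (x.isPrime.mem_or_mem h').elim h.2 h.1,
      fun h ↦ ⟨fun h' ↦ h (Ideal.mul_mem_left _ _ h'), fun h' ↦ h (Ideal.mul_mem_right _ _ h')⟩⟩
  have hpow : ∀ (N : ℕ) (x : ProjectiveSpectrum 𝒜) (hx : x ∈ Proj.basicOpen 𝒜 f),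
      funVal (c ^ N) x hx =
        Localization.mk (a ^ N) ⟨(f ^ k) ^ N, pow_nin (pow_nin hx k) N⟩ := fun N x hx ↦ by
    rw [funVal_pow, funVal_ratFun, Localization.mk_pow]
    rfl
  refine ⟨fun s ↦ ?_, fun t ht ↦ ?_⟩
  · obtain ⟨e, i, m, hm, hi, hval⟩ := exists_frac (ℳ := ℳ) hg (by omega) n
      (U := (Proj 𝒜).basicOpen c) (fun x hx ↦ (hbasic x).mpr hx)
      (show GrMod.sect 𝒜 ℳ n (op ((Proj 𝒜).basicOpen c)) from s)
    let t : GrMod.sect 𝒜 ℳ n (op (Proj.basicOpen 𝒜 f)) :=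
      fracSec hm (pow_mem_deg' hf (k * e + e)) n (by push_cast at hi ⊢; rw [hi]; ring)
        (fun x ↦ pow_nin x.2 _)
    refine ⟨e, t, sect_ext fun x hx ↦ ?_⟩
    refine Eq.trans ?_ (valAt_smul _ _ x hx).symm
    have hx' := (hbasic x).mp hx
    have hxf : x ∈ Proj.basicOpen 𝒜 f := (Proj 𝒜).basicOpen_le c hx
    have h1 : funVal ((QCoh.rres ((Proj 𝒜).basicOpen_le c) c) ^ e) x hx =
        funVal (c ^ e) x hxf := by
      rw [← map_pow]
      rfl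
    refine Eq.trans ?_ (congrArg₂ (· • ·) (h1.trans (hpow e x hxf)).symm (hval x hx').symm)
    change mk x m (f ^ (k * e + e)) _ = _
    refine Eq.trans ?_ (LocalizedModule.mk_smul_mk _ _ _ _).symm
    refine mk_eq_mk_iff.mpr ⟨1, GrMod.one_nin x, ?_⟩
    rw [one_smul, sub_eq_zero, ← mul_smul]
    congr 1
    simp only [← pow_mul, mul_pow, pow_add]
    ring
  · obtain ⟨e, i, m, hm, hi, hval⟩ := exists_frac (ℳ := ℳ) hf hd n
      (U := Proj.basicOpen 𝒜 f) (fun _ hx ↦ hx)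
      (show GrMod.sect 𝒜 ℳ n (op (Proj.basicOpen 𝒜 f)) from t)
    obtain ⟨N, hN⟩ := exists_pow_smul_eq_zero (ℳ := ℳ) hm hg (by omega) fun x hx ↦ by
      refine (mk_eq_zero_iff (s := f ^ e)
        (hs := pow_nin (fun h ↦ hx (Ideal.mul_mem_left _ _ h)) e)).mp ?_
      refine (hval x (fun h ↦ hx (Ideal.mul_mem_left _ _ h))).symm.trans ?_
      exact congrArg (fun s : GrMod.sect 𝒜 ℳ n (op ((Proj 𝒜).basicOpen c)) ↦
        valAt s x ((hbasic x).mpr hx)) ht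
    refine ⟨N, sect_ext fun x hx ↦ ?_⟩
    refine (valAt_smul _ _ x hx).trans ?_
    refine (congrArg₂ (· • ·) (hpow N x hx) (hval x hx)).trans ?_
    refine (LocalizedModule.mk_smul_mk _ _ _ _).trans ?_
    refine mk_eq_zero_iff.mpr ⟨f ^ N, pow_nin hx N, ?_⟩
    rwa [← mul_smul, mul_comm, ← mul_pow]

/-- `M(n)~` is quasi-coherent. -/
theorem isQuasicoherent_tilde (n : ℤ) : (GrMod.tilde 𝒜 ℳ n).IsQuasicoherent := by
  refine QCoh.isQuasicoherent_of_forall_exists_isLocalizingAt _ fun x ↦ ?_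
  obtain ⟨d, f, hd, hf, hfx⟩ := exists_pos_nin (show ProjectiveSpectrum 𝒜 from x)
  exact ⟨_, Proj.isAffineOpen_basicOpen 𝒜 f hf hd, hfx, isLocalizingAt_tilde hf hd n⟩

end Groth.Agent.GrModLib
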