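import Groth.Agent.GrModLib.LocalLift
import Groth.Agent.GrModLib.QC
import Groth.Agent.QCoh.FiniteType
import Mathlib.RingTheory.Finiteness.Ideal

/-!
Modules finitely generated in high degrees: finitely many sections generate `M~`, and a vanishing
`M~` kills the high degrees.
-/

universe u

open DirectSum CategoryTheory AlgebraicGeometry TopologicalSpace Opposite

noncomputable section

namespace Groth.Agent.GrModLib

variable {A σ : Type u} [CommRing A] [SetLike σ A] [AddSubgroupClass σ A] {𝒜 : ℕ → σ} [GradedRing 𝒜]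

/-- When degree zero and one generate, an element of degree `l` is in the `l`-th power of any ideal
containing the degree one part. -/
theorem mem_pow_of_closure (hgen : Subring.closure ((𝒜 0 : Set A) ∪ (𝒜 1 : Set A)) = ⊤)
    {J : Ideal A} (hJ : ∀ a ∈ 𝒜 1, a ∈ J) {l : ℕ} {a : A} (ha : a ∈ 𝒜 l) : a ∈ J ^ l := by
  classical
  suffices H : ∀ b : A, ∀ k : ℕ, (decompose 𝒜 b k : A) ∈ J ^ k by
    simpa [decompose_of_mem_same 𝒜 ha] using H a l
  intro b
  induction (hgen ▸ Subring.mem_top b : b ∈ Subring.closure ((𝒜 0 : Set A) ∪ (𝒜 1 : Set A)))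
    using Subring.closure_induction with
  | mem b hb =>
    intro k
    rcases hb with hb | hb
    · rcases Nat.eq_zero_or_pos k with rfl | hk
      · simp
      · rw [decompose_of_mem_ne 𝒜 hb (by omega)]; exact zero_mem _
    · by_cases hk : k = 1
      · subst hk
        rw [decompose_of_mem_same 𝒜 hb, pow_one]
        exact hJ b hb
      · rw [decompose_of_mem_ne 𝒜 hb (Ne.symm hk)]; exact zero_mem _
  | zero => intro k; simp
  | one =>
    intro k
    rcases Nat.eq_zero_or_pos k with rfl | hk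
    · simp
    · rw [decompose_of_mem_ne 𝒜 SetLike.GradedOne.one_mem (by omega)]; exact zero_mem _
  | add b c _ _ hb hc => intro k; rw [decompose_add, DirectSum.add_apply, AddMemClass.coe_add]; exact add_mem (hb k) (hc k)
  | neg b _ hb =>
    intro k
    rw [decompose_neg]
    exact neg_mem (hb k)
  | mul b c _ _ hb hc =>
    intro k
    rw [decompose_mul, DirectSum.coe_mul_apply]
    refine Ideal.sum_mem _ fun x hx ↦ ?_
    have hxk : x.1 + x.2 = k := (Finset.mem_filter.mp hx).2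
    rw [← hxk, pow_add]
    exact Ideal.mul_mem_mul (hb _) (hc _)

variable {M τ : Type u} [AddCommGroup M] [Module A M] [SetLike τ M] [AddSubgroupClass τ M]
  {ℳ : ℕ → τ} [DirectSum.Decomposition ℳ] [SetLike.GradedSMul 𝒜 ℳ]

omit [AddSubgroupClass τ M] [DirectSum.Decomposition ℳ] [SetLike.GradedSMul 𝒜 ℳ] in
/-- Homogeneous generators of the high degrees. -/
theorem exists_gens_of_TF {N : ℕ}
    (h : (Submodule.span A (⋃ i ∈ Set.Ici N, (ℳ i : Set M))).FG) :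
    ∃ (T : Finset M) (deg : T → ℕ), (∀ t : T, (t : M) ∈ ℳ (deg t)) ∧
      ∀ i, N ≤ i → ∀ m ∈ ℳ i, m ∈ Submodule.span A (T : Set M) := by
  obtain ⟨T, hTS, hT⟩ := Submodule.fg_span_iff_fg_span_finset_subset _ |>.mp h
  choose k _ hk using fun t : T ↦ Set.mem_iUnion₂.mp (hTS t.2)
  exact ⟨T, k, hk, fun i hi m hm ↦ hT ▸ Submodule.subset_span (Set.mem_iUnion₂.mpr ⟨i, hi, hm⟩)⟩

/-- For `f` of degree one the sections of `M~` over `D₊(f)` form a finite module. -/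
theorem finite_sections_of_TF {f : A} (hf : f ∈ 𝒜 1) {N : ℕ}
    (h : (Submodule.span A (⋃ i ∈ Set.Ici N, (ℳ i : Set M))).FG) :
    Module.Finite Γ(Proj 𝒜, Proj.basicOpen 𝒜 f) Γ(GrMod.tilde 𝒜 ℳ 0, Proj.basicOpen 𝒜 f) := by
  classical
  obtain ⟨T, k, hk, hT⟩ := exists_gens_of_TF h
  have hpw : ∀ e : ℕ, f ^ e ∈ 𝒜 e := fun e ↦ by simpa using SetLike.pow_mem_graded e hf
  let s : T → Γ(GrMod.tilde 𝒜 ℳ 0, Proj.basicOpen 𝒜 f) := fun t ↦
    fracSec (hk t) (hpw (k t)) 0 (by simp) fun x ↦ pow_nin x.2 _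
  refine ⟨Submodule.fg_def.mpr ⟨Set.range s, Set.finite_range s,
    eq_top_iff.mpr fun (t : Γ(GrMod.tilde 𝒜 ℳ 0, Proj.basicOpen 𝒜 f)) _ ↦ ?_⟩⟩
  obtain ⟨e, i, m, hm, hi, hval⟩ := exists_frac (ℳ := ℳ) hf one_pos 0 (U := Proj.basicOpen 𝒜 f)
    (fun _ hx ↦ hx) (t : GrMod.sect 𝒜 ℳ 0 (op (Proj.basicOpen 𝒜 f)))
  obtain rfl : i = e := by omega
  have hm' : f ^ N • m ∈ ℳ (N + i) := SetLike.GradedSMul.smul_mem (hpw N) hm
  obtain ⟨b, hb⟩ := Submodule.mem_span_finset'.mp (hT (N + i) (Nat.le_add_right N i) _ hm')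
  let c : T → Γ(Proj 𝒜, Proj.basicOpen 𝒜 f) := fun j ↦
    if k j ≤ N + i then ratFun (SetLike.coe_mem (decompose 𝒜 (b j) (N + i - k j))) (hpw (N + i - k j))
      (fun _ hx ↦ pow_nin hx _) else 0
  suffices hsum : t = ∑ j, c j • s j from
    hsum ▸ Submodule.sum_mem _ fun j _ ↦ Submodule.smul_mem _ _ (Submodule.subset_span ⟨j, rfl⟩)
  refine sect_ext fun x hx ↦ (hval x hx).trans ?_
  let v : Γ(GrMod.tilde 𝒜 ℳ 0, Proj.basicOpen 𝒜 f) →+ GrMod.LocMod 𝒜 (M := M) x :=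
    AddMonoidHom.mk' (fun q ↦ valAt (q : GrMod.sect 𝒜 ℳ 0 (op (Proj.basicOpen 𝒜 f))) x hx)
      fun _ _ ↦ rfl
  refine Eq.trans ?_ (map_sum v _ _).symm
  have hs : f ^ (N + i) ∉ x.asHomogeneousIdeal := pow_nin hx _
  let w : M →+ GrMod.LocMod 𝒜 (M := M) x :=
    ((LocalizedModule.mk 1 (⟨f ^ (N + i), hs⟩ : x.asHomogeneousIdeal.toIdeal.primeCompl) :
      GrTwist.Loc 𝒜 x) • AddMonoidHom.id (GrMod.LocMod 𝒜 (M := M) x)).comp
      (LocalizedModule.mkLinearMap x.asHomogeneousIdeal.toIdeal.primeCompl M).toAddMonoidHom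
  have hw : ∀ z : M, w z = mk x z (f ^ (N + i)) hs := fun z ↦ by
    refine (LocalizedModule.mk_smul_mk _ _ _ _).trans ?_
    exact mk_eq_mk_iff.mpr ⟨1, GrMod.one_nin x, by simp⟩
  have e1 : mk x m (f ^ i) (pow_nin hx i) = w (f ^ N • m) := by
    rw [hw]
    refine mk_eq_mk_iff.mpr ⟨1, GrMod.one_nin x, ?_⟩
    rw [one_smul, sub_eq_zero, ← mul_smul, ← pow_add, add_comm]
  rw [e1, ← cpt_same hm', ← hb, map_sum, map_sum]
  refine Finset.sum_congr rfl fun j _ ↦ ?_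
  rw [cpt_smul_right (𝒜 := 𝒜) (hk j)]
  refine Eq.trans ?_ (valAt_smul _ _ x hx).symm
  by_cases hle : k j ≤ N + i
  · simp only [c, if_pos hle]
    refine Eq.trans ?_ (congrArg₂ (· • ·) (funVal_ratFun _ _ _ x hx).symm rfl)
    rw [hw]
    refine Eq.trans ?_ (LocalizedModule.mk_smul_mk _ _ _ _).symm
    refine mk_eq_mk_iff.mpr ⟨1, GrMod.one_nin x, ?_⟩
    rw [one_smul, sub_eq_zero, ← pow_add, Nat.sub_add_cancel hle]
  · simp only [c, if_neg hle, map_zero]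
    refine Eq.trans (zero_smul (GrTwist.Loc 𝒜 x) _).symm (congrArg (· • _) ?_)
    exact HomogeneousLocalization.val_zero.symm

/-- If `M~` has no nonzero sections over the `D₊(f)`, `f` of degree one, then `M` vanishes in high
degrees. -/
theorem exists_TN_of_sections_zero
    (hgen : Subring.closure ((𝒜 0 : Set A) ∪ (𝒜 1 : Set A)) = ⊤)
    {T₁ : Finset A} (hT₁ : ∀ t ∈ T₁, t ∈ 𝒜 1) (hspan : ∀ a ∈ 𝒜 1, a ∈ Ideal.span (T₁ : Set A))
    {N : ℕ} (h : (Submodule.span A (⋃ i ∈ Set.Ici N, (ℳ i : Set M))).FG)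
    (h0 : ∀ f ∈ 𝒜 1, ∀ s : GrMod.sect 𝒜 ℳ 0 (op (dPlus 𝒜 f)), s = 0) :
    ∃ K, ∀ k, K ≤ k → ∀ m ∈ ℳ k, m = 0 := by
  classical
  obtain ⟨T, k, hk, hT⟩ := exists_gens_of_TF h
  let J : Ideal A := Ideal.span (T₁ : Set A)
  have hrad : ∀ t : T, J ≤ (annOf (A := A) (t : M)).radical := fun t ↦ Ideal.span_le.mpr fun g hg ↦ by
    have hg1 : g ∈ 𝒜 1 := hT₁ g hg
    have hsec := h0 g hg1 (fracSec (hk t) (show g ^ k t ∈ 𝒜 (k t) by
      simpa using SetLike.pow_mem_graded (k t) hg1) 0 (by simp) fun x ↦ pow_nin x.2 _)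
    obtain ⟨a, ha⟩ := exists_pow_smul_eq_zero (ℳ := ℳ) (hk t) hg1 one_pos fun x hx ↦
      (mk_eq_zero_iff (s := g ^ k t) (hs := pow_nin hx _)).mp
        (congrArg (fun s : GrMod.sect 𝒜 ℳ 0 (op (dPlus 𝒜 g)) ↦ valAt s x hx) hsec)
    exact ⟨a, mem_annOf.mpr ha⟩
  have hfg : J.FG := ⟨T₁, rfl⟩
  choose L hL using fun t : T ↦ Ideal.exists_pow_le_of_le_radical_of_fg (hrad t) hfg
  let B := Finset.univ.sup fun t : T ↦ L t + k t
  refine ⟨max N (B + 1), fun i hi m hm ↦ ?_⟩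
  obtain ⟨b, hb⟩ := Submodule.mem_span_finset'.mp (hT i (le_of_max_le_left hi) m hm)
  rw [← cpt_same hm, ← hb, map_sum]
  refine Finset.sum_eq_zero fun t _ ↦ ?_
  rw [cpt_smul_right (𝒜 := 𝒜) (hk t)]
  split_ifs with hle
  · have hLt : L t + k t ≤ B := Finset.le_sup (f := fun t : T ↦ L t + k t) (Finset.mem_univ t)
    refine mem_annOf.mp (hL t (Ideal.pow_le_pow_right (show L t ≤ i - k t by omega)
      (mem_pow_of_closure hgen hspan (SetLike.coe_mem (decompose 𝒜 (b t) (i - k t))))))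
  · rfl

end Groth.Agent.GrModLib
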