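import Groth.Agent.AmpCrit.NegVan
import Groth.Agent.AmpleLib.GenOn
import Groth.Agent.AmpleLib.CompLemma
import Groth.Agent.InjMod.Dual
import Groth.Agent.ChgRings.Basic
import Groth.Agent.ProjTwist.Tensor
import Groth.Agent.TwistFlat.Main

/-!
Quasi-coherent modules are quotients of twists of modules pulled back from the base.
-/

set_option linter.style.haveILetI false

universe u

open CategoryTheory CategoryTheory.Limits AlgebraicGeometry TopologicalSpace Opposite
open Groth.Agent.QCoh Groth.Agent.Props.GenLocus Groth.Agent.Props.GenTensor Groth.Agent.Props.GenProd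
open Groth.Agent.AmpleLib Groth.Agent.AmpCrit.NegVan

noncomputable section

namespace Groth.Agent.GrModLib

variable {X Y : Scheme.{u}}

/-- Tensoring with `P` and then with an inverse of it. -/
def contrIso {P D : X.Modules} (e : CohB1.tensorMod P D ≅ Coh.structureModule X) :
    T P ⋙ T D ≅ 𝟭 X.Modules :=
  ChgRings.tensRComp D P ≪≫ (ModSite.tensorBi X.sheaf).flip.mapIso e ≪≫
    KFlat.ProjFormula.unitRight X

/-- Twisting back the counit detects morphisms on the direct images of the twists. -/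
theorem push_map_eq_of_comp_eq (f : X ⟶ Y) {S S' : X.Modules ⥤ X.Modules} (ν : S' ⋙ S ≅ 𝟭 X.Modules)
    (ν' : S ⋙ S' ≅ 𝟭 X.Modules) {F H : X.Modules} (ψ₁ ψ₂ : F ⟶ H)
    (h : (S.map ((Scheme.Modules.pullbackPushforwardAdjunction f).counit.app (S'.obj F)) ≫
        ν.hom.app F) ≫ ψ₁ =
      (S.map ((Scheme.Modules.pullbackPushforwardAdjunction f).counit.app (S'.obj F)) ≫
        ν.hom.app F) ≫ ψ₂) :
    (Scheme.Modules.pushforward f).map (S'.map ψ₁) = (Scheme.Modules.pushforward f).map (S'.map ψ₂) := by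
  let c := (Scheme.Modules.pullbackPushforwardAdjunction f).counit.app (S'.obj F)
  have hnat : ∀ ψ : F ⟶ H, (S.map c ≫ ν.hom.app F) ≫ ψ = S.map (c ≫ S'.map ψ) ≫ ν.hom.app H := by
    intro ψ
    rw [Functor.map_comp, Category.assoc, Category.assoc]
    exact congrArg (S.map c ≫ ·) (ν.hom.naturality ψ).symm
  rw [hnat, hnat, cancel_mono] at h
  have h3 : ∀ {A B : X.Modules} (t : A ⟶ B),
      ν'.inv.app A ≫ S'.map (S.map t) ≫ ν'.hom.app B = t := fun t =>
    (congrArg (ν'.inv.app _ ≫ ·) (ν'.hom.naturality t)).trans (ν'.inv_hom_id_app_assoc _ _)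
  have h1 : c ≫ S'.map ψ₁ = c ≫ S'.map ψ₂ := by
    have h2 := congrArg (fun t => ν'.inv.app _ ≫ S'.map t ≫ ν'.hom.app _) h
    simpa only [h3] using h2
  rw [map_pushforward_eq, map_pushforward_eq, h1]

/-- A quasi-coherent module is a quotient of twists of pullbacks of its direct images. -/
theorem exists_epi_pullback_push (f : X ⟶ Y) [QuasiCompact f] [QuasiSeparated f] {L : X.Modules}
    (hL : PicF.IsInvertible L) (hamp : RelAmple.IsRelAmple f L) (F : X.Modules) (hF : Coh.IsQCoh F)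
    (N : ℕ → X.Modules)
    (e : ∀ n, CohB1.tensorMod (CohB1.tensorPow L n) (N n) ≅ Coh.structureModule X) :
    ∃ p : (∐ fun j : ULift.{u} {n : ℕ // 0 < n} =>
      CohB1.tensorMod ((Scheme.Modules.pullback f).obj ((Coh.push f).obj
        (CohB1.tensorMod F (CohB1.tensorPow L j.down.1)))) (N j.down.1)) ⟶ F, Epi p := by
  haveI : F.IsQuasicoherent := hF
  let adj := Scheme.Modules.pullbackPushforwardAdjunction f
  let ν := fun n => contrIso (e n)
  let q : ∀ j : ULift.{u} {n : ℕ // 0 < n},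
      CohB1.tensorMod ((Scheme.Modules.pullback f).obj ((Coh.push f).obj
        (CohB1.tensorMod F (CohB1.tensorPow L j.down.1)))) (N j.down.1) ⟶ F := fun j =>
    (T (N j.down.1)).map (adj.counit.app ((T (CohB1.tensorPow L j.down.1)).obj F)) ≫
      (ν j.down.1).hom.app F
  let p : (∐ fun j : ULift.{u} {n : ℕ // 0 < n} =>
      CohB1.tensorMod ((Scheme.Modules.pullback f).obj ((Coh.push f).obj
        (CohB1.tensorMod F (CohB1.tensorPow L j.down.1)))) (N j.down.1)) ⟶ F := Sigma.desc q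
  refine ⟨p, ⟨fun {H : X.Modules} (ψ₁ ψ₂ : F ⟶ H) hψ => ?_⟩⟩
  -- the twisted maps agree on sections over preimages of opens of the base
  have key : ∀ (n : ℕ), 0 < n → ∀ (V : Y.Opens)
      (ρ : Γ((T (CohB1.tensorPow L n)).obj F, f ⁻¹ᵁ V)),
      ((T (CohB1.tensorPow L n)).map ψ₁).app (f ⁻¹ᵁ V) ρ =
        ((T (CohB1.tensorPow L n)).map ψ₂).app (f ⁻¹ᵁ V) ρ := by
    intro n hn V ρ
    have hq : q ⟨⟨n, hn⟩⟩ ≫ ψ₁ = q ⟨⟨n, hn⟩⟩ ≫ ψ₂ := by
      have h0 := congrArg (fun t => Sigma.ι _ (⟨⟨n, hn⟩⟩ : ULift.{u} {n : ℕ // 0 < n}) ≫ t) hψ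
      dsimp only at h0
      rwa [Sigma.ι_desc_assoc, Sigma.ι_desc_assoc] at h0
    have h4 := push_map_eq_of_comp_eq f (S := T (N n)) (S' := T (CohB1.tensorPow L n)) (ν n)
      (contrIso (P := N n) (D := CohB1.tensorPow L n) (ProjTwist.tensComm _ _ ≪≫ e n)) ψ₁ ψ₂ hq
    exact congr(Scheme.Modules.Hom.app $h4 V ρ)
  obtain ⟨-, -, ha⟩ := isRelAmple_iff.mp hamp
  refine Scheme.Modules.hom_ext _ _ fun W => ?_
  ext m
  have hloc : ∀ x : W, ∃ (P : X.Opens) (hP : P ≤ W), x.1 ∈ P ∧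
      ψ₁.app P (res F hP m) = ψ₂.app P (res F hP m) := by
    intro x
    obtain ⟨V, hV, hxV, -⟩ := exists_isAffineOpen_mem_and_subset (X := Y) (x := f x.1) (U := ⊤) trivial
    obtain ⟨r, k, s, U, hk, hU, hUO, hUa, he, hcov⟩ := exists_common_cover_on hL (ha ⟨V, hV⟩)
    choose g hg using he
    obtain ⟨i, hi⟩ := Opens.mem_iSup.mp (hcov (show x.1 ∈ f ⁻¹ᵁ V from hxV))
    obtain ⟨a, ha', hxa⟩ := (hUa i).exists_basicOpen_le (V := W) ⟨x.1, x.2⟩ hi
    refine ⟨X.basicOpen a, ha', hxa, ?_⟩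
    -- agreement over `U i`
    have hUi : ∀ σ : Γ(F, U i), ψ₁.app (U i) σ = ψ₂.app (U i) σ := by
      intro σ
      obtain ⟨M₀, hM₀⟩ := exists_twist_on hF hL (ha ⟨V, hV⟩).1
        (f.isQuasiSeparated_preimage hV.isQuasiSeparated) (s i) (hU i) (hUO i) (hg i) σ 0
      let M := M₀ + 1
      obtain ⟨ρ, hρ⟩ := hM₀ M (Nat.le_succ _)
      have hn : 0 < 0 + k * M := by
        rw [Nat.zero_add]
        exact Nat.mul_pos hk (Nat.succ_pos M₀)
      have h1 := congrArg (res _ (hUO i)) (key _ hn V ρ)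
      rw [← app_res, ← app_res] at h1
      have h2 : ∀ ψ : F ⟶ H, ((T (CohB1.tensorPow L (0 + k * M))).map ψ).app (U i)
          (res _ (hUO i) ρ) =
          tmul (co k (s i) (hUO i) (hg i) ^ M • ψ.app (U i) σ) (pw L (g i) (0 + k * M)) := by
        intro ψ
        refine (congrArg _ hρ).trans ((map_tmul _ ψ _ _).trans ?_)
        rw [Scheme.Modules.Hom.app_smul]
      rw [h2, h2] at h1
      have hinj := (tmul_gen_bijective (isGen_pw (hg i) (0 + k * M)) H (le_refl (U i))).1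
      have h3 : co k (s i) (hUO i) (hg i) ^ M • ψ₁.app (U i) σ =
          co k (s i) (hUO i) (hg i) ^ M • ψ₂.app (U i) σ := by
        refine hinj ?_
        show tmul _ (res _ le_rfl _) = tmul _ (res _ le_rfl _)
        rw [res_self]
        exact h1
      have hcu : IsUnit (co k (s i) (hUO i) (hg i)) := by
        have e1 : X.basicOpen (co k (s i) (hUO i) (hg i)) = U i := by
          rw [← locus_inf_eq (hUO i) (hg i), ← hU, inf_idem]
        have key' : ∀ (O : X.Opens) (hO : O ≤ U i), O = U i →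
            IsUnit (rres hO (co k (s i) (hUO i) (hg i))) → IsUnit (co k (s i) (hUO i) (hg i)) := by
          intro O hO hOe h
          subst hOe
          rwa [rres_self] at h
        exact key' _ (X.basicOpen_le _) e1 (RingedSpace.isUnit_res_basicOpen X.toRingedSpace _)
      exact (hcu.pow M).smul_left_cancel.mp h3
    obtain ⟨n, t, ht⟩ := (isLocalizingAt F (hUa i) a).surj (res F ha' m)
    have hu : IsUnit (rres (X.basicOpen_le a) a ^ n) :=
      (RingedSpace.isUnit_res_basicOpen _ a).pow n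
    refine hu.smul_left_cancel.mp ?_
    rw [← Scheme.Modules.Hom.app_smul, ← Scheme.Modules.Hom.app_smul, ← ht, app_res, app_res, hUi t]
  choose P hP hxP hPe using hloc
  refine eq_of_locally_eq H (U := P) hP
    (fun x hx => Opens.mem_iSup.mpr ⟨⟨x, hx⟩, hxP _⟩) _ _ fun x => ?_
  rw [← app_res, ← app_res]
  exact hPe x

/-- Powers of twists on `P^n_Y`. -/
theorem nonempty_tensorPow_twistOver (n : ℕ) (Y : Scheme.{u}) (d : ℤ) (k : ℕ) :
    Nonempty (CohB1.tensorPow (Twist.twistOver n Y d) k ≅ Twist.twistOver n Y ((k : ℤ) * d)) := by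
  have h : ∀ m : ℕ, Nonempty (CohB1.tensorPow (Twist.twistProjSpace n (ULift.{u} ℤ) d) m ≅
      Twist.twistProjSpace n (ULift.{u} ℤ) ((m : ℤ) * d)) := by
    intro m
    induction m with
    | zero =>
      exact ⟨ProjTwist.twistZeroIso (CohB1.polyGrading n (ULift.{u} ℤ)) ≪≫
        eqToIso (congrArg (Twist.twistProjSpace n (ULift.{u} ℤ)) (by simp))⟩
    | succ m ih =>
      obtain ⟨a⟩ := ih
      obtain ⟨b⟩ := ProjTwist.nonempty_twistProjSpace_tensor n (ULift.{u} ℤ) ((m : ℤ) * d) d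
      exact ⟨ProjTwist.tensCongr a (Iso.refl _) ≪≫ b ≪≫
        eqToIso (congrArg (Twist.twistProjSpace n (ULift.{u} ℤ)) (by push_cast; ring))⟩
  obtain ⟨a⟩ := h k
  obtain ⟨b⟩ := exists_iso_pullback_tensorPow
    (pullback.fst (CohB1.ProjSpace.toSpec n (ULift.{u} ℤ)) (specULiftZIsTerminal.from Y))
    (ProjTwist.isInvertible_twistProjSpace n (ULift.{u} ℤ) d) k
  exact ⟨b.symm ≪≫ (Scheme.Modules.pullback _).mapIso a⟩

/-- `O(1)^k ⊗ O(-k) ≅ O` on `P^n_Y`. -/
theorem nonempty_tensorPow_one_tensor_neg (n : ℕ) (Y : Scheme.{u}) (k : ℕ) :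
    Nonempty (CohB1.tensorMod (CohB1.tensorPow (Twist.twistOver n Y 1) k)
      (Twist.twistOver n Y (-(k : ℤ))) ≅ Coh.structureModule (CohB1.ProjSpaceOver n Y)) := by
  obtain ⟨a⟩ := nonempty_tensorPow_twistOver n Y 1 k
  obtain ⟨b⟩ := ProjTwist.nonempty_twistProjSpace_tensor n (ULift.{u} ℤ) ((k : ℤ) * 1) (-(k : ℤ))
  let q := pullback.fst (CohB1.ProjSpace.toSpec n (ULift.{u} ℤ)) (specULiftZIsTerminal.from Y)
  exact ⟨ProjTwist.tensCongr a (Iso.refl _) ≪≫ (KFlat.PullTensor.pullTensorIso q _ _).symm ≪≫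
    (Scheme.Modules.pullback q).mapIso (b ≪≫
      eqToIso (congrArg (Twist.twistProjSpace n (ULift.{u} ℤ)) (by simp)) ≪≫
      (ProjTwist.twistZeroIso (CohB1.polyGrading n (ULift.{u} ℤ))).symm) ≪≫
    QCoh.pullbackUnitIso q⟩

end Groth.Agent.GrModLib
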